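import Cfsg.Agent.H386.HalfTwo.Count
import Cfsg.Agent.H57.TTRee
import Cfsg.Agent.H57.TTOut
import Cfsg.Agent.S2127

/-!
# `(2+1/2)`-transitive groups: the row `²G₂(q)` (task 1265)

`|G_ab| = (q - 1) d`, `d = |G : T|` odd and at most `2 k + 1`; an involution fixes `f` points, `f (f - 1) = q (q + 1) i`,
`i` the number of involutions of `G_ab`. So `f ≥ 3`, the length `m` of the orbits of `G_ab` is odd, an involution of `G_ab`
fixes a point in each of them: `(f - 2) m ≥ n - 2`, which is impossible.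
-/

set_option autoImplicit false
set_option linter.unusedSectionVars false

namespace Cfsg.Agent.H528.HalfRee

open MulAction Cfsg.Agent.H384.TwoTrans Cfsg.Agent.H386.HalfTwo

universe u v

variable {G : Type u} {Ω : Type v} [Group G] [MulAction G Ω] {T : Subgroup G} {m : ℕ}

theorem ncard_fix_conj (g t : G) : {x : Ω | (g * t * g⁻¹) • x = x}.ncard = {x : Ω | t • x = x}.ncard := by
  have h : {x : Ω | (g * t * g⁻¹) • x = x} = (fun x => g • x) '' {x : Ω | t • x = x} := by
    ext x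
    constructor
    · intro hx
      refine ⟨g⁻¹ • x, ?_, smul_inv_smul g x⟩
      have hx' : (g * t * g⁻¹) • x = x := hx
      show t • g⁻¹ • x = g⁻¹ • x
      rw [eq_inv_smul_iff, ← mul_smul, ← mul_smul]
      rwa [mul_assoc] at hx'
    · rintro ⟨y, hy, rfl⟩
      have hy' : t • y = y := hy
      show (g * t * g⁻¹) • g • y = g • y
      rw [mul_smul, inv_smul_smul, mul_smul, hy']
  rw [h]
  exact Set.ncard_image_of_injective _ (fun x y hxy => smul_left_cancel g hxy)

/-- Elements of order 2 lie in normal subgroups of odd index. -/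
theorem mem_of_odd_index [Finite G] [T.Normal] (hd : ¬ 2 ∣ T.index) {t : G} (ht : orderOf t = 2) : t ∈ T := by
  have h1 : orderOf (t : G ⧸ T) ∣ 2 := by
    rw [← ht]
    exact orderOf_map_dvd (QuotientGroup.mk' T) t
  have h2 : orderOf (t : G ⧸ T) ∣ T.index := orderOf_dvd_natCard _
  rcases (Nat.dvd_prime Nat.prime_two).1 h1 with h | h
  · rw [orderOf_eq_one_iff, QuotientGroup.eq_one_iff] at h
    exact h
  · exact absurd (h ▸ h2) hd

/-- The final estimate. -/
theorem num {q d e F m i : ℕ} (hq : q = 3 ^ e) (he : 3 ≤ e) (hd0 : 0 < d) (hde : d ≤ e)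
    (h1 : q ^ 2 * (q ^ 2 - q + 1) * (F * (F - 1)) = (q ^ 3 + 1) * (q ^ 3 + 1 - 1) * i) (hi : i ≤ (q - 1) * d)
    (hF : q ^ 3 + 1 - 2 ≤ (F - 2) * m) (hm : m ≤ (q - 1) * d) : False := by
  have hcube : ∀ j : ℕ, (j + 3) ^ 3 ≤ 3 ^ (j + 3) := by
    intro j
    induction j with
    | zero => norm_num
    | succ j ih =>
      have h2 : (j + 1 + 3) ^ 3 ≤ 3 * (j + 3) ^ 3 := by ring_nf; nlinarith
      calc (j + 1 + 3) ^ 3 ≤ 3 * (j + 3) ^ 3 := h2
        _ ≤ 3 * 3 ^ (j + 3) := by omega
        _ = 3 ^ (j + 1 + 3) := by ring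
  obtain ⟨j, rfl⟩ : ∃ j, e = j + 3 := ⟨e - 3, by omega⟩
  have hqd : d ^ 3 ≤ q := by
    rw [hq]
    exact (Nat.pow_le_pow_left hde 3).trans (hcube j)
  have hq27 : 27 ≤ q := by
    rw [hq]
    calc 27 = 3 ^ 3 := by norm_num
      _ ≤ _ := Nat.pow_le_pow_right (by norm_num) (by omega)
  clear hq hcube
  obtain ⟨r, rfl⟩ : ∃ r, q = r + 1 := ⟨q - 1, by omega⟩
  have e1 : (r + 1) ^ 2 - (r + 1) + 1 = r * (r + 1) + 1 := by
    have : (r + 1) ^ 2 = r * (r + 1) + (r + 1) := by ring
    omega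
  rw [e1] at h1
  simp only [Nat.add_sub_cancel] at h1 hi hm
  have e2 : (r + 1) ^ 3 + 1 = (r + 2) * (r * (r + 1) + 1) := by ring
  have h2 : F * (F - 1) = (r + 1) * (r + 2) * i := by
    have hpos : 0 < (r + 1) ^ 2 * (r * (r + 1) + 1) := by positivity
    apply Nat.eq_of_mul_eq_mul_left hpos
    rw [h1, e2]
    ring
  have e3 : (r + 1) ^ 3 + 1 - 2 = r * ((r + 1) ^ 2 + (r + 1) + 1) := by
    have : (r + 1) ^ 3 = r * ((r + 1) ^ 2 + (r + 1) + 1) + 1 := by ring
    omega
  rw [e3] at hF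
  have h3 : (r + 1) ^ 2 + (r + 1) + 1 ≤ (F - 2) * d := by
    have hr : 0 < r := by omega
    have h4 : r * ((r + 1) ^ 2 + (r + 1) + 1) ≤ r * ((F - 2) * d) := by
      calc r * ((r + 1) ^ 2 + (r + 1) + 1) ≤ (F - 2) * m := hF
        _ ≤ (F - 2) * (r * d) := Nat.mul_le_mul_left _ hm
        _ = r * ((F - 2) * d) := by ring
    exact Nat.le_of_mul_le_mul_left h4 hr
  set Q := (r + 1) ^ 2 + (r + 1) + 1 with hQ
  have h4 : Q ≤ F * d := h3.trans (Nat.mul_le_mul_right _ (Nat.sub_le _ _))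
  have h5 : Q ≤ (F - 1) * d := h3.trans (Nat.mul_le_mul_right _ (by omega))
  have h6 : Q * Q ≤ (F * (F - 1)) * (d * d) := by
    calc Q * Q ≤ (F * d) * ((F - 1) * d) := Nat.mul_le_mul h4 h5
      _ = _ := by ring
  have h7 : (F * (F - 1)) * (d * d) ≤ ((r + 1) * (r + 2) * (r * d)) * (d * d) := by
    rw [h2]
    exact Nat.mul_le_mul_right _ (Nat.mul_le_mul_left _ hi)
  have h8 : ((r + 1) * (r + 2) * (r * d)) * (d * d) ≤ (r + 1) * (r + 2) * r * (r + 1) := by
    calc ((r + 1) * (r + 2) * (r * d)) * (d * d) = (r + 1) * (r + 2) * r * d ^ 3 := by ring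
      _ ≤ _ := Nat.mul_le_mul_left _ hqd
  have h9 : (r + 1) * (r + 2) * r * (r + 1) < Q * Q := by
    rw [hQ]
    nlinarith [sq_nonneg r]
  omega

theorem ree (A : AS G Ω T) (H : Half G Ω m) {K : Type} [Field K] [Fintype K] {k : ℕ} (hk : 1 ≤ k)
    (hK : Fintype.card K = 3 ^ (2 * k + 1)) (e : Nonempty (T ≃* ↥(Cfsg.Lie.twistedG2 K (3 ^ k))))
    (hn : Nat.card Ω = Fintype.card K ^ 3 + 1) : False := by
  classical
  have := A.finG
  have := A.finΩ
  have := A.faithful
  have := A.normal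
  obtain ⟨e⟩ := e
  set q := 3 ^ (2 * k + 1) with hq
  rw [hK] at hn
  have hq27 : 27 ≤ q := by
    rw [hq]
    calc 27 = 3 ^ 3 := by norm_num
      _ ≤ _ := Nat.pow_le_pow_right (by norm_num) (by omega)
  have hq3 : 27 ≤ q ^ 3 := hq27.trans (Nat.le_self_pow (by norm_num) q)
  -- orders
  have hT : Nat.card T = q ^ 3 * (q - 1) * (q ^ 3 + 1) := by
    rw [Nat.card_congr e.toEquiv]
    exact Cfsg.Agent.ChevalleyStructure.ReeCount.card_twistedG2 hK
  have hTpos : 0 < Nat.card T := Nat.card_pos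
  set d := T.index with hd
  have hGd : Nat.card T * d = Nat.card G := T.card_mul_index
  have hdk : d ∣ 2 * k + 1 := by
    have h4 := Cfsg.Agent.H57.TTOut.AS.card_dvd A e
    rw [Cfsg.Agent.S2127.result hk hK, ← hGd] at h4
    exact Nat.dvd_of_mul_dvd_mul_left hTpos h4
  have hdle : d ≤ 2 * k + 1 := Nat.le_of_dvd (by omega) hdk
  have hdodd : ¬ 2 ∣ d := fun h => by
    have := h.trans hdk
    omega
  have hd0 : 0 < d := Nat.pos_of_ne_zero (by rintro h; rw [h] at hdodd; exact hdodd (dvd_zero 2))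
  -- the class of involutions
  set C : Set G := {t | orderOf t = 2} with hC
  have hCT : ∀ t ∈ C, t ∈ T := fun t ht => mem_of_odd_index hdodd ht
  have hCcard : C.ncard = q ^ 2 * (q ^ 2 - q + 1) := by
    have h1 : C = T.subtype '' {x : T | orderOf x = 2} := by
      ext t
      constructor
      · intro ht
        have ht' : orderOf t = 2 := ht
        exact ⟨⟨t, hCT t ht⟩, by
          show orderOf (⟨t, hCT t ht⟩ : T) = 2
          rw [Subgroup.orderOf_mk]; exact ht', rfl⟩
      · rintro ⟨x, hx, rfl⟩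
        have hx' : orderOf x = 2 := hx
        show orderOf (x : G) = 2
        rw [Subgroup.orderOf_coe]; exact hx'
    rw [h1, Set.ncard_image_of_injective _ T.subtype_injective]
    have h2 := (Cfsg.Agent.S2357.result hk hK).1
    rw [← hq] at h2
    rw [← h2]
    show Nat.card {x : T // orderOf x = 2} = _
    exact Nat.card_congr (e.toEquiv.subtypeEquiv (fun x => by
      show orderOf x = 2 ↔ orderOf (e x) = 2
      rw [MulEquiv.orderOf_eq]))
  have hCconj : ∀ t ∈ C, ∀ g : G, g * t * g⁻¹ ∈ C := by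
    intro t ht g
    have ht' : orderOf t = 2 := ht
    show orderOf (g * t * g⁻¹) = 2
    rw [← ht']
    exact MulEquiv.orderOf_eq (MulAut.conj g) t
  have hCone : ∀ s ∈ C, ∀ t ∈ C, ∃ g : G, g * s * g⁻¹ = t := by
    intro s hs t ht
    have hs' : orderOf s = 2 := hs
    have ht' : orderOf t = 2 := ht
    obtain ⟨c, hc⟩ := isConj_iff.1 (Cfsg.Agent.H57.TTRee.ree_conj hk hK (e ⟨s, hCT s hs⟩) (e ⟨t, hCT t ht⟩)
      (by rw [MulEquiv.orderOf_eq, Subgroup.orderOf_mk]; exact hs')
      (by rw [MulEquiv.orderOf_eq, Subgroup.orderOf_mk]; exact ht'))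
    refine ⟨((e.symm c : T) : G), ?_⟩
    have h1 : e.symm c * ⟨s, hCT s hs⟩ * (e.symm c)⁻¹ = ⟨t, hCT t ht⟩ := by
      apply e.injective
      rw [map_mul, map_mul, map_inv, e.apply_symm_apply, hc]
    exact congrArg Subtype.val h1
  -- two points and the order of the stabiliser
  have hnt : Nontrivial Ω := Finite.one_lt_card_iff_nontrivial.1 (by rw [hn]; omega)
  obtain ⟨a, b, hab⟩ := exists_pair_ne Ω
  have hGG : Nat.card (GG G a b) = (q - 1) * d := by
    have h1 := card_eq A.two hab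
    rw [← hGd, hT, hn] at h1
    have hpos : 0 < (q ^ 3 + 1) * (q ^ 3 + 1 - 1) := Nat.mul_pos (by omega) (by omega)
    apply Nat.eq_of_mul_eq_mul_left hpos
    rw [← h1, Nat.add_sub_cancel]
    ring
  have hGG2 : 2 ∣ Nat.card (GG G a b) := by
    rw [hGG]
    refine Dvd.dvd.mul_right ?_ _
    have hodd : q % 2 = 1 := by
      rw [hq]
      exact Nat.odd_iff.1 (Odd.pow (by decide))
    omega
  have hGG4 : ¬ 4 ∣ Nat.card (GG G a b) := by
    rw [hGG]
    have h1 : q % 4 = 3 := by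
      rw [hq, pow_succ, pow_mul]
      have : (3 ^ 2) ^ k % 4 = 1 := by
        rw [Nat.pow_mod]
        norm_num
      omega
    intro h4
    obtain ⟨z, hz⟩ : ∃ z, q = 4 * z + 3 := ⟨q / 4, by omega⟩
    rw [hz] at h4
    have h5 : 4 * z + 3 - 1 = 2 * (2 * z + 1) := by omega
    rw [h5, mul_assoc] at h4
    have h6 : 2 ∣ (2 * z + 1) * d := by
      have : 2 * 2 ∣ 2 * ((2 * z + 1) * d) := h4
      exact Nat.dvd_of_mul_dvd_mul_left (by norm_num) this
    rcases (Nat.prime_two.dvd_mul).1 h6 with h7 | h7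
    · omega
    · exact hdodd h7
  -- an involution fixing `a` and `b`
  have hp2 : Fact (Nat.Prime 2) := ⟨Nat.prime_two⟩
  obtain ⟨t0, ht0⟩ := exists_prime_orderOf_dvd_card' 2 hGG2
  set t : G := (t0 : G) with htdef
  have ht2 : orderOf t = 2 := by rw [htdef, Subgroup.orderOf_coe, ht0]
  have htC : t ∈ C := ht2
  have htab := mem_GG.1 t0.2
  set F := {x : Ω | t • x = x}.ncard with hF
  have hφ : ∀ s ∈ C, {x : Ω | s • x = x}.ncard = F := by
    intro s hs
    obtain ⟨g, rfl⟩ := hCone t htC s hs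
    exact ncard_fix_conj g t
  set i := {s : G | s ∈ C ∧ s • a = a ∧ s • b = b}.ncard with hi
  have hcount : C.ncard * (F * (F - 1)) = Nat.card Ω * (Nat.card Ω - 1) * i :=
    fix_count (fun a b c d hab hcd => Cfsg.Agent.H384.TwoTrans.two_pts A.two a b c d hab hcd) C hCconj hφ hab
  rw [hCcard, hn] at hcount
  have hile : i ≤ (q - 1) * d := by
    rw [← hGG, hi]
    have h1 : {s : G | s ∈ C ∧ s • a = a ∧ s • b = b} ⊆ (GG G a b : Set G) := by
      rintro s ⟨-, h2, h3⟩
      exact mem_GG.2 ⟨h2, h3⟩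
    exact Set.ncard_le_ncard h1 (Set.toFinite _)
  have hi1 : 1 ≤ i := by
    rw [hi, Nat.one_le_iff_ne_zero]
    intro h0
    rw [Set.ncard_eq_zero] at h0
    have : t ∈ ({s : G | s ∈ C ∧ s • a = a ∧ s • b = b} : Set G) := ⟨htC, htab.1, htab.2⟩
    rw [h0] at this
    exact this
  have hF3 : 3 ≤ F := by
    by_contra hlt
    push Not at hlt
    have h1 : F * (F - 1) ≤ 2 := by interval_cases F <;> omega
    have h2 : q ^ 2 * (q ^ 2 - q + 1) * (F * (F - 1)) ≤ q ^ 2 * (q ^ 2 - q + 1) * 2 := Nat.mul_le_mul_left _ h1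
    rw [hcount] at h2
    have h3 : (q ^ 3 + 1) * (q ^ 3 + 1 - 1) ≤ (q ^ 3 + 1) * (q ^ 3 + 1 - 1) * i := Nat.le_mul_of_pos_right _ hi1
    have h4 : q ^ 2 * (q ^ 2 - q + 1) * 2 ≤ q ^ 2 * (q ^ 2) * 2 := by
      apply Nat.mul_le_mul_right
      apply Nat.mul_le_mul_left
      have : q ≤ q ^ 2 := Nat.le_self_pow (by norm_num) q
      omega
    have h5 : q ^ 2 * (q ^ 2) * 2 < (q ^ 3 + 1) * (q ^ 3 + 1 - 1) := by
      rw [Nat.add_sub_cancel]
      have h6 : q ^ 2 * (q ^ 2) * 2 ≤ q ^ 3 * (q ^ 3) := by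
        calc q ^ 2 * (q ^ 2) * 2 = q ^ 4 * 2 := by ring
          _ ≤ q ^ 4 * q ^ 2 := Nat.mul_le_mul_left _ (by nlinarith)
          _ = q ^ 3 * q ^ 3 := by ring
      have h7 : (q ^ 3 + 1) * q ^ 3 = q ^ 3 * q ^ 3 + q ^ 3 := by ring
      omega
    omega
  -- a third fixed point: `m` is odd
  obtain ⟨c, hct, hca, hcb⟩ : ∃ c : Ω, t • c = c ∧ c ≠ a ∧ c ≠ b := by
    by_contra hcon
    push Not at hcon
    have h1 : {x : Ω | t • x = x} ⊆ {a, b} := by
      intro x hx
      by_cases hxa : x = a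
      · exact Or.inl hxa
      · exact Or.inr (hcon x hx hxa)
    have h2 := Set.ncard_le_ncard h1 (Set.toFinite _)
    rw [Set.ncard_pair hab] at h2
    omega
  have hmo := H.orb a b c hab hca hcb
  have hms : m * Nat.card (stabilizer (GG G a b) c) = Nat.card (GG G a b) := by
    rw [← hmo, Nat.card_coe_set_eq, ← index_stabilizer, mul_comm]
    exact Subgroup.card_mul_index _
  have h2s : 2 ∣ Nat.card (stabilizer (GG G a b) c) := by
    have h1 : t0 ∈ stabilizer (GG G a b) c := hct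
    have h2 := orderOf_dvd_natCard (⟨t0, h1⟩ : stabilizer (GG G a b) c)
    rw [Subgroup.orderOf_mk, ht0] at h2
    exact h2
  have hm2 : ¬ 2 ∣ m := by
    intro h1
    apply hGG4
    rw [← hms]
    exact Nat.mul_dvd_mul h1 h2s
  have hmle : m ≤ (q - 1) * d := by
    rw [← hGG]
    refine Nat.le_of_dvd Nat.card_pos ⟨_, hms.symm⟩
  -- every orbit contains a fixed point of `t`
  have hcover : Nat.card Ω - 2 ≤ (F - 2) * m := by
    have hft : Fintype Ω := Fintype.ofFinite Ω
    let S : Finset Ω := Finset.univ.filter fun x => t • x = x ∧ x ≠ a ∧ x ≠ b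
    let f : Ω → Finset Ω := fun x => Finset.univ.filter fun y => y ∈ orbit (GG G a b) x
    have hS : S.card = F - 2 := by
      have h1 : (Finset.univ.filter fun x : Ω => t • x = x) = insert a (insert b S) := by
        ext x
        simp only [Finset.mem_filter, Finset.mem_univ, true_and, Finset.mem_insert, S]
        constructor
        · intro hx
          by_cases hxa : x = a
          · exact Or.inl hxa
          by_cases hxb : x = b
          · exact Or.inr (Or.inl hxb)
          · exact Or.inr (Or.inr ⟨hx, hxa, hxb⟩)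
        · rintro (rfl | rfl | hx)
          · exact htab.1
          · exact htab.2
          · exact hx.1
      have h2 : F = (Finset.univ.filter fun x : Ω => t • x = x).card := by
        rw [hF, Set.ncard_eq_toFinset_card', Set.toFinset_ofPred]
      rw [h2, h1, Finset.card_insert_of_notMem, Finset.card_insert_of_notMem]
      · rfl
      · simp [S]
      · simp [S, hab]
    have hf : ∀ x ∈ S, (f x).card ≤ m := by
      intro x hx
      have hx' : t • x = x ∧ x ≠ a ∧ x ≠ b := by simpa [S] using hx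
      have h1 := H.orb a b x hab hx'.2.1 hx'.2.2
      rw [Nat.card_coe_set_eq, Set.ncard_eq_toFinset_card'] at h1
      rw [← h1]
      apply le_of_eq
      congr 1
      ext y
      simp [f]
    have h3 := Finset.card_biUnion_le_card_mul S f m hf
    rw [hS] at h3
    refine le_trans ?_ h3
    have h4 : Nat.card Ω - 2 = ({a, b}ᶜ : Finset Ω).card := by
      rw [Finset.card_compl, Finset.card_pair hab, Nat.card_eq_fintype_card]
    rw [h4]
    apply Finset.card_le_card
    intro y hy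
    have hy' : y ≠ a ∧ y ≠ b := by simpa using hy
    have hPz : IsPGroup 2 (Subgroup.zpowers t) := by
      apply IsPGroup.of_card (n := 1)
      rw [Nat.card_zpowers, ht2, pow_one]
    have hzle : Subgroup.zpowers t ≤ GG G a b := by
      rw [Subgroup.zpowers_le]
      exact t0.2
    obtain ⟨z, hz, hzt⟩ := H.exists_fix hab hy'.1 hy'.2 Nat.prime_two hm2 hPz hzle
    have hzt' := hzt t (Subgroup.mem_zpowers t)
    rw [Finset.mem_biUnion]
    refine ⟨z, ?_, ?_⟩
    · obtain ⟨u, rfl⟩ := hz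
      have hu := mem_GG.1 u.2
      simp only [S, Finset.mem_filter, Finset.mem_univ, true_and]
      exact ⟨hzt', ne_of_smul hu.1 hy'.1, ne_of_smul hu.2 hy'.2⟩
    · simp only [f, Finset.mem_filter, Finset.mem_univ, true_and]
      exact (orbit_eq_iff.2 hz) ▸ mem_orbit_self y
  rw [hn] at hcover
  exact num (e := 2 * k + 1) hq (by omega) hd0 hdle hcount hile hcover hmle

end Cfsg.Agent.H528.HalfRee
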