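import Cfsg.Agent.H286.RowOf
import Cfsg.Agent.H286.Chain
import Cfsg.Agent.UGT.U2.FOne.Rows

/-!
# The row lemma for `E₆(q)`, `E₇(q)`, `E₈(q)`, `F₄(q)`, `²E₆(q)`, `q` odd

`row_e6`, `row_e7`, `row_e8`, `row_f4`, `row_twE6`
-/

set_option autoImplicit false
set_option linter.unusedSectionVars false

namespace Cfsg.Agent.H528.OddExc

open Cfsg Cfsg.Agent.UGT.U2.FOne Cfsg.Lie Cfsg.Agent.ChevalleyStructure
open CoxeterSystem Cfsg.Agent.ChevalleyStructure.CoxeterGeom Cfsg.Agent.Tits.Roots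
  Cfsg.Agent.ChevalleyStructure.CoxeterGeomTypes
open Cfsg.Agent.OddHalf.LongSL.Chev (chk_E6 chk_E7 chk_E8)
open Cfsg.Agent.H286.Row Cfsg.Agent.H286.Obs

/-! ### `E₆`, `E₇`, `E₈` -/

/-- `Row` from the chain theorem -/
theorem row_of_chain {p q : ℕ} [Fact p.Prime] (hp2 : p ≠ 2) {K : Type*} [Group K] [Finite K] [IsSimpleGroup K]
    {l : ℕ} {M : CoxeterMatrix (Fin l)} {A : Fin l → Fin l → ℤ} {h : IsCartan M A} {T : Subgroup K} {n : Fin l → K}
    {X : (Fin l → ℤ) → Subgroup K} (N : Nice p q M h T n X) {i0 i1 i2 i3 : Fin l} (n02 : i0 ≠ i2) (n13 : i1 ≠ i3)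
    (n03 : i0 ≠ i3) (a01 : A i0 i1 = -1) (a10 : A i1 i0 = -1) (a12 : A i1 i2 = -1) (a21 : A i2 i1 = -1)
    (a23 : A i2 i3 = -1) (a32 : A i3 i2 = -1) (h0 : ∀ k, k ≠ i0 → k ≠ i1 → A k i0 = 0)
    (h1 : ∀ k, k ≠ i0 → k ≠ i1 → k ≠ i2 → A k i1 = 0) : Row p K := by
  have := N.fin
  have hpo : Odd p := (Fact.out : p.Prime).odd_of_ne_two hp2
  exact H286.RowOf.row_of_obs hp2 N.rgd N.gen fun x φ σ J g H =>
    H286.Chain.obs_chain hpo H n02 n13 n03 a01 a10 a12 a21 a23 a32 h0 h1

/-- **`E₆(q)`** -/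
theorem row_e6 (F : Type) [Field F] [Fintype F] (p : ℕ) [Fact p.Prime] [CharP F p] (ho : Odd (Fintype.card F)) :
    Row p ↥(Lie.chevE6.group F) := by
  have hs : IsSimpleGroup ↥(Lie.chevE6.group F) := (S1054.result _ (by simp)).1
  exact row_of_chain (ADERows.ne_two ho) (nice_chev (p := p) isType_E6 F ho conn_E6 chk_E6)
    (i0 := 0) (i1 := 2) (i2 := 3) (i3 := 4) (by decide) (by decide) (by decide) (by decide +kernel)
    (by decide +kernel) (by decide +kernel) (by decide +kernel) (by decide +kernel) (by decide +kernel)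
    (by decide +kernel) (by decide +kernel)

/-- **`E₇(q)`** -/
theorem row_e7 (F : Type) [Field F] [Fintype F] (p : ℕ) [Fact p.Prime] [CharP F p] (ho : Odd (Fintype.card F)) :
    Row p ↥(Lie.chevE7.group F) := by
  have hs : IsSimpleGroup ↥(Lie.chevE7.group F) := (S1054.result _ (by simp)).1
  exact row_of_chain (ADERows.ne_two ho) (nice_chev (p := p) isType_E7 F ho conn_E7 chk_E7)
    (i0 := 6) (i1 := 5) (i2 := 4) (i3 := 3) (by decide) (by decide) (by decide) (by decide +kernel)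
    (by decide +kernel) (by decide +kernel) (by decide +kernel) (by decide +kernel) (by decide +kernel)
    (by decide +kernel) (by decide +kernel)

/-- **`E₈(q)`** -/
theorem row_e8 (F : Type) [Field F] [Fintype F] (p : ℕ) [Fact p.Prime] [CharP F p] (ho : Odd (Fintype.card F)) :
    Row p ↥(Lie.chevE8.group F) := by
  have hs : IsSimpleGroup ↥(Lie.chevE8.group F) := (S1054.result _ (by simp)).1
  exact row_of_chain (ADERows.ne_two ho) (nice_chev (p := p) isType_E8 F ho conn_E8 chk_E8)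
    (i0 := 7) (i1 := 6) (i2 := 5) (i3 := 4) (by decide) (by decide) (by decide) (by decide +kernel)
    (by decide +kernel) (by decide +kernel) (by decide +kernel) (by decide +kernel) (by decide +kernel)
    (by decide +kernel) (by decide +kernel)

/-! ### `F₄` -/

section FF

open Cfsg.Agent.Nodes.RGDChev Cfsg.Agent.Nodes.KindF
open Cfsg.Agent.KFacts.RgdChevCoord (TT XX nc)

/-- **`F₄(q)`** -/
theorem row_f4 (F : Type) [Field F] [Fintype F] (p : ℕ) [Fact p.Prime] [CharP F p] (ho : Odd (Fintype.card F)) :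
    Row p ↥(Lie.chevF4.group F) := by
  have hp2 : p ≠ 2 := ADERows.ne_two ho
  have hpo : Odd p := (Fact.out : p.Prime).odd_of_ne_two hp2
  have hs : IsSimpleGroup ↥(Lie.chevF4.group F) := (S1054.result _ (by simp)).1
  let cs := CoxeterMatrix.F₄.toCoxeterSystem
  have hW : Finite CoxeterMatrix.F₄.Group := finite_W isType cs
  refine H286.RowOf.row_of_obs hp2 (rgd isType cs p) (G1_eq_top isType cs) fun x φ σ J g N => ?_
  have hσ := FFour.sigma_id hp2 N
  have hJ := FFour.J_empty hp2 N (fun j hj r hA hx => N.false_of_natJ hj hA hx)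
  subst hJ
  exact H286.Chain.obs_two hpo N (i := 0) (j := 1) (by simp) (by simp) (hσ 0) (hσ 1) (by decide +kernel)
    (by decide +kernel) (fun k hk => absurd hk (Set.notMem_empty k)) (fun k hk => absurd hk (Set.notMem_empty k))

end FF

/-! ### `²E₆` -/

section TwE

open Cfsg.Agent.Nodes.RGDTwE6

/-- **`²E₆(q)`** -/
theorem row_twE6 (F : Type) [Field F] [Fintype F] (p : ℕ) [Fact p.Prime] [CharP F p] (q : ℕ) (hqp : IsPrimePow q)
    (ho : Odd q) (hK : Fintype.card F = q ^ 2) : Row p ↥(Lie.twistedE6 F q) := by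
  obtain ⟨φ, hφ, hqq⟩ := ChevalleyStructure.TwE6Basic.exists_frob hqp hK
  have hF : Odd (Fintype.card F) := by
    rw [hK]
    exact ho.pow
  have hp2 : p ≠ 2 := ADERows.ne_two hF
  have hpo : Odd p := (Fact.out : p.Prime).odd_of_ne_two hp2
  have hs : IsSimpleGroup ↥(Lie.twistedE6 F q) := (Cfsg.Agent.S1070.result hqp hK).1
  let cs := CoxeterMatrix.F₄.toCoxeterSystem
  have hW : Finite CoxeterMatrix.F₄.Group := Cfsg.Agent.KFacts.TwESix.Comb.finiteW cs
  refine H286.RowOf.row_of_obs hp2 (rgd cs hφ hqq p) (G1_eq_top (cs := cs) hφ hqq) fun x φ' σ J g N => ?_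
  have hσ := TwESix.sigma_id hφ hqq p hqp.two_le hK N
  have hJ := TwESix.J_empty hφ hqq p hqp.two_le hK N
  subst hJ
  exact H286.Chain.obs_two hpo N (i := 0) (j := 1) (by simp) (by simp) (hσ 0) (hσ 1) (by decide +kernel)
    (by decide +kernel) (fun k hk => absurd hk (Set.notMem_empty k)) (fun k hk => absurd hk (Set.notMem_empty k))

end TwE

end Cfsg.Agent.H528.OddExc
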