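import Cfsg.Agent.Lib.FieldFour
import Cfsg.Agent.LieClassical.FieldTransfer
import Cfsg.Agent.S0279
import Cfsg.Agent.H674.SUTools
import Cfsg.Prelude.Def_SporadicB

/-!
# `PSU₄(2)`: the 2-central involutions are centres of extraspecial groups `2^{1+4}`
-/

set_option autoImplicit false
open Cfsg

universe u v

namespace Cfsg.Agent.H528.U42Extra

open Matrix Cfsg.Agent.Lib.FieldFour Cfsg.Agent.LieClassical Cfsg.Agent.H674.SUTools

theorem hF4 : Fintype.card F4 = 2 ^ 2 := rfl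

/-- the five generators of a Sylow 2-subgroup, and the central transvection -/
def X : Fin 6 → Matrix (Fin 4) (Fin 4) F4
  | 0 => !![F4.v, F4.w, F4.i, F4.o; F4.w, F4.v, F4.i, F4.o; F4.i, F4.i, F4.i, F4.o; F4.o, F4.o, F4.o, F4.i]
  | 1 => !![F4.v, F4.w, F4.v, F4.o; F4.w, F4.v, F4.v, F4.o; F4.w, F4.w, F4.i, F4.o; F4.o, F4.o, F4.o, F4.i]
  | 2 => !![F4.v, F4.w, F4.o, F4.i; F4.w, F4.v, F4.o, F4.i; F4.o, F4.o, F4.i, F4.o; F4.i, F4.i, F4.o, F4.i]
  | 3 => !![F4.v, F4.w, F4.o, F4.v; F4.w, F4.v, F4.o, F4.v; F4.o, F4.o, F4.i, F4.o; F4.w, F4.w, F4.o, F4.i]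
  | 4 => !![F4.i, F4.o, F4.o, F4.o; F4.o, F4.i, F4.o, F4.o; F4.o, F4.o, F4.o, F4.i; F4.o, F4.o, F4.i, F4.o]
  | 5 => !![F4.o, F4.i, F4.o, F4.o; F4.i, F4.o, F4.o, F4.o; F4.o, F4.o, F4.i, F4.o; F4.o, F4.o, F4.o, F4.i]

theorem det_X (i : Fin 6) : (X i).det = 1 := by
  revert i; decide +kernel

theorem isom_X (i : Fin 6) : (X i)ᵀ * (X i).map (fun x => x ^ 2) = 1 := by
  revert i; decide +kernel

/-- the elements of `SU₄(2)` -/
def g (i : Fin 6) : Cfsg.SU 4 F4 2 := mkSU hF4 (X i) (det_X i) (isom_X i)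

theorem cm_g (i : Fin 6) : cm (g i) = X i := rfl

/-- the change of basis -/
def P : Matrix (Fin 4) (Fin 4) F4 :=
  !![F4.i, F4.o, F4.o, F4.i; F4.i, F4.o, F4.o, F4.o; F4.o, F4.i, F4.i, F4.o; F4.o, F4.i, F4.o, F4.o]

def Q : Matrix (Fin 4) (Fin 4) F4 :=
  !![F4.o, F4.i, F4.o, F4.o; F4.o, F4.o, F4.o, F4.i; F4.o, F4.o, F4.i, F4.i; F4.i, F4.i, F4.o, F4.o]

theorem PQ : P * Q = 1 := by decide +kernel
theorem QP : Q * P = 1 := by decide +kernel

/-- upper unitriangular -/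
def UT (M : Matrix (Fin 4) (Fin 4) F4) : Prop := ∀ i j : Fin 4, i < j ∨ M i j = (1 : Matrix (Fin 4) (Fin 4) F4) i j

instance instDecUT (M : Matrix (Fin 4) (Fin 4) F4) : Decidable (UT M) :=
  @Nat.decidableForallFin 4 _ fun i =>
    (inferInstance : Decidable (∀ j : Fin 4, i < j ∨ M i j = (1 : Matrix (Fin 4) (Fin 4) F4) i j))

theorem o_eq : F4.o = 0 := rfl
theorem i_eq : F4.i = 1 := rfl

theorem ut_X : ∀ i : Fin 6, UT (Q * X i * P) := by decide +kernel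

theorem ut_eq {M : Matrix (Fin 4) (Fin 4) F4} (h : UT M) :
    M = !![1, M 0 1, M 0 2, M 0 3; 0, 1, M 1 2, M 1 3; 0, 0, 1, M 2 3; 0, 0, 0, 1] := by
  ext i j
  fin_cases i <;> fin_cases j <;> simp <;>
    exact ((h _ _).resolve_left (by decide)).trans (by decide)

theorem add_self : ∀ x : F4, x + x = 0 := by decide

theorem ut_mul {M N : Matrix (Fin 4) (Fin 4) F4} (hM : UT M) (hN : UT N) : UT (M * N) := by
  rw [ut_eq hM, ut_eq hN]
  intro i j
  fin_cases i <;> fin_cases j <;> first | (left; decide) | (right; simp [Matrix.mul_apply, Fin.sum_univ_four])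

theorem ut_sq {M : Matrix (Fin 4) (Fin 4) F4} (h : UT M) :
    M * M = !![1, 0, M 0 1 * M 1 2, M 0 1 * M 1 3 + M 0 2 * M 2 3; 0, 1, 0, M 1 2 * M 2 3; 0, 0, 1, 0; 0, 0, 0, 1] := by
  rw [ut_eq h]
  generalize M 0 1 = a, M 0 2 = b, M 0 3 = c, M 1 2 = d, M 1 3 = e, M 2 3 = f
  have h1 := add_self
  ext i j
  fin_cases i <;> fin_cases j <;> simp [Matrix.mul_apply, Fin.sum_univ_four, h1]
  · linear_combination h1 b
  · linear_combination h1 c
  · linear_combination h1 e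

theorem ut_four {M : Matrix (Fin 4) (Fin 4) F4} (h : UT M) : M ^ 4 = 1 := by
  have h2 : M ^ 4 = (M * M) * (M * M) := by
    rw [← pow_two M, ← pow_add]
  rw [h2, ut_sq h]
  generalize M 0 1 * M 1 2 = a, M 0 1 * M 1 3 + M 0 2 * M 2 3 = b, M 1 2 * M 2 3 = c
  have h1 := add_self
  ext i j
  fin_cases i <;> fin_cases j <;> simp [Matrix.mul_apply, Fin.sum_univ_four, h1]

theorem ut_one : UT (Q * 1 * P) := by decide +kernel

theorem conj_mul (A B : Matrix (Fin 4) (Fin 4) F4) : Q * (A * B) * P = (Q * A * P) * (Q * B * P) := by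
  calc Q * (A * B) * P = Q * A * 1 * B * P := by simp only [mul_one, mul_assoc]
    _ = (Q * A * P) * (Q * B * P) := by rw [← PQ]; simp only [mul_assoc]

theorem conj_pow (A : Matrix (Fin 4) (Fin 4) F4) (n : ℕ) : Q * (A ^ n) * P = (Q * A * P) ^ n := by
  induction n with
  | zero => rw [pow_zero, pow_zero, mul_one, QP]
  | succ n ih => rw [pow_succ, conj_mul, ih, pow_succ]

theorem four_of_ut {A : Matrix (Fin 4) (Fin 4) F4} (h : UT (Q * A * P)) : A ^ 4 = 1 := by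
  have h1 := ut_four h
  rw [← conj_pow] at h1
  calc A ^ 4 = P * (Q * A ^ 4 * P) * Q := by
        rw [← mul_assoc, ← mul_assoc, PQ, one_mul, mul_assoc, PQ, mul_one]
    _ = 1 := by rw [h1, mul_one, PQ]

/-- the unitriangular subgroup -/
def U : Subgroup (Cfsg.SU 4 F4 2) where
  carrier := {x | UT (Q * cm x * P)}
  one_mem' := by
    change UT (Q * cm 1 * P)
    rw [map_one]; exact ut_one
  mul_mem' := by
    intro a b ha hb
    change UT (Q * cm (a * b) * P)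
    rw [map_mul, conj_mul]
    exact ut_mul ha hb
  inv_mem' := by
    intro a ha
    have h1 : a ^ 4 = 1 := (cm_pow_eq_one_iff a 4).1 (four_of_ut ha)
    have h2 : a⁻¹ = a ^ 3 := by
      rw [inv_eq_iff_mul_eq_one, ← pow_succ', h1]
    change UT (Q * cm a⁻¹ * P)
    rw [h2, map_pow, conj_pow, pow_succ, pow_two]
    exact ut_mul (ut_mul ha ha) ha

theorem isPGroup_U : IsPGroup 2 U := by
  rintro ⟨a, ha⟩
  refine ⟨2, Subtype.ext ?_⟩
  exact (cm_pow_eq_one_iff a 4).1 (four_of_ut ha)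

theorem g_mem (i : Fin 6) : g i ∈ U := ut_X i

/-! ### the centralizer -/

/-- the key computation -/
theorem key : ∀ a b c d e f : F4,
    (let M : Matrix (Fin 4) (Fin 4) F4 := !![a, b, c, c; b, a, c, c; d, d, e, f; d, d, f, e]
     M * X 0 = X 0 * M → M * X 1 = X 1 * M → c = 0 ∧ d = 0 ∧ f = 0 ∧ e = a + b) := by
  decide +kernel

theorem key2 : ∀ a b : F4,
    (let M : Matrix (Fin 4) (Fin 4) F4 := !![a, b, 0, 0; b, a, 0, 0; 0, 0, a + b, 0; 0, 0, 0, a + b]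
     M.det = 1 → Mᵀ * M.map (fun x => x ^ 2) = 1 → M = 1 ∨ M = X 5) := by
  decide +kernel

/-- **the centralizer of the Sylow 2-subgroup** -/
theorem central {x : Cfsg.SU 4 F4 2} (h : ∀ y ∈ U, y * x = x * y) : x = 1 ∨ x = g 5 := by
  have hc : ∀ i : Fin 6, cm x * X i = X i * cm x := by
    intro i
    have h1 := congrArg cm (h (g i) (g_mem i))
    rw [map_mul, map_mul, cm_g] at h1
    exact h1.symm
  have hdet := det_cm x
  have hiso : (cm x)ᵀ * (cm x).map (fun x => x ^ 2) = 1 := cm_isom hF4 x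
  have hinj : ∀ y : Cfsg.SU 4 F4 2, cm x = cm y → x = y := fun y hy => cm_injective hy
  generalize cm x = M at hc hdet hiso hinj
  -- commuting with the two transpositions
  have h4 : ∀ i j : Fin 4, (M * X 4) i j = (X 4 * M) i j := fun i j => by rw [hc 4]
  have h5 : ∀ i j : Fin 4, (M * X 5) i j = (X 5 * M) i j := fun i j => by rw [hc 5]
  have e : M = !![M 0 0, M 0 1, M 0 2, M 0 2; M 0 1, M 0 0, M 0 2, M 0 2; M 2 0, M 2 0, M 2 2, M 2 3;
      M 2 0, M 2 0, M 2 3, M 2 2] := by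
    have a1 := h5 0 0
    have a2 := h5 0 1
    have a3 := h5 0 2
    have a4 := h5 0 3
    have a5 := h5 2 0
    have a6 := h5 3 0
    have b1 := h4 2 2
    have b2 := h4 2 3
    have b3 := h4 0 2
    have b4 := h4 1 2
    have b5 := h4 2 0
    have b6 := h4 2 1
    simp [Matrix.mul_apply, Fin.sum_univ_four, X, o_eq, i_eq] at a1 a2 a3 a4 a5 a6 b1 b2 b3 b4 b5 b6
    ext i j
    fin_cases i <;> fin_cases j <;> simp [*]
  rw [e] at hc hdet hiso hinj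
  obtain ⟨h1, h2, h3, h6⟩ := key _ _ _ _ _ _ (hc 0) (hc 1)
  rw [h1, h2, h3, h6] at hdet hiso hinj
  rcases key2 _ _ hdet hiso with h7 | h7
  · left
    exact hinj 1 (by rw [h7, map_one])
  · right
    exact hinj (g 5) h7

/-! ### the theorem -/

theorem rels : X 0 * X 1 = X 5 * (X 1 * X 0) ∧ X 2 * X 3 = X 5 * (X 3 * X 2) ∧ X 0 * X 5 = X 5 * X 0 ∧
    X 1 * X 5 = X 5 * X 1 ∧ X 2 * X 5 = X 5 * X 2 ∧ X 3 * X 5 = X 5 * X 3 ∧ X 0 * X 2 = X 2 * X 0 ∧
    X 0 * X 3 = X 3 * X 0 ∧ X 1 * X 2 = X 2 * X 1 ∧ X 1 * X 3 = X 3 * X 1 := by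
  decide +kernel

theorem extra_su {z : Cfsg.SU 4 F4 2} (hz : Cfsg.IsTwoCentralInvolution z) : ∃ x₁ y₁ x₂ y₂ : Cfsg.SU 4 F4 2,
    x₁ * y₁ = z * (y₁ * x₁) ∧ x₂ * y₂ = z * (y₂ * x₂) ∧ Commute x₁ z ∧ Commute y₁ z ∧ Commute x₂ z ∧
    Commute y₂ z ∧ Commute x₁ x₂ ∧ Commute x₁ y₂ ∧ Commute y₁ x₂ ∧ Commute y₁ y₂ := by
  have : Finite (Cfsg.SU 4 F4 2) := inferInstance
  have : Fact (Nat.Prime 2) := ⟨Nat.prime_two⟩
  obtain ⟨hz2, R, hzR, hR⟩ := hz
  obtain ⟨S, hS⟩ := isPGroup_U.exists_le_sylow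
  obtain ⟨c, hc⟩ := MulAction.exists_smul_eq (Cfsg.SU 4 F4 2) R S
  have h1 : ∀ y ∈ U, y * (c * z * c⁻¹) = (c * z * c⁻¹) * y := by
    intro y hy
    have h2 : y ∈ ((c • R : Sylow 2 (Cfsg.SU 4 F4 2)) : Subgroup (Cfsg.SU 4 F4 2)) := by
      rw [hc]; exact hS hy
    have h3 : c⁻¹ * y * c ∈ (R : Subgroup (Cfsg.SU 4 F4 2)) := by
      rw [Sylow.coe_subgroup_smul, Subgroup.mem_pointwise_smul_iff_inv_smul_mem] at h2
      simpa [MulAut.smul_def] using h2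
    have h4 := hR _ h3
    have h5 := congrArg (fun t => c * t * c⁻¹) h4
    simp only [mul_assoc, mul_inv_cancel_left, mul_inv_cancel, mul_one] at h5 ⊢
    exact h5
  have hne : c * z * c⁻¹ ≠ 1 := by
    intro h
    have : z = 1 := by
      have := congrArg (fun t => c⁻¹ * t * c) h
      simpa [mul_assoc] using this
    rw [this, orderOf_one] at hz2
    norm_num at hz2
  have h6 : c * z * c⁻¹ = g 5 := (central h1).resolve_left hne
  have h7 : z = c⁻¹ * g 5 * c := by rw [← h6]; group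
  have hco : ∀ a b : Cfsg.SU 4 F4 2, a * b = b * a → Commute (c⁻¹ * a * c) (c⁻¹ * b * c) := by
    intro a b h
    have h8 := congrArg (fun t => c⁻¹ * t * c) h
    change c⁻¹ * a * c * (c⁻¹ * b * c) = c⁻¹ * b * c * (c⁻¹ * a * c)
    simp only [mul_assoc, mul_inv_cancel_left] at h8 ⊢
    exact h8
  have hq : ∀ a b d : Cfsg.SU 4 F4 2, a * b = d * (b * a) →
      (c⁻¹ * a * c) * (c⁻¹ * b * c) = (c⁻¹ * d * c) * ((c⁻¹ * b * c) * (c⁻¹ * a * c)) := by
    intro a b d h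
    have h8 := congrArg (fun t => c⁻¹ * t * c) h
    simp only [mul_assoc, mul_inv_cancel_left] at h8 ⊢
    exact h8
  have hm : ∀ i j : Fin 6, X i * X j = X j * X i → g i * g j = g j * g i := fun i j h =>
    cm_injective (by rw [map_mul, map_mul]; exact h)
  have hm' : ∀ i j k : Fin 6, X i * X j = X k * (X j * X i) → g i * g j = g k * (g j * g i) := fun i j k h =>
    cm_injective (by rw [map_mul, map_mul, map_mul]; exact h)
  obtain ⟨r1, r2, r3, r4, r5, r6, r7, r8, r9, r10⟩ := rels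
  refine ⟨c⁻¹ * g 0 * c, c⁻¹ * g 1 * c, c⁻¹ * g 2 * c, c⁻¹ * g 3 * c, ?_, ?_, ?_, ?_, ?_, ?_,
    hco _ _ (hm _ _ r7), hco _ _ (hm _ _ r8), hco _ _ (hm _ _ r9), hco _ _ (hm _ _ r10)⟩
  all_goals rw [h7]
  · exact hq _ _ _ (hm' _ _ _ r1)
  · exact hq _ _ _ (hm' _ _ _ r2)
  · exact hco _ _ (hm _ _ r3)
  · exact hco _ _ (hm _ _ r4)
  · exact hco _ _ (hm _ _ r5)
  · exact hco _ _ (hm _ _ r6)

/-- `SU₄(2) ≅ PSU₄(2)` -/
noncomputable def toPSU : Cfsg.SU 4 F4 2 ≃* Cfsg.PSU 4 F4 2 :=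
  MulEquiv.ofBijective (QuotientGroup.mk' (Subgroup.center (Cfsg.SU 4 F4 2))) (by
    have h1 := Cfsg.Agent.S0279.result (F := F4) (q := 2) hF4 4 (by norm_num)
    rw [show Nat.gcd 4 (2 + 1) = 1 by norm_num] at h1
    refine ⟨?_, QuotientGroup.mk'_surjective _⟩
    rw [← MonoidHom.ker_eq_bot_iff, QuotientGroup.ker_mk', Subgroup.card_eq_one.1 h1])

/-- **`PSU₄(2)`: a 2-central involution is the centre of an extraspecial group `2^{1+4}`.** -/
theorem extra {A : Type u} [Group A] [Finite A] {F : Type v} [Field F] [Fintype F] (hF : Fintype.card F = 4)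
    (e : A ≃* Cfsg.PSU 4 F 2) (z : A) (hz : Cfsg.IsTwoCentralInvolution z) :
    ∃ x₁ y₁ x₂ y₂ : A, x₁ * y₁ = z * (y₁ * x₁) ∧ x₂ * y₂ = z * (y₂ * x₂) ∧ Commute x₁ z ∧ Commute y₁ z ∧
      Commute x₂ z ∧ Commute y₂ z ∧ Commute x₁ x₂ ∧ Commute x₁ y₂ ∧ Commute y₁ x₂ ∧ Commute y₁ y₂ := by
  have : Fact (Nat.Prime 2) := ⟨Nat.prime_two⟩
  let φ : A ≃* Cfsg.SU 4 F4 2 :=
    e.trans ((FieldTransfer.psuCongr 4 2 (equivOfCard hF)).trans toPSU.symm)
  have hz' : Cfsg.IsTwoCentralInvolution (φ z) := by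
    obtain ⟨h1, R, hzR, hR⟩ := hz
    refine ⟨(orderOf_injective φ.toMonoidHom φ.injective z).trans h1, ?_⟩
    refine ⟨R.mapSurjective (f := φ.toMonoidHom) φ.surjective, ?_, ?_⟩
    · exact ⟨z, hzR, rfl⟩
    · rintro _ ⟨y, hy, rfl⟩
      have := congrArg φ (hR y hy)
      simpa using this
  obtain ⟨x₁, y₁, x₂, y₂, h1, h2, h3, h4, h5, h6, h7, h8, h9, h10⟩ := extra_su hz'
  have hz1 : φ.symm (φ z) = z := φ.symm_apply_apply z
  refine ⟨φ.symm x₁, φ.symm y₁, φ.symm x₂, φ.symm y₂, ?_, ?_, ?_, ?_, ?_, ?_, h7.map φ.symm, h8.map φ.symm,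
    h9.map φ.symm, h10.map φ.symm⟩
  · have := congrArg φ.symm h1
    rwa [map_mul, map_mul, map_mul, hz1] at this
  · have := congrArg φ.symm h2
    rwa [map_mul, map_mul, map_mul, hz1] at this
  · exact hz1 ▸ h3.map φ.symm
  · exact hz1 ▸ h4.map φ.symm
  · exact hz1 ▸ h5.map φ.symm
  · exact hz1 ▸ h6.map φ.symm

end Cfsg.Agent.H528.U42Extra
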