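import Cfsg.Agent.H377.TwoConv.LSeven

/-!
# S4897: elements of `L₂(7)` (a four-group, an element of order 4, two classes of elements of order 7)
-/

set_option autoImplicit false

namespace Cfsg.Agent.H528.LSevenFacts

open Cfsg Cfsg.Agent.SmallSimple Cfsg.Agent.H377.TwoConv

theorem facts {G : Type*} [Group G] [Finite G] [IsSimpleGroup G] (h : Nat.card G = 168) :
    ∃ a b x s s' t : G, a * a = 1 ∧ b * b = 1 ∧ orderOf x = 4 ∧
      Nat.card (Subgroup.centralizer ({x} : Set G)) = 4 ∧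
      (∀ q, q = a ∨ q = b ∨ q = a * b → orderOf q = 2 ∧
        ∃ k, Nat.card (Subgroup.centralizer ({q} : Set G)) = 2 ^ k) ∧
      orderOf s = 7 ∧ orderOf s' = 7 ∧ ¬ IsConj s s' ∧ orderOf t = 3 := by
  have : Fact (Nat.Prime 7) := ⟨by norm_num⟩
  have : Fact (Nat.Prime 3) := ⟨by norm_num⟩
  obtain ⟨s, os⟩ := exists_prime_orderOf_dvd_card' (G := G) 7 (by rw [h]; norm_num)
  obtain ⟨t, ot⟩ := exists_prime_orderOf_dvd_card' (G := G) 3 (by rw [h]; norm_num)
  obtain ⟨r, hrT, hr⟩ := Simple168Classes.exists_four h (default : Sylow 2 G)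
  obtain ⟨b, hbT, hb, hbr⟩ := Simple168Classes.exists_involution_not_mem h default hrT hr
  have ha : orderOf (r ^ 2) = 2 := by rw [orderOf_pow, hr]; norm_num
  have ha2 : (r ^ 2) ^ 2 = 1 := by
    have := pow_orderOf_eq_one (r ^ 2)
    rwa [ha] at this
  have hb2 : b ^ 2 = 1 := by
    have := pow_orderOf_eq_one b
    rwa [hb] at this
  have hc : Commute (r ^ 2) b := by
    have h1 := Simple168Classes.sq_mem_center (K := ((default : Sylow 2 G) : Subgroup G))
      (Simple168.card_of_sylow_two h default) (r := ⟨r, hrT⟩) (by rw [← Subgroup.orderOf_coe]; exact hr)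
    have h2 := (Subgroup.mem_center_iff.1 h1) ⟨b, hbT⟩
    exact (congrArg Subtype.val h2).symm
  have hab : orderOf (r ^ 2 * b) = 2 := by
    apply orderOf_eq_prime
    · rw [hc.mul_pow, ha2, hb2, one_mul]
    · intro h1
      apply hbr
      rw [← inv_eq_of_mul_eq_one_right h1]
      exact inv_mem (pow_mem (Subgroup.mem_zpowers r) 2)
  have hcard : ∀ q : G, orderOf q = 2 → orderOf q = 2 ∧
      ∃ k, Nat.card (Subgroup.centralizer ({q} : Set G)) = 2 ^ k := fun q hq =>
    ⟨hq, 3, by rw [Simple168Classes.card_centralizer_two h q hq]; norm_num⟩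
  refine ⟨r ^ 2, b, r, s, s⁻¹, t, ?_, ?_, hr, Simple168Classes.card_centralizer_four h r hr, ?_, os,
    by rw [orderOf_inv, os], not_conj_inv_seven h os, ot⟩
  · rw [← pow_two, ha2]
  · rw [← pow_two, hb2]
  · rintro q (rfl | rfl | rfl)
    · exact hcard _ ha
    · exact hcard _ hb
    · exact hcard _ hab

theorem l7_facts : ∃ a b x s s' t : Matrix.ProjectiveSpecialLinearGroup (Fin 2) (ZMod 7), a * a = 1 ∧ b * b = 1 ∧
    orderOf x = 4 ∧
    Nat.card (Subgroup.centralizer ({x} : Set (Matrix.ProjectiveSpecialLinearGroup (Fin 2) (ZMod 7)))) = 4 ∧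
    (∀ q, q = a ∨ q = b ∨ q = a * b → orderOf q = 2 ∧
      ∃ k, Nat.card (Subgroup.centralizer ({q} : Set (Matrix.ProjectiveSpecialLinearGroup (Fin 2) (ZMod 7)))) =
        2 ^ k) ∧ orderOf s = 7 ∧ orderOf s' = 7 ∧ ¬ IsConj s s' ∧ orderOf t = 3 := by
  have := simple_L7
  exact facts card_l7

end Cfsg.Agent.H528.LSevenFacts
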