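import Cfsg.Agent.H528.CP

/-!
# No proper overgroups of simple groups of order 60 or 504 with small class sizes

If `E ⊴ G`, `E` is `Good`, `C_G(E) = 1` and all class sizes of `G` have at most two prime divisors, then `E = G`.
-/

set_option autoImplicit false
set_option linter.style.haveILetI false

namespace Cfsg.Agent.H528.CP

open Subgroup Cfsg.Agent.H528.ClassSize

variable {E : Type*} [Group E]

/-- The order of a Sylow 2-subgroup. -/
theorem Good.card_two (h : Good E) (T : Sylow 2 E) :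
    ∃ q : ℕ, Nat.card T = q ∧ Nat.card E = q * ((q - 1) * (q + 1)) ∧ (q - 1).Prime ∧ 4 ≤ q ∧
      (q = 4 ∨ q = 8) := by
  have := h.finite
  obtain ⟨n, hn⟩ := IsPGroup.iff_card.1 T.isPGroup'
  have h1 := Subgroup.card_mul_index (T : Subgroup E)
  have h2 := T.not_dvd_index
  rw [hn] at h1
  rcases h.card with h3 | h3
  · rw [h3] at h1
    have hn2 : n = 2 := by
      have hle : n < 6 := by
        by_contra hc
        have : 2 ^ 6 ∣ 60 := (pow_dvd_pow 2 (not_lt.1 hc)).trans (Dvd.intro _ h1)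
        omega
      interval_cases n <;> omega
    refine ⟨4, by rw [hn, hn2]; norm_num, by rw [h3], by norm_num, le_refl _, Or.inl rfl⟩
  · rw [h3] at h1
    have hn2 : n = 3 := by
      have hle : n < 9 := by
        by_contra hc
        have : 2 ^ 9 ∣ 504 := (pow_dvd_pow 2 (not_lt.1 hc)).trans (Dvd.intro _ h1)
        omega
      interval_cases n <;> omega
    refine ⟨8, by rw [hn, hn2]; norm_num, by rw [h3], by norm_num, by norm_num, Or.inr rfl⟩

/-- Distinct Sylow 2-subgroups meet trivially. -/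
theorem Good.inf_eq (h : Good E) {T S : Sylow 2 E} {x : E} (hT : x ∈ T) (hS : x ∈ S) (hx : x ≠ 1) :
    T = S := by
  apply Sylow.ext
  rw [← h.cent_eq T hT hx, ← h.cent_eq S hS hx]

/-- The normalizer of a Sylow 2-subgroup: a prime dividing its index over `T` is `q - 1`. -/
theorem Good.card_normalizer (h : Good E) (T : Sylow 2 E) {q : ℕ} (hq : Nat.card T = q)
    (hcard : Nat.card E = q * ((q - 1) * (q + 1))) (hqp : (q - 1).Prime) (hq4 : 4 ≤ q)
    (hq48 : q = 4 ∨ q = 8) :
    Nat.card (Subgroup.normalizer ((T : Subgroup E) : Set E)) = q * (q - 1) := by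
  have := h.finite
  have hsimple := h.simple
  set N := Subgroup.normalizer ((T : Subgroup E) : Set E) with hN
  have hTN : (T : Subgroup E) ≤ N := Subgroup.le_normalizer
  obtain ⟨k, hk⟩ := Subgroup.card_dvd_of_le hTN
  rw [hq] at hk
  have hkd : k ∣ (q - 1) * (q + 1) := by
    have h1 : q * k ∣ q * ((q - 1) * (q + 1)) := by
      rw [← hk, ← hcard]; exact Subgroup.card_subgroup_dvd_card N
    exact Nat.dvd_of_mul_dvd_mul_left (by omega) h1
  -- every prime divisor of `k` is `q - 1`
  have hprime : ∀ l : ℕ, l.Prime → l ∣ k → l = q - 1 := by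
    intro l hl hlk
    haveI : Fact l.Prime := ⟨hl⟩
    have hl2 : l ≠ 2 := by
      rintro rfl
      have h2 := hlk.trans hkd
      rcases hq48 with rfl | rfl <;> norm_num at h2
    obtain ⟨d, hd⟩ : ∃ d : N, orderOf d = l :=
      exists_prime_orderOf_dvd_card' l (hk ▸ (dvd_mul_of_dvd_right hlk q))
    -- the action of `⟨d⟩` on `T` by conjugation
    let f : Subgroup.zpowers d →* MulAut (T : Subgroup E) :=
      (Subgroup.normalizerMonoidHom (T : Subgroup E)).comp (Subgroup.subtype _)
    letI : MulAction (Subgroup.zpowers d) (T : Subgroup E) := MulAction.compHom _ f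
    have hpz : IsPGroup l (Subgroup.zpowers d) := by
      apply IsPGroup.of_card (n := 1)
      rw [Nat.card_zpowers, hd, pow_one]
    have hmod := hpz.card_modEq_card_fixedPoints (T : Subgroup E)
    have hfix : Nat.card (MulAction.fixedPoints (Subgroup.zpowers d) (T : Subgroup E)) = 1 := by
      rw [Nat.card_eq_one_iff_unique]
      refine ⟨⟨?_⟩, ⟨⟨1, ?_⟩⟩⟩
      · suffices H : ∀ a : MulAction.fixedPoints (Subgroup.zpowers d) (T : Subgroup E),
            (a : (T : Subgroup E)) = 1 by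
          intro a b
          apply Subtype.ext
          rw [H a, H b]
        rintro ⟨⟨t, ht⟩, hfx⟩
        by_contra hne
        have ht1 : t ≠ 1 := by
          rintro rfl
          exact hne rfl
        have h1 := hfx ⟨d, Subgroup.mem_zpowers d⟩
        have h2 : (d : E) * t * (d : E)⁻¹ = t := congrArg Subtype.val h1
        have h3 : (d : E) ∈ Subgroup.centralizer ({t} : Set E) := by
          rw [mem_cent]
          calc (d : E) * t = ((d : E) * t * (d : E)⁻¹) * d := by group
            _ = t * d := by rw [h2]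
        rw [h.cent_eq T ht ht1] at h3
        obtain ⟨m, hm⟩ := (IsPGroup.iff_orderOf.1 T.isPGroup') ⟨d, h3⟩
        rw [Subgroup.orderOf_mk, Subgroup.orderOf_coe, hd] at hm
        have h4 : l ∣ 2 ^ m := by rw [← hm]
        exact hl2 ((Nat.prime_dvd_prime_iff_eq hl Nat.prime_two).1 (hl.dvd_of_dvd_pow h4))
      · intro g
        exact map_one (f g)
    have hqm : q ≡ 1 [MOD l] := by
      rw [← hq]
      have : Nat.card (T : Subgroup E) = Nat.card T := rfl
      rw [← this]
      rw [hfix] at hmod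
      exact hmod
    have hlq : l ∣ q - 1 := (Nat.modEq_iff_dvd' (by omega)).1 hqm.symm
    exact (Nat.prime_dvd_prime_iff_eq hl hqp).1 hlq
  -- `k ≠ 1` by Burnside
  have hk1 : k ≠ 1 := by
    rintro rfl
    rw [mul_one] at hk
    have hNT : (T : Subgroup E) = N := Subgroup.eq_of_le_of_card_ge hTN (by rw [hk, ← hq])
    have hle : Subgroup.normalizer ((T : Subgroup E) : Set E) ≤
        Subgroup.centralizer ((T : Subgroup E) : Set E) := by
      rw [← hN, ← hNT]
      intro a ha
      rw [Subgroup.mem_centralizer_iff]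
      intro b hb
      exact h.ab 2 T b hb a ha
    have hc := MonoidHom.ker_transferSylow_isComplement' T hle
    have hcm := hc.card_mul_card
    rcases (MonoidHom.normal_ker (MonoidHom.transferSylow T hle)).eq_bot_or_eq_top with h1 | h1
    · rw [h1, Subgroup.card_bot, one_mul, hcard] at hcm
      have : Nat.card (T : Subgroup E) = q := hq
      rw [this] at hcm
      rcases hq48 with rfl | rfl <;> omega
    · rw [h1, Subgroup.card_top, hcard] at hcm
      have : Nat.card (T : Subgroup E) = q := hq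
      rw [this] at hcm
      rcases hq48 with rfl | rfl <;> omega
  rw [hk]
  congr 1
  rcases hq48 with rfl | rfl
  · have h1 : k ∈ Nat.divisors 15 := by
      rw [Nat.mem_divisors]; exact ⟨by simpa using hkd, by norm_num⟩
    have h2 : (Nat.divisors 15) = {1, 3, 5, 15} := by decide
    rw [h2] at h1
    simp only [Finset.mem_insert, Finset.mem_singleton] at h1
    rcases h1 with rfl | rfl | rfl | rfl
    · exact absurd rfl hk1
    · rfl
    · exact absurd (hprime 5 (by norm_num) (by norm_num)) (by norm_num)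
    · exact absurd (hprime 5 (by norm_num) (by norm_num)) (by norm_num)
  · have h1 : k ∈ Nat.divisors 63 := by
      rw [Nat.mem_divisors]; exact ⟨by simpa using hkd, by norm_num⟩
    have h2 : (Nat.divisors 63) = {1, 3, 7, 9, 21, 63} := by decide
    rw [h2] at h1
    simp only [Finset.mem_insert, Finset.mem_singleton] at h1
    rcases h1 with rfl | rfl | rfl | rfl | rfl | rfl
    · exact absurd rfl hk1
    · exact absurd (hprime 3 (by norm_num) (by norm_num)) (by norm_num)
    · rfl
    · exact absurd (hprime 3 (by norm_num) (by norm_num)) (by norm_num)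
    · exact absurd (hprime 3 (by norm_num) (by norm_num)) (by norm_num)
    · exact absurd (hprime 3 (by norm_num) (by norm_num)) (by norm_num)

theorem Good.card_sylow (h : Good E) (T : Sylow 2 E) {q : ℕ} (hq : Nat.card T = q)
    (hcard : Nat.card E = q * ((q - 1) * (q + 1))) (hqp : (q - 1).Prime) (hq4 : 4 ≤ q)
    (hq48 : q = 4 ∨ q = 8) : Nat.card (Sylow 2 E) = q + 1 := by
  have := h.finite
  have h1 := h.card_normalizer T hq hcard hqp hq4 hq48
  have h2 : Nat.card (Sylow 2 E) = (Subgroup.normalizer ((T : Subgroup E) : Set E)).index :=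
    Sylow.card_eq_index_normalizer T
  have h3 := Subgroup.card_mul_index (Subgroup.normalizer ((T : Subgroup E) : Set E))
  rw [h1, hcard] at h3
  rw [h2]
  have h4 : q * (q - 1) ≠ 0 := Nat.mul_ne_zero (by omega) hqp.ne_zero
  have h5 : q * (q - 1) * (Subgroup.normalizer ((T : Subgroup E) : Set E)).index =
      q * (q - 1) * (q + 1) := by rw [h3]; ring
  exact Nat.eq_of_mul_eq_mul_left (Nat.pos_of_ne_zero h4) h5

/-- All nonidentity elements of a Sylow 2-subgroup are conjugate (in its normalizer). -/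
theorem Good.conj (h : Good E) (T : Sylow 2 E) {u t : E} (hu : u ∈ T) (hu1 : u ≠ 1) (ht : t ∈ T)
    (ht1 : t ≠ 1) : ∃ g : E, g * u * g⁻¹ = t := by
  have := h.finite
  obtain ⟨q, hq, hcard, hqp, hq4, hq48⟩ := h.card_two T
  have h1 := h.card_normalizer T hq hcard hqp hq4 hq48
  haveI : Fact (q - 1).Prime := ⟨hqp⟩
  obtain ⟨d, hd⟩ : ∃ d : (Subgroup.normalizer ((T : Subgroup E) : Set E)), orderOf d = q - 1 :=
    exists_prime_orderOf_dvd_card' (q - 1) (h1 ▸ dvd_mul_left _ _)
  have hdn : ∀ (m : ℕ) (x : E), x ∈ T → (d : E) ^ m * x * ((d : E) ^ m)⁻¹ ∈ T := by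
    intro m x hx
    have h2 : (d : E) ^ m ∈ Subgroup.normalizer ((T : Subgroup E) : Set E) :=
      Subgroup.pow_mem _ d.2 m
    exact (Subgroup.mem_normalizer_iff.1 h2 x).1 hx
  let f : Fin (q - 1) → {t : (T : Subgroup E) // t ≠ 1} := fun m =>
    ⟨⟨(d : E) ^ (m : ℕ) * u * ((d : E) ^ (m : ℕ))⁻¹, hdn m u hu⟩, by
      intro h3
      have h4 : (d : E) ^ (m : ℕ) * u * ((d : E) ^ (m : ℕ))⁻¹ = 1 := congrArg Subtype.val h3
      exact hu1 (conj_eq_one_iff.1 h4)⟩
  have hq2 : ¬ (2 : ℕ) ∣ (q - 1) := by rcases hq48 with rfl | rfl <;> norm_num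
  have hle : ∀ a b : Fin (q - 1), (a : ℕ) ≤ b → f a = f b → a = b := by
    intro a b hab hf
    have h3 : (d : E) ^ (a : ℕ) * u * ((d : E) ^ (a : ℕ))⁻¹ =
        (d : E) ^ (b : ℕ) * u * ((d : E) ^ (b : ℕ))⁻¹ :=
      congrArg (fun z : {t : (T : Subgroup E) // t ≠ 1} => ((z : (T : Subgroup E)) : E)) hf
    have h4 : (d : E) ^ ((b : ℕ) - a) * u = u * (d : E) ^ ((b : ℕ) - a) := by
      have h5 : (d : E) ^ (b : ℕ) = (d : E) ^ (a : ℕ) * (d : E) ^ ((b : ℕ) - a) := by
        rw [← pow_add]; congr 1; omega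
      rw [h5] at h3
      have h6 : u = (d : E) ^ ((b : ℕ) - a) * u * ((d : E) ^ ((b : ℕ) - a))⁻¹ := by
        have h7 := congrArg (fun z => ((d : E) ^ (a : ℕ))⁻¹ * z * (d : E) ^ (a : ℕ)) h3
        simp only [mul_inv_rev] at h7
        have h8 : ((d : E) ^ (a : ℕ))⁻¹ * ((d : E) ^ (a : ℕ) * u * ((d : E) ^ (a : ℕ))⁻¹) *
            (d : E) ^ (a : ℕ) = u := by group
        rw [h8] at h7
        exact h7.trans (by group)
      calc (d : E) ^ ((b : ℕ) - a) * u
          = ((d : E) ^ ((b : ℕ) - a) * u * ((d : E) ^ ((b : ℕ) - a))⁻¹) * (d : E) ^ ((b : ℕ) - a) := by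
            group
        _ = u * (d : E) ^ ((b : ℕ) - a) := by rw [← h6]
    have h5 : (d : E) ^ ((b : ℕ) - a) ∈ (T : Subgroup E) := by
      have h6 : (d : E) ^ ((b : ℕ) - a) ∈ Subgroup.centralizer ({u} : Set E) := mem_cent.2 h4
      have h7 := h.cent_eq T hu hu1
      exact h7.le h6
    obtain ⟨m, hm⟩ := T.isPGroup' ⟨_, h5⟩
    have h6 : ((d : E) ^ ((b : ℕ) - a)) ^ 2 ^ m = 1 := congrArg Subtype.val hm
    rw [← pow_mul] at h6
    have h7 : (q - 1) ∣ ((b : ℕ) - a) * 2 ^ m := by
      have h8 := orderOf_dvd_of_pow_eq_one h6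
      rwa [Subgroup.orderOf_coe, hd] at h8
    have h8 : (q - 1) ∣ (b : ℕ) - a := by
      rcases (hqp.dvd_mul).1 h7 with h9 | h9
      · exact h9
      · exfalso
        have h10 := (Nat.prime_dvd_prime_iff_eq hqp Nat.prime_two).1 (hqp.dvd_of_dvd_pow h9)
        rcases hq48 with rfl | rfl <;> omega
    have h9 : (b : ℕ) - a = 0 := Nat.eq_zero_of_dvd_of_lt h8 (by omega)
    apply Fin.ext
    omega
  have hinj : Function.Injective f := by
    intro a b hf
    rcases le_total (a : ℕ) b with h3 | h3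
    · exact hle a b h3 hf
    · exact (hle b a h3 hf.symm).symm
  have hcT : Nat.card {t : (T : Subgroup E) // t ≠ 1} = q - 1 := by
    have h3 : Nat.card (T : Subgroup E) = q := hq
    classical
    letI : Fintype (T : Subgroup E) := Fintype.ofFinite _
    rw [← h3, Nat.card_eq_fintype_card, Nat.card_eq_fintype_card]
    simp
  have hbij : Function.Bijective f := by
    rw [Nat.bijective_iff_injective_and_card]
    exact ⟨hinj, by rw [Nat.card_fin, hcT]⟩
  obtain ⟨m, hm⟩ := hbij.2 ⟨⟨t, ht⟩, fun h3 => ht1 (congrArg Subtype.val h3)⟩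
  exact ⟨(d : E) ^ (m : ℕ),
    congrArg (fun z : {t : (T : Subgroup E) // t ≠ 1} => ((z : (T : Subgroup E)) : E)) hm⟩

/-- Sylow 2-subgroups are elementary abelian. -/
theorem Good.mul_self (h : Good E) (T : Sylow 2 E) {t : E} (ht : t ∈ T) : t * t = 1 := by
  have := h.finite
  by_cases ht1 : t = 1
  · rw [ht1, mul_one]
  obtain ⟨q, hq, hcard, hqp, hq4, hq48⟩ := h.card_two T
  obtain ⟨u, hu⟩ : ∃ u : (T : Subgroup E), orderOf u = 2 := by
    apply exists_prime_orderOf_dvd_card' 2
    have : Nat.card (T : Subgroup E) = q := hq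
    rw [this]
    rcases hq48 with rfl | rfl <;> norm_num
  have hu1 : (u : E) ≠ 1 := by
    intro h1
    rw [← Subgroup.orderOf_coe, h1, orderOf_one] at hu
    omega
  obtain ⟨g, hg⟩ := h.conj T u.2 hu1 ht ht1
  have hu2 : (u : E) * u = 1 := by
    have h1 := pow_orderOf_eq_one u
    rw [hu, pow_two] at h1
    exact congrArg Subtype.val h1
  rw [← hg]
  calc g * u * g⁻¹ * (g * u * g⁻¹) = g * (u * u) * g⁻¹ := by group
    _ = 1 := by rw [hu2]; group

/-- An element acting trivially on the Sylow 2-subgroups is trivial. -/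
theorem Good.eq_one_of_smul (h : Good E) {s : E} (hs : ∀ w : Sylow 2 E, s • w = w) : s = 1 := by
  have := h.finite
  have := h.simple
  obtain ⟨T⟩ : Nonempty (Sylow 2 E) := inferInstance
  obtain ⟨q, hq, hcard, hqp, hq4, hq48⟩ := h.card_two T
  have hc := h.card_sylow T hq hcard hqp hq4 hq48
  have hmem : s ∈ (MulAction.toPermHom E (Sylow 2 E)).ker := by
    rw [MonoidHom.mem_ker]
    ext w : 1
    exact hs w
  rcases (MonoidHom.normal_ker (MulAction.toPermHom E (Sylow 2 E))).eq_bot_or_eq_top with h1 | h1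
  · rw [h1, Subgroup.mem_bot] at hmem
    exact hmem
  · exfalso
    have hsub : Subsingleton (Sylow 2 E) := by
      refine ⟨fun a b => ?_⟩
      obtain ⟨g, hg⟩ := MulAction.exists_smul_eq E a b
      have h2 : g ∈ (MulAction.toPermHom E (Sylow 2 E)).ker := h1 ▸ Subgroup.mem_top g
      rw [MonoidHom.mem_ker] at h2
      have h3 : g • a = a := congrArg (fun σ : Equiv.Perm (Sylow 2 E) => σ a) h2
      rw [← hg, h3]
    have h4 : Nat.card (Sylow 2 E) = 1 := Nat.card_eq_one_iff_unique.2 ⟨hsub, ⟨T⟩⟩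
    omega

/-- An element centralizing a Sylow 2-subgroup of `E` lies in `E`. -/
theorem Good.mem_of_centralizes {G : Type*} [Group G] [Finite G] {E : Subgroup G} [E.Normal]
    (h : Good E) (hC : Subgroup.centralizer (E : Set G) = ⊥) (T : Sylow 2 E) (g : G)
    (hg : ∀ t : E, t ∈ T → g * t = t * g) : g ∈ E := by
  obtain ⟨q, hq, hcard, hqp, hq4, hq48⟩ := h.card_two T
  have hc := h.card_sylow T hq hcard hqp hq4 hq48
  -- another Sylow subgroup
  obtain ⟨w, hw⟩ : ∃ w : Sylow 2 E, w ≠ T := by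
    by_contra hcon
    push Not at hcon
    have h1 : Subsingleton (Sylow 2 E) := ⟨fun a b => (hcon a).trans (hcon b).symm⟩
    have h4 : Nat.card (Sylow 2 E) = 1 := Nat.card_eq_one_iff_unique.2 ⟨h1, ⟨T⟩⟩
    omega
  have hTT : ∀ t : E, t ∈ T → t • T = T := fun t ht =>
    Sylow.smul_eq_iff_mem_normalizer.2 (Subgroup.le_normalizer ht)
  -- `T` acts regularly on the other ones
  let f : ↥(T : Subgroup E) → {x : Sylow 2 E // x ≠ T} := fun t =>
    ⟨(t : E) • w, fun h1 => hw (by
      have h2 := congrArg (fun y => (t : E)⁻¹ • y) h1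
      simp only [inv_smul_smul] at h2
      rw [h2]
      exact hTT _ ((T : Subgroup E).inv_mem t.2))⟩
  have hfinj : Function.Injective f := by
    intro a b hab
    have h1 : (a : E) • w = (b : E) • w := congrArg Subtype.val hab
    have h2 : ((b : E)⁻¹ * a) • w = w := by
      rw [mul_smul, h1, inv_smul_smul]
    have h3 : ((b : E)⁻¹ * a) ∈ Subgroup.normalizer ((w : Subgroup E) : Set E) :=
      Sylow.smul_eq_iff_mem_normalizer.1 h2
    have h4 : ((b : E)⁻¹ * a) ∈ (T : Subgroup E) :=
      (T : Subgroup E).mul_mem ((T : Subgroup E).inv_mem b.2) a.2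
    have h5 : ((b : E)⁻¹ * a) ∈ (T : Subgroup E) ⊓ (w : Subgroup E) := by
      rw [← T.isPGroup'.inf_normalizer_sylow w]
      exact ⟨h4, h3⟩
    by_contra hne
    have h6 : ((b : E)⁻¹ * a) ≠ 1 := by
      intro h7
      apply hne
      apply Subtype.ext
      exact (inv_mul_eq_one.1 h7).symm
    exact hw (h.inf_eq (T := T) (S := w) h5.1 h5.2 h6).symm
  have hcard2 : Nat.card {x : Sylow 2 E // x ≠ T} = q := by
    classical
    letI : Fintype (Sylow 2 E) := Fintype.ofFinite _
    rw [Nat.card_eq_fintype_card] at hc ⊢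
    simp only [ne_eq, Fintype.card_subtype_compl, Fintype.card_unique, hc]
    omega
  have hbij : Function.Bijective f := by
    rw [Nat.bijective_iff_injective_and_card]
    refine ⟨hfinj, ?_⟩
    rw [hcard2]
    exact hq
  -- the automorphisms
  have hcomm : ∀ (α : MulAut E) (s : E), α * MulAut.conj s = MulAut.conj (α s) * α := by
    intro α s
    ext x
    simp
  have hsm : ∀ (α : MulAut E) (s : E) (x : Sylow 2 E), α • (s • x) = (α s) • (α • x) := by
    intro α s x
    rw [Sylow.smul_def, Sylow.smul_def, smul_smul, smul_smul, hcomm]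
  have hfixT : ∀ k : G, (∀ t : E, t ∈ T → k * t = t * k) →
      (MulAut.conjNormal k : MulAut E) • T = T := by
    intro k hk
    apply Sylow.ext
    apply SetLike.ext
    intro t
    have hkt : ∀ t : E, t ∈ T → (MulAut.conjNormal k : MulAut E) t = t := by
      intro t ht
      apply Subtype.ext
      rw [MulAut.conjNormal_apply, hk t ht, mul_inv_cancel_right]
    constructor
    · intro ht
      obtain ⟨s, hs, rfl⟩ := (Subgroup.mem_map.1 ht : _)
      have h1 : (MulAut.conjNormal k : MulAut E) s = s := hkt s hs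
      change (MulAut.conjNormal k : MulAut E) s ∈ _
      rw [h1]
      exact hs
    · intro ht
      exact ⟨t, ht, hkt t ht⟩
  -- `g w = t w`
  have hgw : (MulAut.conjNormal g : MulAut E) • w ≠ T := by
    intro h1
    apply hw
    have h2 := congrArg (fun y => (MulAut.conjNormal g : MulAut E)⁻¹ • y) h1
    simp only [inv_smul_smul] at h2
    rw [h2]
    conv_lhs => rw [← hfixT g hg]
    rw [inv_smul_smul]
  obtain ⟨t, ht⟩ := hbij.2 ⟨_, hgw⟩
  have ht' : (t : E) • w = (MulAut.conjNormal g : MulAut E) • w := congrArg Subtype.val ht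
  -- replace `g` by `k = t⁻¹ g`
  set k : G := ((t : E) : G)⁻¹ * g with hk
  have hkT : ∀ s : E, s ∈ T → k * s = s * k := by
    intro s hs
    have h1 : ((t : E) : G) * s = s * (t : E) := congrArg Subtype.val (h.ab 2 T t t.2 s hs)
    have h2 : ((t : E) : G)⁻¹ * s = s * ((t : E) : G)⁻¹ := by
      rw [inv_mul_eq_iff_eq_mul, ← mul_assoc, h1, mul_inv_cancel_right]
    rw [hk, mul_assoc, hg s hs, ← mul_assoc, h2, mul_assoc]
  have hconj : (MulAut.conjNormal ((t : E) : G) : MulAut E) = MulAut.conj (t : E) := by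
    ext x
    rw [MulAut.conjNormal_apply, MulAut.conj_apply]
    rfl
  have hkw : (MulAut.conjNormal k : MulAut E) • w = w := by
    rw [hk, map_mul, map_inv, mul_smul, ← ht', Sylow.smul_def, ← hconj, inv_smul_smul]
  have hkall : ∀ x : Sylow 2 E, (MulAut.conjNormal k : MulAut E) • x = x := by
    intro x
    by_cases hx : x = T
    · rw [hx]; exact hfixT k hkT
    · obtain ⟨s, hs⟩ := hbij.2 ⟨x, hx⟩
      have hs' : (s : E) • w = x := congrArg Subtype.val hs
      have h1 : (MulAut.conjNormal k : MulAut E) (s : E) = s := by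
        apply Subtype.ext
        rw [MulAut.conjNormal_apply, hkT s s.2, mul_inv_cancel_right]
      rw [← hs', hsm, h1, hkw]
  have hk1 : k ∈ Subgroup.centralizer (E : Set G) := by
    rw [Subgroup.mem_centralizer_iff]
    intro x hx
    have h1 : (x' : E) → x' = (⟨x, hx⟩ : E) →
        x'⁻¹ * (MulAut.conjNormal k : MulAut E) x' = 1 := by
      intro x' _
      apply h.eq_one_of_smul
      intro y
      have h2 := hsm (MulAut.conjNormal k) x' y
      rw [hkall, hkall] at h2
      rw [mul_smul, ← h2, inv_smul_smul]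
    have h2 := h1 ⟨x, hx⟩ rfl
    have h3 := congrArg Subtype.val (inv_mul_eq_one.1 h2)
    rw [MulAut.conjNormal_apply] at h3
    change x = k * x * k⁻¹ at h3
    calc x * k = (k * x * k⁻¹) * k := by rw [← h3]
      _ = k * x := by group
  rw [hC, Subgroup.mem_bot] at hk1
  have h1 : g = ((t : E) : G) := by
    have h2 : ((t : E) : G)⁻¹ * g = 1 := hk1
    exact (inv_mul_eq_one.1 h2).symm
  rw [h1]
  exact (t : E).2

/-- An element outside `E` with an involution of `T` among its powers. -/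
theorem Good.exists_power {G : Type*} [Group G] [Finite G] {E : Subgroup G} [E.Normal]
    (h : Good E) (hC : Subgroup.centralizer (E : Set G) = ⊥) (T : Sylow 2 E) (hne : E ≠ ⊤) :
    ∃ (y : G) (u : E), y ∉ E ∧ u ∈ T ∧ u ≠ 1 ∧ (u : G) ∈ Subgroup.zpowers y := by
  obtain ⟨q, hq, hcard, hqp, hq4, hq48⟩ := h.card_two T
  obtain ⟨u₀, hu₀⟩ : ∃ u : (T : Subgroup E), orderOf u = 2 := by
    apply exists_prime_orderOf_dvd_card' 2
    have : Nat.card (T : Subgroup E) = q := hq
    rw [this]
    rcases hq48 with rfl | rfl <;> norm_num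
  set u : E := (u₀ : E) with hu
  have huT : u ∈ T := u₀.2
  have hu1 : u ≠ 1 := by
    intro h1
    rw [← Subgroup.orderOf_coe, ← hu, h1, orderOf_one] at hu₀
    omega
  have hu2 : (u : G) * u = 1 := congrArg Subtype.val (h.mul_self T huT)
  -- elements of `E` commuting with `u`
  have hcu : ∀ x : E, (x : G) * u = u * x → x ∈ T := by
    intro x hx
    have h1 : x ∈ Subgroup.centralizer ({u} : Set E) := mem_cent.2 (Subtype.ext hx)
    rw [h.cent_eq T huT hu1] at h1
    exact h1
  -- an element outside `E` commuting with `u`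
  obtain ⟨g, hg⟩ : ∃ g : G, g ∉ E := by
    by_contra hcon
    push Not at hcon
    exact hne (eq_top_iff.2 fun x _ => hcon x)
  obtain ⟨e, he⟩ := MulAction.exists_smul_eq E ((MulAut.conjNormal g : MulAut E) • T) T
  have h1 : e * ((MulAut.conjNormal g : MulAut E) u) * e⁻¹ ∈ T := by
    have h2 : ((MulAut.conjNormal g : MulAut E) u) ∈ ((MulAut.conjNormal g : MulAut E) • T : Sylow 2 E) :=
      ⟨u, huT, rfl⟩
    have h3 : e * ((MulAut.conjNormal g : MulAut E) u) * e⁻¹ ∈
        (e • ((MulAut.conjNormal g : MulAut E) • T) : Sylow 2 E) := ⟨_, h2, rfl⟩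
    rw [he] at h3
    exact h3
  have h2 : e * ((MulAut.conjNormal g : MulAut E) u) * e⁻¹ ≠ 1 := by
    intro h3
    have h4 := conj_eq_one_iff.1 h3
    exact hu1 ((MulEquiv.map_eq_one_iff _).1 h4)
  obtain ⟨e', he'⟩ := h.conj T huT hu1 h1 h2
  have he2 : (e' : G) * u * (e' : G)⁻¹ = (e : G) * (g * u * g⁻¹) * (e : G)⁻¹ := by
    have h3 := congrArg Subtype.val he'
    simpa using h3
  obtain ⟨c, hcE, hc⟩ : ∃ c : G, c ∉ E ∧ c * u = u * c := by
    refine ⟨(e' : G)⁻¹ * e * g, ?_, ?_⟩
    · intro h3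
      apply hg
      have h4 : g = ((e : G)⁻¹ * e') * ((e' : G)⁻¹ * e * g) := by group
      rw [h4]
      exact E.mul_mem (E.mul_mem (E.inv_mem e.2) e'.2) h3
    · calc (e' : G)⁻¹ * e * g * u
          = (e' : G)⁻¹ * ((e : G) * (g * u * g⁻¹) * (e : G)⁻¹) * e * g := by group
        _ = (e' : G)⁻¹ * ((e' : G) * u * (e' : G)⁻¹) * e * g := by rw [he2]
        _ = u * ((e' : G)⁻¹ * e * g) := by group
  by_contra hcon
  push Not at hcon
  -- the order of `c` is even
  have hcomm : Commute c (u : G) := hc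
  have hev : 2 ∣ orderOf c := by
    by_contra hodd
    obtain ⟨k, hk⟩ : ∃ k, orderOf c = 2 * k + 1 := by
      have : Odd (orderOf c) := by
        rw [← Nat.not_even_iff_odd, even_iff_two_dvd]; exact hodd
      exact this
    apply hcon (c * u) u ?_ huT hu1
    · have h3 : (c * u) ^ orderOf c = u := by
        rw [hcomm.mul_pow, pow_orderOf_eq_one, one_mul, hk, pow_succ, pow_mul, pow_two, hu2, one_pow,
          one_mul]
      have h4 : (c * u) ^ orderOf c ∈ Subgroup.zpowers (c * (u : G)) :=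
        Subgroup.pow_mem _ (Subgroup.mem_zpowers _) _
      rwa [h3] at h4
    · intro h3
      apply hcE
      have h4 : c = (c * u) * (u : G)⁻¹ := by group
      rw [h4]
      exact E.mul_mem h3 (E.inv_mem u.2)
  obtain ⟨m, hm⟩ := hev
  have hm0 : 0 < m := by
    have := orderOf_pos c
    omega
  set c₁ := c ^ m with hc₁
  have hc₁2 : c₁ * c₁ = 1 := by
    rw [hc₁, ← pow_add, ← two_mul, ← hm, pow_orderOf_eq_one]
  have hc₁1 : c₁ ≠ 1 := by
    intro h3
    have h4 := orderOf_le_of_pow_eq_one hm0 h3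
    omega
  have hc₁u : c₁ * u = u * c₁ := (hcomm.pow_left m)
  have hc₁E : c₁ ∉ E := by
    intro h3
    have h4 : (⟨c₁, h3⟩ : E) ∈ T := hcu ⟨c₁, h3⟩ hc₁u
    exact hcon c ⟨c₁, h3⟩ hcE h4 (fun h5 => hc₁1 (congrArg Subtype.val h5))
      (Subgroup.pow_mem _ (Subgroup.mem_zpowers c) m)
  obtain ⟨t, htT, htc⟩ : ∃ t : E, t ∈ T ∧ c₁ * t ≠ t * c₁ := by
    by_contra hno
    push Not at hno
    exact hc₁E (h.mem_of_centralizes hC T c₁ hno)
  have htu : (t : G) * u = u * t := congrArg Subtype.val (h.ab 2 T t htT u huT)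
  have ht2 : (t : G) * t = 1 := congrArg Subtype.val (h.mul_self T htT)
  have hyE : c₁ * t ∉ E := by
    intro h3
    apply hc₁E
    have h4 : c₁ = (c₁ * t) * (t : G)⁻¹ := by group
    rw [h4]
    exact E.mul_mem h3 (E.inv_mem t.2)
  have hy2E : (c₁ * t) * (c₁ * t) ∈ E := by
    have h3 : (c₁ * t) * (c₁ * t) = (c₁ * t * c₁⁻¹) * t := by
      have h4 : c₁⁻¹ = c₁ := inv_eq_of_mul_eq_one_left hc₁2
      rw [h4]; group
    rw [h3]
    exact E.mul_mem ((inferInstance : E.Normal).conj_mem t t.2 c₁) t.2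
  have hy2u : (c₁ * t) * (c₁ * t) * u = u * ((c₁ * t) * (c₁ * t)) := by
    have h3 : Commute (c₁ * t) (u : G) := Commute.mul_left hc₁u htu
    exact (Commute.mul_left h3 h3)
  refine hcon (c₁ * t) ⟨_, hy2E⟩ hyE (hcu _ hy2u) ?_ ?_
  · intro h3
    apply htc
    have h4 : (c₁ * t) * (c₁ * t) = 1 := congrArg Subtype.val h3
    have h5 : (c₁ * (t : G))⁻¹ = c₁ * t := inv_eq_of_mul_eq_one_left h4
    rw [mul_inv_rev, inv_eq_of_mul_eq_one_left hc₁2, inv_eq_of_mul_eq_one_left ht2] at h5
    exact h5.symm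
  · exact Subgroup.mul_mem _ (Subgroup.mem_zpowers _) (Subgroup.mem_zpowers _)

/-- **Step C.** -/
theorem Good.eq_top {G : Type*} [Group G] [Finite G] (hH : Hyp G) {E : Subgroup G} [E.Normal]
    (h : Good E) (hC : Subgroup.centralizer (E : Set G) = ⊥) : E = ⊤ := by
  by_contra hne
  obtain ⟨T⟩ : Nonempty (Sylow 2 E) := inferInstance
  obtain ⟨y, u, hy, huT, hu1, huy⟩ := h.exists_power hC T hne
  obtain ⟨h2, h3, h57⟩ := h.primes
  obtain ⟨r, hr, hr2, hr3, hrE⟩ : ∃ r : ℕ, r.Prime ∧ r ≠ 2 ∧ r ≠ 3 ∧ r ∣ Nat.card E := by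
    rcases h57 with h5 | h7
    · exact ⟨5, by norm_num, by norm_num, by norm_num, h5⟩
    · exact ⟨7, by norm_num, by norm_num, by norm_num, h7⟩
  have hle : Subgroup.centralizer ({y} : Set G) ≤ Subgroup.centralizer ({(u : G)} : Set G) := by
    obtain ⟨k, hk⟩ := Subgroup.mem_zpowers_iff.1 huy
    intro z hz
    rw [mem_cent] at hz ⊢
    rw [← hk]
    exact (show Commute z y from hz).zpow_right k
  have hdv : ci u ∣ ci y := (ci_subgroup_dvd E u).trans (ci_dvd_of_le hle)
  refine hH.not_three y Nat.prime_two Nat.prime_three hr (by norm_num) hr2.symm hr3.symm ?_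
    ((h.dvd_ci T huT hu1 Nat.prime_three (by norm_num) h3).trans hdv)
    ((h.dvd_ci T huT hu1 hr hr2 hrE).trans hdv)
  by_contra h2y
  obtain ⟨P, hP⟩ := exists_sylow_le_cent 2 y h2y
  have hPp : IsPGroup 2 ((P : Subgroup G).subgroupOf E) := P.isPGroup'.comap_subtype
  have hPi : ¬ 2 ∣ ((P : Subgroup G).subgroupOf E).index := fun h4 =>
    P.not_dvd_index (h4.trans (relIndex_dvd_index (P : Subgroup G) E))
  apply hy
  apply h.mem_of_centralizes hC (hPp.toSylow hPi) y
  intro t ht
  have h5 : (t : G) ∈ (P : Subgroup G) := ht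
  exact (mem_cent.1 (hP h5)).symm

end Cfsg.Agent.H528.CP
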