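import Cfsg.Agent.H528.CP
import Cfsg.Agent.WeakTI.PslTwo
import Cfsg.Agent.ClassicalGeometry.SL2Order
import Cfsg.Agent.TwoFusion.SLTwoFacts
import Cfsg.Agent.S0252
import Mathlib.FieldTheory.Finite.GaloisField

/-!
# `PSL(2,4)`, `PSL(2,8)` and `A₅` are `Good`
-/

set_option autoImplicit false
set_option linter.style.haveILetI false

namespace Cfsg.Agent.H528.CP

open Subgroup Cfsg.Agent.H528.ClassSize Matrix

theorem orderOf_eq_pow {G : Type*} [Group G] {x : G} {v m : ℕ} (hv : v.Prime) (h : x ^ v ^ m = 1) :
    ∃ v k : ℕ, v.Prime ∧ orderOf x = v ^ k := by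
  obtain ⟨k, -, hk⟩ := (Nat.dvd_prime_pow hv).1 (orderOf_dvd_of_pow_eq_one h)
  exact ⟨v, k, hv, hk⟩

theorem good_psl {F : Type*} [Field F] [Fintype F] (hF : Fintype.card F = 4 ∨ Fintype.card F = 8) :
    Good (ProjectiveSpecialLinearGroup (Fin 2) F) := by
  haveI hchar : CharP F 2 := by
    have h1 : (2 : F) ^ 3 = 0 := by
      have h2 : ((Fintype.card F : ℕ) : F) = 0 := FiniteField.cast_card_eq_zero F
      rcases hF with h | h
      · rw [h] at h2
        have h3 : (2 : F) ^ 2 = 0 := by
          rw [← h2]; norm_num
        rw [pow_succ, h3, zero_mul]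
      · rw [h] at h2
        rw [← h2]; norm_num
    have h2 : (2 : F) = 0 := pow_eq_zero_iff (by norm_num) |>.1 h1
    exact CharTwo.of_one_ne_zero_of_two_eq_zero one_ne_zero h2
  have hcard : Nat.card (ProjectiveSpecialLinearGroup (Fin 2) F) = 60 ∨
      Nat.card (ProjectiveSpecialLinearGroup (Fin 2) F) = 504 := by
    rw [Cfsg.Agent.Classification.PSLTwoEvenSylow.card_psl]
    rcases hF with h | h <;> rw [h] <;> norm_num
  refine ⟨Cfsg.Agent.TwoFusion.SLTwoFacts.isSimpleGroup_psl (by omega), ?_, ?_, hcard⟩
  · intro x
    obtain ⟨e⟩ := Cfsg.Agent.WeakTI.PslTwo.nonempty_equiv (F := F)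
    have key : ∀ m : ℕ, (e.symm x) ^ m = 1 → x ^ m = 1 := by
      intro m h
      have := congrArg e h
      rwa [map_pow, e.apply_symm_apply, map_one] at this
    have h1 := Cfsg.Agent.ClassicalGeometry.SL2Order.pow_cases (q := Fintype.card F) rfl 2 (e.symm x)
    rcases h1 with h1 | h1 | h1
    · rcases hF with h | h <;> rw [h] at h1
      · exact orderOf_eq_pow (v := 3) (m := 1) (by norm_num) (key _ (by simpa using h1))
      · exact orderOf_eq_pow (v := 7) (m := 1) (by norm_num) (key _ (by simpa using h1))
    · rcases hF with h | h <;> rw [h] at h1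
      · exact orderOf_eq_pow (v := 5) (m := 1) (by norm_num) (key _ (by simpa using h1))
      · exact orderOf_eq_pow (v := 3) (m := 2) (by norm_num) (key _ (by simpa using h1))
    · exact orderOf_eq_pow (v := 2) (m := 2) (by norm_num) (key _ (by simpa using h1))
  · intro v hv P a ha b hb
    by_cases hv2 : v = 2
    · subst hv2
      have := Cfsg.Agent.Classification.PSLTwoEvenSylow.sylow_comm
        (MulEquiv.refl (ProjectiveSpecialLinearGroup (Fin 2) F)) P
      exact congrArg Subtype.val
        ((IsMulCommutative.is_comm (M := (P : Subgroup _))).comm ⟨a, ha⟩ ⟨b, hb⟩)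
    · obtain ⟨n, hn⟩ := IsPGroup.iff_card.1 P.isPGroup'
      have hd : v ^ n ∣ Nat.card (ProjectiveSpecialLinearGroup (Fin 2) F) :=
        hn ▸ Subgroup.card_subgroup_dvd_card _
      have hcop : (v ^ n).Coprime 8 := by
        apply Nat.Coprime.pow_left
        exact (Nat.coprime_primes hv.out Nat.prime_two).2 hv2 |>.pow_right 3
      have hd63 : v ^ n ∣ 15 ∨ v ^ n ∣ 63 := by
        rcases hcard with h | h
        · left
          rw [h] at hd
          have h4 : (v ^ n).Coprime 4 := Nat.Coprime.coprime_dvd_right (by norm_num) hcop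
          exact Nat.Coprime.dvd_of_dvd_mul_left h4 (by simpa using hd)
        · right
          rw [h] at hd
          exact Nat.Coprime.dvd_of_dvd_mul_left hcop (by simpa using hd)
      have hv3 : 3 ≤ v := by
        have := hv.out.two_le
        omega
      have hn2 : n ≤ 2 := by
        by_contra hcon
        have h3 : v ^ 3 ∣ v ^ n := pow_dvd_pow v (by omega)
        have h4 : v ^ 3 ∣ 15 ∨ v ^ 3 ∣ 63 := hd63.imp h3.trans h3.trans
        have h5 : v < 4 := by
          by_contra hge
          have h6 : 4 ^ 3 ≤ v ^ 3 := Nat.pow_le_pow_left (by omega) 3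
          rcases h4 with h4 | h4
          · have := Nat.le_of_dvd (by norm_num) h4
            omega
          · have := Nat.le_of_dvd (by norm_num) h4
            omega
        have h6 : v = 3 := by omega
        rw [h6] at h4
        omega
      have hcomm : ∀ x y : (P : Subgroup (ProjectiveSpecialLinearGroup (Fin 2) F)), x * y = y * x := by
        interval_cases n
        · intro x y
          have h1 : Subsingleton (P : Subgroup (ProjectiveSpecialLinearGroup (Fin 2) F)) := by
            rw [pow_zero] at hn
            exact (Nat.card_eq_one_iff_unique.1 hn).1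
          exact Subsingleton.elim _ _
        · have h1 : IsCyclic (P : Subgroup (ProjectiveSpecialLinearGroup (Fin 2) F)) :=
            isCyclic_of_prime_card (p := v) (by rw [hn, pow_one])
          intro x y
          letI := IsCyclic.commGroup (α := (P : Subgroup (ProjectiveSpecialLinearGroup (Fin 2) F)))
          exact mul_comm x y
        · intro x y
          exact IsPGroup.commutative_of_card_eq_prime_sq hn x y
      exact congrArg Subtype.val (hcomm ⟨a, ha⟩ ⟨b, hb⟩)

theorem good_alt : Good (alternatingGroup (Fin 5)) := by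
  haveI : Fintype (GaloisField 2 2) := Fintype.ofFinite _
  have hF : Fintype.card (GaloisField 2 2) = 4 := by
    rw [← Nat.card_eq_fintype_card, GaloisField.card 2 2 (by norm_num)]; norm_num
  obtain ⟨e⟩ := Cfsg.Agent.S0252.result hF
  exact (good_psl (Or.inl hF)).congr e

theorem good_galois : Good (ProjectiveSpecialLinearGroup (Fin 2) (GaloisField 2 3)) := by
  haveI : Fintype (GaloisField 2 3) := Fintype.ofFinite _
  have hF : Fintype.card (GaloisField 2 3) = 8 := by
    rw [← Nat.card_eq_fintype_card, GaloisField.card 2 3 (by norm_num)]; norm_num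
  exact good_psl (Or.inr hF)

end Cfsg.Agent.H528.CP
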