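import Cfsg.Agent.H528.ClassSize
import Cfsg.Agent.H503.TwoRegA
import Cfsg.Agent.H524.ClassSize
import Cfsg.Agent.S0007
import Cfsg.Agent.H395.Jordan

/-!
# Groups with the class sizes `1, n, m, n m` (`n`, `m` coprime), I: generalities

`PE p x`: `x` is a `p`-element. `CSH G n m`: every class size of `G` is one of `1, n, m, n * m` with coprime
`n, m > 1`, and all four occur.
-/

set_option autoImplicit false
set_option linter.style.haveILetI false

namespace Cfsg.Agent.H528.CS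

open Subgroup
open Cfsg.Agent.H528.ClassSize

variable {G : Type*} [Group G]

/-- The centralizer of an element. -/
abbrev cent (x : G) : Subgroup G := Subgroup.centralizer ({x} : Set G)

/-- `p`-elements. -/
def PE (p : ℕ) (x : G) : Prop := ∃ k : ℕ, x ^ p ^ k = 1

theorem mem_cent' {x y : G} : y ∈ cent x ↔ Commute y x := Subgroup.mem_centralizer_singleton_iff

theorem mem_cent_comm {x y : G} : y ∈ cent x ↔ x ∈ cent y := by
  rw [mem_cent', mem_cent']
  exact ⟨fun h => h.symm, fun h => h.symm⟩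

theorem PE.of_mem_zpowers {p : ℕ} {x y : G} (hx : PE p x) (hy : y ∈ zpowers x) : PE p y := by
  obtain ⟨k, hk⟩ := hx
  obtain ⟨j, rfl⟩ := hy
  refine ⟨k, ?_⟩
  show (x ^ j) ^ p ^ k = 1
  rw [← zpow_natCast, ← zpow_mul, mul_comm, zpow_mul, zpow_natCast, hk, one_zpow]

theorem PE.conj {p : ℕ} {x : G} (hx : PE p x) (g : G) : PE p (g * x * g⁻¹) := by
  obtain ⟨k, hk⟩ := hx
  exact ⟨k, by rw [conj_pow, hk, mul_one, mul_inv_cancel]⟩

theorem PE.map {p : ℕ} {x : G} (hx : PE p x) {H : Type*} [Group H] (f : G →* H) : PE p (f x) := by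
  obtain ⟨k, hk⟩ := hx
  exact ⟨k, by rw [← map_pow, hk, map_one]⟩

theorem PE.coe {p : ℕ} {H : Subgroup G} {x : H} (hx : PE p x) : PE p (x : G) := hx.map H.subtype

theorem PE.mk {p : ℕ} {H : Subgroup G} {x : G} (hx : PE p x) (hxH : x ∈ H) : PE p (⟨x, hxH⟩ : H) := by
  obtain ⟨k, hk⟩ := hx
  exact ⟨k, Subtype.ext (by simpa using hk)⟩

theorem PE.isPGroup {p : ℕ} {x : G} (hx : PE p x) : IsPGroup p (zpowers x) := by
  rintro ⟨y, hy⟩
  obtain ⟨k, hk⟩ := hx.of_mem_zpowers hy
  exact ⟨k, Subtype.ext (by simpa using hk)⟩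

theorem pe_of_mem {p : ℕ} {Q : Subgroup G} (hQ : IsPGroup p Q) {x : G} (hx : x ∈ Q) : PE p x := by
  obtain ⟨k, hk⟩ := hQ ⟨x, hx⟩
  exact ⟨k, by simpa using congrArg Subtype.val hk⟩

theorem PE.exists_orderOf {p : ℕ} (hp : p.Prime) {x : G} (hx : PE p x) : ∃ k, orderOf x = p ^ k := by
  obtain ⟨k, hk⟩ := hx
  obtain ⟨j, -, hj⟩ := (Nat.dvd_prime_pow hp).mp (orderOf_dvd_of_pow_eq_one hk)
  exact ⟨j, hj⟩

theorem pe_of_orderOf {p k : ℕ} {x : G} (hx : orderOf x = p ^ k) : PE p x :=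
  ⟨k, by rw [← hx, pow_orderOf_eq_one]⟩

theorem PE.coprime {p q : ℕ} (hp : p.Prime) (hq : q.Prime) (hpq : p ≠ q) {x : G} (hx : PE p x) :
    (orderOf x).Coprime q := by
  obtain ⟨k, hk⟩ := hx.exists_orderOf hp
  rw [hk]
  exact Nat.Coprime.pow_left _ ((Nat.coprime_primes hp hq).mpr hpq)

theorem PE.coprime_of {p : ℕ} (hp : p.Prime) {x y : G} (hx : PE p x) (hy : (orderOf y).Coprime p) :
    (orderOf x).Coprime (orderOf y) := by
  obtain ⟨k, hk⟩ := hx.exists_orderOf hp
  rw [hk]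
  exact Nat.Coprime.pow_left _ hy.symm

theorem PE.eq_one {p : ℕ} (hp : p.Prime) {x : G} (hx : PE p x) (hy : (orderOf x).Coprime p) : x = 1 := by
  have h := hx.coprime_of hp hy
  rw [Nat.coprime_self, orderOf_eq_one_iff] at h
  exact h

theorem PE.eq_one' {p q : ℕ} (hp : p.Prime) (hq : q.Prime) (hpq : p ≠ q) {x : G} (hx : PE p x)
    (hy : PE q x) : x = 1 :=
  hx.eq_one hp (hy.coprime hq hp hpq.symm)

/-! ### Class sizes -/

theorem cent_conj_mem {g x y : G} : g * y * g⁻¹ ∈ cent (g * x * g⁻¹) ↔ y ∈ cent x := by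
  rw [mem_cent', mem_cent']
  constructor
  · intro h
    have h1 : g * (y * x) * g⁻¹ = g * (x * y) * g⁻¹ := by
      have := h.eq
      calc g * (y * x) * g⁻¹ = (g * y * g⁻¹) * (g * x * g⁻¹) := by group
        _ = (g * x * g⁻¹) * (g * y * g⁻¹) := this
        _ = g * (x * y) * g⁻¹ := by group
    exact mul_left_cancel (mul_right_cancel h1)
  · intro h
    show _ = _
    calc (g * y * g⁻¹) * (g * x * g⁻¹) = g * (y * x) * g⁻¹ := by group
      _ = g * (x * y) * g⁻¹ := by rw [h.eq]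
      _ = (g * x * g⁻¹) * (g * y * g⁻¹) := by group

theorem ci_conj (g x : G) : ci (g * x * g⁻¹) = ci x := by
  have := ci_equiv (MulAut.conj g) x
  simpa [MulAut.conj_apply] using this

theorem ci_eq_one_iff {x : G} : ci x = 1 ↔ x ∈ center G := by
  rw [ci_def, Subgroup.index_eq_one, Cfsg.Agent.H503.TwoReg.mem_center_iff_centralizer]

theorem cent_eq_of_dvd [Finite G] {x y : G} (h : cent x ≤ cent y) (hd : ci x ∣ ci y) : cent x = cent y := by
  apply Subgroup.eq_of_le_of_card_ge h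
  have h1 := (cent x).card_mul_index
  have h2 := (cent y).card_mul_index
  have hx : (cent x).index = ci x := rfl
  have hy : (cent y).index = ci y := rfl
  rw [hx] at h1
  rw [hy, ← h1, Nat.dvd_antisymm hd (ci_dvd_of_le h)] at h2
  exact (Nat.eq_of_mul_eq_mul_right (Nat.pos_of_ne_zero (ci_ne_zero y)) h2).le

/-- The centralizer of a commuting product of coprime orders. -/
theorem cent_mul {x z : G} (hc : Commute x z) (hcop : (orderOf x).Coprime (orderOf z)) :
    cent (x * z) = cent x ⊓ cent z := by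
  apply le_antisymm
  · refine le_inf ?_ ?_
    · exact Cfsg.Agent.H503.TwoReg.centralizer_le_of_mem_zpowers
        (Cfsg.Agent.H503.TwoReg.left_mem_zpowers_mul hc hcop)
    · exact Cfsg.Agent.H503.TwoReg.centralizer_le_of_mem_zpowers
        (Cfsg.Agent.H503.TwoReg.right_mem_zpowers_mul hc hcop)
  · intro g hg
    rw [Subgroup.mem_inf, mem_cent', mem_cent'] at hg
    rw [mem_cent']
    exact hg.1.mul_right hg.2

theorem cent_le_of_mem_zpowers {x y : G} (h : y ∈ zpowers x) : cent x ≤ cent y :=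
  Cfsg.Agent.H503.TwoReg.centralizer_le_of_mem_zpowers h

theorem cent_subgroup (H : Subgroup G) (z : H) : cent z = (cent (z : G)).subgroupOf H := by
  ext y
  rw [mem_cent', Subgroup.mem_subgroupOf, mem_cent']
  constructor
  · intro h
    exact congrArg Subtype.val h.eq
  · intro h
    exact Subtype.ext h.eq

theorem ci_subgroup (H : Subgroup G) (z : H) : ci z = (cent (z : G)).relIndex H := by
  unfold ci
  rw [show Subgroup.centralizer ({z} : Set H) = cent z from rfl, cent_subgroup]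
  rfl

/-- The class size of a commuting product of coprime orders. -/
theorem ci_mul {x : G} (z : cent x) (hcop : (orderOf x).Coprime (orderOf (z : G))) :
    ci (x * (z : G)) = ci x * ci z := by
  have hc : Commute x (z : G) := (mem_cent'.mp z.2).symm
  rw [ci_subgroup, ci_def, ci_def]
  have h1 := cent_mul hc hcop
  unfold cent at h1
  rw [h1, inf_comm, mul_comm]
  have h2 := Subgroup.relIndex_mul_index (H := cent (z : G) ⊓ cent x) (K := cent x) inf_le_right
  rw [Subgroup.inf_relIndex_right] at h2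
  exact h2.symm

theorem ci_dvd_of_mem_zpowers {x y : G} (h : y ∈ zpowers x) : ci y ∣ ci x :=
  ci_dvd_of_le (cent_le_of_mem_zpowers h)

/-- If `r` divides no class size, then the `r`-elements are central. -/
theorem mem_center_of_not_dvd [Finite G] {r : ℕ} [hr : Fact r.Prime] (h : ∀ g : G, ¬ r ∣ ci g)
    {x : G} (hx : PE r x) : x ∈ center G := by
  rw [Cfsg.Agent.H503.TwoReg.mem_center_iff_centralizer]
  by_contra hne
  obtain ⟨g, hg⟩ := Cfsg.Agent.H395.Jordan.exists_not_conj_mem hne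
  obtain ⟨R, hR⟩ := exists_sylow_le_cent r g (h g)
  obtain ⟨S, hS⟩ := hx.isPGroup.exists_le_sylow
  obtain ⟨c, hc⟩ := MulAction.exists_smul_eq G S R
  have hxc : c * x * c⁻¹ ∈ (R : Subgroup G) := by
    rw [← hc, Sylow.smul_def]
    have : x ∈ (S : Subgroup G) := hS (mem_zpowers x)
    exact ⟨x, this, rfl⟩
  apply hg c
  have h1 := hR hxc
  rw [mem_centralizer_singleton_iff]
  have h2 : (c * x * c⁻¹) * g = g * (c * x * c⁻¹) := mem_centralizer_singleton_iff.mp h1
  calc c⁻¹ * g * c * x = c⁻¹ * (g * (c * x * c⁻¹)) * c := by group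
    _ = c⁻¹ * ((c * x * c⁻¹) * g) * c := by rw [h2]
    _ = x * (c⁻¹ * g * c) := by group

/-- A non-central element has a non-central primary part. -/
theorem exists_primary' [Finite G] {x : G} (hx : x ∉ center G) :
    ∃ s : ℕ, s.Prime ∧ ∃ y ∈ zpowers x, y ∉ center G ∧ PE s y := by
  obtain ⟨s, hs, -, y, hy, hyP, hk⟩ := Cfsg.Agent.H503.TwoReg.exists_primary (p := 1) (orderOf x) x rfl
    ⟨Nat.coprime_one_right _, hx⟩
  exact ⟨s, hs, y, hy, hyP.2, hk⟩

/-- If an element of coprime class size commutes with `x`, all the conjugates do. -/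
theorem commute_conj [Finite G] {x y : G} (hc : Commute x y) (hcop : (ci x).Coprime (ci y)) (g h : G) :
    Commute (g * x * g⁻¹) (h * y * h⁻¹) := by
  obtain ⟨-, h1⟩ := Cfsg.Agent.S0007.result (cent y) (cent x) (by exact hcop.symm)
  obtain ⟨d, hd, c, hcx, hgh⟩ := h1 (h⁻¹ * g)
  have h2 : Commute (h⁻¹ * g * x * (h⁻¹ * g)⁻¹) y := by
    rw [hgh]
    have h3 : d * c * x * (d * c)⁻¹ = d * x * d⁻¹ := by
      have h4 : c * x = x * c := (mem_cent'.mp hcx).eq
      calc d * c * x * (d * c)⁻¹ = d * (c * x) * c⁻¹ * d⁻¹ := by group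
        _ = d * (x * c) * c⁻¹ * d⁻¹ := by rw [h4]
        _ = d * x * d⁻¹ := by group
    rw [h3]
    have h5 : d * y = y * d := (mem_cent'.mp hd).eq
    have h6 : y = d * y * d⁻¹ := by rw [h5]; group
    rw [h6]
    exact mem_cent'.mp (cent_conj_mem.mpr (mem_cent'.mpr hc))
  have h7 := mem_cent'.mp (cent_conj_mem (g := h).mpr (mem_cent'.mpr h2))
  have h8 : h * (h⁻¹ * g * x * (h⁻¹ * g)⁻¹) * h⁻¹ = g * x * g⁻¹ := by group
  rwa [h8] at h7

/-- A subgroup containing a Sylow subgroup for each prime is everything. -/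
theorem eq_top_of_sylow [Finite G] (H : Subgroup G)
    (h : ∀ r : ℕ, r.Prime → ¬ r ∣ H.index) : H = ⊤ := by
  rw [← Subgroup.index_eq_one]
  by_contra hne
  exact h _ (Nat.minFac_prime hne) (Nat.minFac_dvd _)

theorem not_dvd_index_of_pe [Finite G] {r : ℕ} (hr : r.Prime) (H : Subgroup G)
    (h : ∀ x : G, PE r x → x ∈ H) : ¬ r ∣ H.index := by
  have := Fact.mk hr
  obtain ⟨R⟩ : Nonempty (Sylow r G) := inferInstance
  intro hd
  apply R.not_dvd_index
  refine hd.trans (Subgroup.index_dvd_of_le ?_)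
  intro x hx
  exact h x (pe_of_mem R.isPGroup' hx)

/-- A subgroup containing all elements of prime power order is everything. -/
theorem eq_top_of_pe [Finite G] (H : Subgroup G) (h : ∀ r : ℕ, r.Prime → ∀ x : G, PE r x → x ∈ H) :
    H = ⊤ :=
  eq_top_of_sylow H fun r hr => not_dvd_index_of_pe hr H (h r hr)

/-! ### The hypothesis -/

/-- The class sizes are `1, n, m, n m` with coprime `n, m > 1`. -/
structure CSH (G : Type*) [Group G] (n m : ℕ) : Prop where
  hn : 1 < n
  hm : 1 < m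
  cop : n.Coprime m
  cases : ∀ x : G, ci x = 1 ∨ ci x = n ∨ ci x = m ∨ ci x = n * m
  exn : ∃ x : G, ci x = n
  exm : ∃ x : G, ci x = m
  exnm : ∃ x : G, ci x = n * m

variable {n m : ℕ}

theorem CSH.symm (h : CSH G n m) : CSH G m n where
  hn := h.hm
  hm := h.hn
  cop := h.cop.symm
  cases x := by
    rcases h.cases x with h1 | h1 | h1 | h1
    · exact Or.inl h1
    · exact Or.inr (Or.inr (Or.inl h1))
    · exact Or.inr (Or.inl h1)
    · exact Or.inr (Or.inr (Or.inr (by rw [h1, mul_comm])))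
  exn := h.exm
  exm := h.exn
  exnm := by
    obtain ⟨x, hx⟩ := h.exnm
    exact ⟨x, by rw [hx, mul_comm]⟩

theorem CSH.not_dvd (h : CSH G n m) : ¬ n ∣ m := by
  intro hd
  have := Nat.eq_one_of_dvd_coprimes h.cop dvd_rfl hd
  have := h.hn
  omega

theorem CSH.not_dvd' (h : CSH G n m) : ¬ m ∣ n := h.symm.not_dvd

/-- Class sizes divisible by `n`. -/
theorem CSH.of_dvd (h : CSH G n m) {c : ℕ} (hc : c = 1 ∨ c = n ∨ c = m ∨ c = n * m) (hd : n ∣ c) :
    c = n ∨ c = n * m := by
  rcases hc with h1 | h1 | h1 | h1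
  · exfalso
    rw [h1, Nat.dvd_one] at hd
    have := h.hn
    omega
  · exact Or.inl h1
  · rw [h1] at hd
    exact absurd hd h.not_dvd
  · exact Or.inr h1

/-- Class sizes dividing `n`. -/
theorem CSH.of_dvd' (h : CSH G n m) {c : ℕ} (hc : c = 1 ∨ c = n ∨ c = m ∨ c = n * m) (hd : c ∣ n) :
    c = 1 ∨ c = n := by
  rcases hc with h1 | h1 | h1 | h1
  · exact Or.inl h1
  · exact Or.inr h1
  · rw [h1] at hd
    exact absurd hd h.not_dvd'
  · rw [h1] at hd
    exact absurd ((dvd_mul_left m n).trans hd) h.not_dvd'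

theorem CSH.exists_primary_n [Finite G] (h : CSH G n m) {x : G} (hx : ci x = n) :
    ∃ s : ℕ, s.Prime ∧ ∃ y ∈ zpowers x, ci y = n ∧ PE s y := by
  have hxc : x ∉ center G := by
    intro hc
    rw [← ci_eq_one_iff, hx] at hc
    have := h.hn
    omega
  obtain ⟨s, hs, y, hy, hyc, hyP⟩ := exists_primary' hxc
  refine ⟨s, hs, y, hy, ?_, hyP⟩
  rcases h.of_dvd' (h.cases y) (hx ▸ ci_dvd_of_mem_zpowers hy) with h1 | h1
  · exact absurd (ci_eq_one_iff.mp h1) hyc
  · exact h1

/-- A prime dividing neither `n` nor `m`: the elements of its power order are central. -/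
theorem CSH.mem_center [Finite G] (h : CSH G n m) {r : ℕ} (hr : r.Prime) (h1 : ¬ r ∣ n) (h2 : ¬ r ∣ m)
    {x : G} (hx : PE r x) : x ∈ center G := by
  have := Fact.mk hr
  refine mem_center_of_not_dvd (r := r) (fun g hg => ?_) hx
  rcases h.cases g with h3 | h3 | h3 | h3 <;> rw [h3] at hg
  · exact hr.one_lt.ne' (Nat.dvd_one.mp hg)
  · exact h1 hg
  · exact h2 hg
  · exact (hr.dvd_mul.mp hg).elim h1 h2

end Cfsg.Agent.H528.CS
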