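import Cfsg.Agent.H528.CSBasic
import Cfsg.Agent.S4033
import Cfsg.Agent.S4034
import Cfsg.Agent.S4035
import Cfsg.Agent.S4127
import Cfsg.Agent.OddOrderLocal.NilpotentQuotient

/-!
# Groups with the class sizes `1, n, m, n m` (`n`, `m` coprime), II

The case that there is a `t`-element of class size `n`, `t` a prime not dividing `m`: then `m` is a power of a
prime `s` and there is an `s`-element of class size `m`. If this is so for `n` as well the group is nilpotent.
-/

set_option autoImplicit false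
set_option linter.style.haveILetI false

namespace Cfsg.Agent.H528.CS

open Subgroup
open Cfsg.Agent.H528.ClassSize

variable {G : Type*} [Group G]

theorem mem_of_coprime_index [Finite G] (H : Subgroup G) [H.Normal] {y : G}
    (h : (orderOf y).Coprime H.index) : y ∈ H := by
  have h1 : orderOf (y : G ⧸ H) ∣ orderOf y := orderOf_map_dvd (QuotientGroup.mk' H) y
  have h2 : orderOf (y : G ⧸ H) ∣ H.index := orderOf_dvd_natCard _
  have h3 := Nat.eq_one_of_dvd_coprimes h h1 h2
  rw [orderOf_eq_one_iff, QuotientGroup.eq_one_iff] at h3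
  exact h3

/-- Two class sizes `1, m` of the `p`-regular elements, `m` being the size of an `s`-element: `m` divides some
`p ^ i * s ^ j`. -/
theorem dvd_of_two_sizes [Finite G] {p s m : ℕ} (hp : p.Prime) (hs : s.Prime) (hps : s ≠ p) (hm : 1 < m)
    (h : ∀ z : G, (orderOf z).Coprime p → ci z = 1 ∨ ci z = m) {y : G} (hy : PE s y) (hym : ci y = m) :
    ∃ i j : ℕ, m ∣ p ^ i * s ^ j := by
  have hpf := Fact.mk hp
  have hyc : y ∉ center G := by
    intro hc
    rw [← ci_eq_one_iff, hym] at hc
    omega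
  have hr : (Set.range fun x : {x : G // (orderOf x).Coprime p} =>
      (ConjClasses.mk (x : G)).carrier.ncard) = {1, m} := by
    ext c
    simp only [Set.mem_range, Set.mem_insert_iff, Set.mem_singleton_iff]
    constructor
    · rintro ⟨x, rfl⟩
      rw [Cfsg.Agent.H503.ncard_class]
      exact h x x.2
    · rintro (rfl | rfl)
      · refine ⟨⟨1, by simp⟩, ?_⟩
        rw [Cfsg.Agent.H503.ncard_class]
        exact ci_eq_one_iff.mpr (one_mem _)
      · refine ⟨⟨y, hy.coprime hs hp hps⟩, ?_⟩
        rw [Cfsg.Agent.H503.ncard_class]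
        exact hym
  have h2 : Set.ncard (Set.range fun x : {x : G // (orderOf x).Coprime p} =>
      (ConjClasses.mk (x : G)).carrier.ncard) = 2 := by
    rw [hr]
    exact Set.ncard_pair (by omega)
  rcases Cfsg.Agent.S4033.result hp h2 with h3 | ⟨q, hq, P, Q, A, hqp, hA, hcard, hn, hinf, hsup⟩
  · obtain ⟨k, hk⟩ := (Cfsg.Agent.S4034.result hp).mpr h3 y (hy.coprime hs hp hps)
    rw [Cfsg.Agent.H503.ncard_class] at hk
    refine ⟨k, 0, ?_⟩
    have : ci y = p ^ k := hk
    rw [← hym, this, pow_zero, mul_one]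
  · have hAn : A.Normal := by
      refine ⟨fun a ha g => ?_⟩
      have := mem_center_iff.mp (hA ha) g
      rw [this, mul_inv_cancel_right]
      exact ha
    have hidx : A.index = Nat.card P * Nat.card Q := by
      have h4 := A.card_mul_index
      have h5 : Nat.card A * Nat.card ↥((P : Subgroup G) ⊔ (Q : Subgroup G)) = Nat.card G := by
        have h6 : IsComplement' A ((P : Subgroup G) ⊔ (Q : Subgroup G)) := by
          apply isComplement'_of_disjoint_and_mul_eq_univ
          · rw [disjoint_iff, inf_comm]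
            exact hinf
          · rw [← Subgroup.normal_mul, sup_comm, hsup]
            rfl
        exact h6.card_mul
      rw [hcard] at h5
      exact Nat.eq_of_mul_eq_mul_left Nat.card_pos (h4.trans h5.symm)
    obtain ⟨i, hi⟩ := P.isPGroup'.exists_card_eq
    obtain ⟨j, hj⟩ := Q.isPGroup'.exists_card_eq
    have hyA : y ∉ A := fun hyA => hyc (hA hyA)
    have hqs : q = s := by
      by_contra hqs
      apply hyA
      apply mem_of_coprime_index
      rw [hidx, hi, hj]
      exact Nat.Coprime.mul_right (Nat.Coprime.pow_right _ (hy.coprime hs hp hps))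
        (Nat.Coprime.pow_right _ (hy.coprime hs hq.out (fun h => hqs h.symm)))
    subst hqs
    refine ⟨i, j, ?_⟩
    rw [← hym, ← hi, ← hj, ← hidx]
    apply Subgroup.index_dvd_of_le
    intro a ha
    rw [mem_cent']
    exact ((mem_center_iff.mp (hA ha)) y).symm

theorem ci_cent_cases [Finite G] {n m : ℕ} (h : CSH G n m) {x : G} (hxn : ci x = n) (z : cent x)
    (hcop : (orderOf x).Coprime (orderOf (z : G))) : ci z = 1 ∨ ci z = m := by
  have h1 := ci_mul z hcop
  rw [hxn] at h1
  have hn0 : 0 < n := lt_trans one_pos h.hn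
  rcases h.of_dvd (h.cases (x * z)) (h1 ▸ dvd_mul_right _ _) with h2 | h2
  · left
    rw [h2] at h1
    exact (Nat.eq_of_mul_eq_mul_left hn0 (by rw [mul_one]; exact h1)).symm
  · right
    rw [h2] at h1
    exact (Nat.eq_of_mul_eq_mul_left hn0 h1).symm

/-- The class size in `C(x)` of an element of class size coprime to that of `x`. -/
theorem ci_cent_eq [Finite G] {x : G} (z : cent x) (hcop : (ci x).Coprime (ci (z : G))) :
    ci z = ci (z : G) := by
  obtain ⟨h1, -⟩ := Cfsg.Agent.S0007.result (cent (z : G)) (cent x) (by exact hcop.symm)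
  have h2 := Subgroup.relIndex_mul_index (H := cent (z : G) ⊓ cent x) (K := cent x) inf_le_right
  rw [Subgroup.inf_relIndex_right, h1] at h2
  rw [ci_subgroup]
  exact Nat.eq_of_mul_eq_mul_right (Nat.pos_of_ne_zero (ci_ne_zero x)) h2

/-- An element centralized by a Sylow `t`-subgroup has a conjugate commuting with a given `t`-element. -/
theorem exists_conj_commute [Finite G] {t : ℕ} (ht : t.Prime) {x y : G} (hx : PE t x) (hy : ¬ t ∣ ci y) :
    ∃ c : G, Commute x (c * y * c⁻¹) := by
  have := Fact.mk ht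
  obtain ⟨R, hR⟩ := exists_sylow_le_cent t y hy
  obtain ⟨S, hS⟩ := hx.isPGroup.exists_le_sylow
  obtain ⟨c, hc⟩ := MulAction.exists_smul_eq G R S
  refine ⟨c, ?_⟩
  have h1 : x ∈ (S : Subgroup G) := hS (mem_zpowers x)
  rw [← hc, Sylow.smul_def] at h1
  obtain ⟨r, hr, hrx⟩ := h1
  have h2 : c * r * c⁻¹ = x := by simpa [MulAut.conj_apply] using hrx
  rw [← h2]
  exact mem_cent'.mp (cent_conj_mem.mpr (hR hr))

theorem CSH.caseA [Finite G] {n m : ℕ} (h : CSH G n m) {t : ℕ} (ht : t.Prime) (htm : ¬ t ∣ m) {x : G}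
    (hx : PE t x) (hxn : ci x = n) :
    ∃ s b : ℕ, s.Prime ∧ m = s ^ b ∧ ∃ y : G, PE s y ∧ ci y = m := by
  have htf := Fact.mk ht
  obtain ⟨x1, hx1⟩ := h.exm
  obtain ⟨s, hs, y0, -, hy0m, hy0⟩ := h.symm.exists_primary_n hx1
  obtain ⟨c, hc⟩ := exists_conj_commute (y := y0) ht hx (by rwa [hy0m])
  set y := c * y0 * c⁻¹ with hy
  have hyP : PE s y := hy0.conj c
  have hym : ci y = m := by rw [hy, ci_conj, hy0m]
  have hyx : y ∈ cent x := mem_cent'.mpr hc.symm
  set z : cent x := ⟨y, hyx⟩ with hz
  have hzP : PE s z := hyP.mk hyx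
  have hzm : ci z = m := by
    have h1 := ci_cent_eq z (by rw [hxn]; show n.Coprime (ci y); rw [hym]; exact h.cop)
    rw [h1]
    exact hym
  -- the `t`-regular class sizes of `C(x)`
  have hreg : ∀ w : cent x, (orderOf w).Coprime t → ci w = 1 ∨ ci w = m := by
    intro w hw
    apply ci_cent_cases h hxn
    refine hx.coprime_of ht ?_
    rw [Subgroup.orderOf_coe]
    exact hw
  have hst : s ≠ t := by
    rintro rfl
    have h35 : ∀ w : cent x, (orderOf w).Coprime s → ¬ s ∣ (ConjClasses.mk w).carrier.ncard := by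
      intro w hw
      rw [Cfsg.Agent.H503.ncard_class]
      rcases hreg w hw with h1 | h1
      · intro hd
        have h2 : ci w = (centralizer ({w} : Set (cent x))).index := rfl
        rw [← h2, h1] at hd
        exact hs.one_lt.ne' (Nat.dvd_one.mp hd)
      · intro hd
        have h2 : ci w = (centralizer ({w} : Set (cent x))).index := rfl
        rw [← h2, h1] at hd
        exact htm hd
    obtain ⟨P⟩ : Nonempty (Sylow s (cent x)) := inferInstance
    obtain ⟨hPn, H, hHn, hHs, hPH, hsup⟩ := Cfsg.Agent.S4035.result h35 P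
    -- `z` lies in `P`
    have hzP2 : z ∈ (P : Subgroup (cent x)) := by
      obtain ⟨Q, hQ⟩ := hzP.isPGroup.exists_le_sylow
      have hu := Sylow.unique_of_normal P hPn
      rw [← @Subsingleton.elim _ hu.instSubsingleton Q P]
      exact hQ (mem_zpowers z)
    have h1 : (P : Subgroup (cent x)) ≤ cent z := by
      obtain ⟨Q, hQ⟩ := exists_sylow_le_cent s z (by rw [hzm]; exact htm)
      have hu := Sylow.unique_of_normal P hPn
      rw [← @Subsingleton.elim _ hu.instSubsingleton Q P]
      exact hQ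
    have h2 : H ≤ cent z := by
      intro g hg
      rw [mem_cent']
      exact Subgroup.commute_of_normal_of_disjoint _ _ hHn hPn (by rw [disjoint_iff, inf_comm]; exact hPH)
        _ _ hg hzP2
    have h3 : cent z = ⊤ := by
      rw [eq_top_iff, ← hsup]
      exact sup_le h1 h2
    have h4 : ci z = 1 := by
      rw [ci_def]
      exact Subgroup.index_eq_one.mpr h3
    rw [hzm] at h4
    have := h.hm
    omega
  obtain ⟨i, j, hij⟩ := dvd_of_two_sizes ht hs hst h.hm hreg hzP hzm
  have hcop : m.Coprime (t ^ i) := (Nat.Coprime.pow_left i ((Nat.Prime.coprime_iff_not_dvd ht).mpr htm)).symm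
  obtain ⟨b, -, hb⟩ := (Nat.dvd_prime_pow hs).mp (hcop.dvd_of_dvd_mul_left hij)
  exact ⟨s, b, hs, hb, y, hyP, hym⟩

theorem isNilpotent_of_complements [Finite G]
    (h : ∀ p : ℕ, p.Prime → Cfsg.HasNormalPComplement p G) : Group.IsNilpotent G := by
  obtain ⟨K, hK, h1, -, h3⟩ :=
    Cfsg.Agent.OddOrderLocal.NilpotentQuotient.exists_normal_hall (X := G) ∅ (fun p hp _ _ => h p hp)
  have h4 : K = ⊥ := by
    rw [← Subgroup.card_eq_one]
    by_contra hne
    exact (h1 _ (Nat.minFac_prime hne) (Nat.minFac_dvd _)).elim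
  subst h4
  exact (Group.isNilpotent_congr QuotientGroup.quotientBot).mp h3

theorem CSH.nilp [Finite G] {n m : ℕ} (h : CSH G n m) {t s a b : ℕ} (ht : t.Prime) (hs : s.Prime)
    (hn : n = t ^ a) (hm : m = s ^ b) {x y : G} (hx : PE t x) (hxn : ci x = n) (hy : PE s y)
    (hym : ci y = m) : Group.IsNilpotent G := by
  have hts : t ≠ s := by
    rintro rfl
    have h1 := h.hn
    have h2 := h.hm
    have h3 := h.cop
    rw [hn, hm] at h3
    have ha : a ≠ 0 := by rintro rfl; rw [hn, pow_zero] at h1; omega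
    have hb : b ≠ 0 := by rintro rfl; rw [hm, pow_zero] at h2; omega
    rw [Nat.coprime_pow_left_iff (Nat.pos_of_ne_zero ha), Nat.coprime_pow_right_iff (Nat.pos_of_ne_zero hb),
      Nat.coprime_self] at h3
    exact ht.one_lt.ne' h3
  apply isNilpotent_of_complements
  intro p hp
  have hpf := Fact.mk hp
  by_cases hpt : p = t
  · subst hpt
    refine Cfsg.Agent.S4127.result p a ?_ ⟨x, hx.exists_orderOf hp, hxn.trans hn⟩
    intro g hg
    have hg' : p ^ (a + 1) ∣ ci g := hg
    have hps : ¬ p ∣ m := by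
      rw [hm]
      intro hd
      exact hts ((Nat.prime_dvd_prime_iff_eq hp hs).mp (hp.dvd_of_dvd_pow hd))
    rcases h.cases g with h1 | h1 | h1 | h1 <;> rw [h1] at hg'
    · have := Nat.dvd_one.mp ((dvd_pow_self p (Nat.succ_ne_zero a)).trans hg')
      exact hp.one_lt.ne' this
    · rw [hn] at hg'
      have := (Nat.pow_dvd_pow_iff_le_right hp.one_lt).mp hg'
      omega
    · exact hps ((dvd_pow_self p (Nat.succ_ne_zero a)).trans hg')
    · rw [hn, pow_succ] at hg'
      exact hps (Nat.dvd_of_mul_dvd_mul_left (pow_pos hp.pos a) hg')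
  by_cases hps : p = s
  · subst hps
    refine Cfsg.Agent.S4127.result p b ?_ ⟨y, hy.exists_orderOf hp, hym.trans hm⟩
    intro g hg
    have hg' : p ^ (b + 1) ∣ ci g := hg
    have hpn : ¬ p ∣ n := by
      rw [hn]
      intro hd
      exact hts ((Nat.prime_dvd_prime_iff_eq hp ht).mp (hp.dvd_of_dvd_pow hd)).symm
    rcases h.cases g with h1 | h1 | h1 | h1 <;> rw [h1] at hg'
    · have := Nat.dvd_one.mp ((dvd_pow_self p (Nat.succ_ne_zero b)).trans hg')
      exact hp.one_lt.ne' this
    · exact hpn ((dvd_pow_self p (Nat.succ_ne_zero b)).trans hg')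
    · rw [hm] at hg'
      have := (Nat.pow_dvd_pow_iff_le_right hp.one_lt).mp hg'
      omega
    · rw [hm, pow_succ, mul_comm n] at hg'
      exact hpn (Nat.dvd_of_mul_dvd_mul_left (pow_pos hp.pos b) hg')
  · refine Cfsg.Agent.S4127.result p 0 ?_ ⟨1, ⟨0, by simp⟩, ?_⟩
    · intro g hg
      rw [zero_add, pow_one] at hg
      have hg' : p ∣ ci g := hg
      have h1 : ¬ p ∣ n := by
        rw [hn]
        intro hd
        exact hpt ((Nat.prime_dvd_prime_iff_eq hp ht).mp (hp.dvd_of_dvd_pow hd))
      have h2 : ¬ p ∣ m := by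
        rw [hm]
        intro hd
        exact hps ((Nat.prime_dvd_prime_iff_eq hp hs).mp (hp.dvd_of_dvd_pow hd))
      rcases h.cases g with h3 | h3 | h3 | h3 <;> rw [h3] at hg'
      · exact hp.one_lt.ne' (Nat.dvd_one.mp hg')
      · exact h1 hg'
      · exact h2 hg'
      · exact (hp.dvd_mul.mp hg').elim h1 h2
    · rw [pow_zero]
      exact ci_eq_one_iff.mpr (one_mem _)

end Cfsg.Agent.H528.CS
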