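import Cfsg.Agent.H528.CSCaseA

/-!
# Groups with the class sizes `1, n, m, n m` (`n`, `m` coprime), III

The remaining case: the primary elements of class size `n` are `t`-elements for primes `t` dividing `m`, and those
of class size `m` are `s`-elements for primes `s` dividing `n`. Then `n = s ^ a`, `m = t ^ b` (structure `TP`).
-/

set_option autoImplicit false
set_option linter.style.haveILetI false

namespace Cfsg.Agent.H528.CS

open Subgroup
open Cfsg.Agent.H528.ClassSize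

variable {G : Type*} [Group G]

theorem center_le_cent (x : G) : center G ≤ cent x := Subgroup.center_le_centralizer _

theorem relIndex_mul_ci (x : G) : (center G).relIndex (cent x) * ci x = (center G).index :=
  Subgroup.relIndex_mul_index (center_le_cent x)

theorem not_dvd_relIndex_of [Finite G] {r : ℕ} (hr : r.Prime) {H K : Subgroup G}
    (h : ∀ v ∈ K, PE r v → v ∈ H) : ¬ r ∣ H.relIndex K := by
  apply not_dvd_index_of_pe hr
  rintro ⟨v, hv⟩ hvP
  exact h v hv hvP.coe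

theorem mem_center_of_not_dvd_relIndex [Finite G] {r : ℕ} (hr : r.Prime) {x v : G}
    (h : ¬ r ∣ (center G).relIndex (cent x)) (hv : PE r v) (hvx : Commute v x) : v ∈ center G := by
  have hn : ((center G).subgroupOf (cent x)).Normal := inferInstance
  have h1 : (⟨v, mem_cent'.mpr hvx⟩ : cent x) ∈ (center G).subgroupOf (cent x) := by
    apply mem_of_coprime_index
    obtain ⟨k, hk⟩ := (hv.mk (mem_cent'.mpr hvx)).exists_orderOf hr
    rw [hk]
    exact Nat.Coprime.pow_left _ ((Nat.Prime.coprime_iff_not_dvd hr).mpr h)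
  exact h1

variable [Finite G] {n m : ℕ}

theorem CSH.exists_commuting (h : CSH G n m)
    (hB2 : ∀ s : ℕ, s.Prime → ∀ y : G, PE s y → ci y = m → s ∣ n) {x : G} (hxn : ci x = n) :
    ∃ s : ℕ, s.Prime ∧ s ∣ n ∧ ∃ v : G, PE s v ∧ v ∉ center G ∧ Commute v x := by
  by_contra hcon
  push Not at hcon
  have hn0 : 0 < n := lt_trans one_pos h.hn
  have hm0 : 0 < m := lt_trans one_pos h.hm
  -- the primes of `n` do not divide `|C(x) : Z|`
  have h1 : ∀ s : ℕ, s.Prime → s ∣ n → ¬ s ∣ (center G).relIndex (cent x) := by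
    intro s hs hsn
    apply not_dvd_relIndex_of hs
    intro v hv hvP
    by_contra hvc
    exact hcon s hs hsn v hvP hvc (mem_cent'.mp hv)
  have hk1 := relIndex_mul_ci x
  rw [hxn] at hk1
  -- step 2
  have h2 : ∀ r : ℕ, r.Prime → r ∣ m → ∀ w : G, PE r w → w ∉ center G → ∀ s : ℕ, s.Prime → s ∣ n →
      ∀ v : G, PE s v → Commute v w → v ∈ center G := by
    intro r hr hrm w hw hwc s hs hsn v hv hvw
    apply mem_center_of_not_dvd_relIndex hs _ hv hvw
    intro hd
    apply h1 s hs hsn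
    have hnw : n ∣ ci w := by
      rcases h.cases w with h3 | h3 | h3 | h3
      · exact absurd (ci_eq_one_iff.mp h3) hwc
      · rw [h3]
      · exfalso
        have h4 := hB2 r hr w hw h3
        exact hr.one_lt.ne' (Nat.eq_one_of_dvd_coprimes h.cop h4 hrm)
      · rw [h3]; exact dvd_mul_right _ _
    obtain ⟨c, hc⟩ := hnw
    have hk2 := relIndex_mul_ci w
    rw [hc, ← hk1, mul_comm n c, ← mul_assoc] at hk2
    have h5 := Nat.eq_of_mul_eq_mul_right hn0 hk2
    rw [← h5]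
    exact hd.mul_right c
  -- step 3
  obtain ⟨y1, hy1⟩ := h.exm
  obtain ⟨s1, hs1, y, -, hym, hy⟩ := h.symm.exists_primary_n hy1
  have hs1n : s1 ∣ n := hB2 s1 hs1 y hy hym
  have hyc : y ∉ center G := by
    intro hc
    rw [← ci_eq_one_iff, hym] at hc
    have := h.hm
    omega
  have h3 : ∀ r : ℕ, r.Prime → r ∣ m → ¬ r ∣ (center G).relIndex (cent y) := by
    intro r hr hrm
    apply not_dvd_relIndex_of hr
    intro w hw hwP
    by_contra hwc
    exact hyc (h2 r hr hrm w hwP hwc s1 hs1 hs1n y hy (mem_cent'.mp hw).symm)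
  have hk3 := relIndex_mul_ci y
  rw [hym] at hk3
  -- step 4
  obtain ⟨g, hg⟩ := h.exnm
  have hk4 := relIndex_mul_ci g
  rw [hg] at hk4
  have e1 : (center G).relIndex (cent x) = (center G).relIndex (cent g) * m := by
    apply Nat.eq_of_mul_eq_mul_right hn0
    rw [hk1, ← hk4]
    ring
  have e2 : (center G).relIndex (cent y) = (center G).relIndex (cent g) * n := by
    apply Nat.eq_of_mul_eq_mul_right hm0
    rw [hk3, ← hk4]
    ring
  have h5 : ∀ r : ℕ, r.Prime → ¬ r ∣ (center G).relIndex (cent g) := by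
    intro r hr hd
    by_cases hrn : r ∣ n
    · exact h1 r hr hrn (by rw [e1]; exact hd.mul_right _)
    by_cases hrm : r ∣ m
    · exact h3 r hr hrm (by rw [e2]; exact hd.mul_right _)
    · exact not_dvd_relIndex_of hr (fun v _ hv => h.mem_center hr hrn hrm hv) hd
  have h6 : (center G).relIndex (cent g) = 1 := by
    by_contra hne
    exact h5 _ (Nat.minFac_prime hne) (Nat.minFac_dvd _)
  rw [Subgroup.relIndex_eq_one] at h6
  have h7 : g ∈ center G := h6 (mem_cent'.mpr (Commute.refl g))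
  rw [← ci_eq_one_iff, hg] at h7
  have h8 := h.hm
  have h9 : n * m ≥ m := Nat.le_mul_of_pos_left m hn0
  omega

theorem CSH.pow_of_caseB (h : CSH G n m)
    (hB1 : ∀ t : ℕ, t.Prime → ∀ x : G, PE t x → ci x = n → t ∣ m)
    (hB2 : ∀ s : ℕ, s.Prime → ∀ y : G, PE s y → ci y = m → s ∣ n) :
    ∃ t b : ℕ, t.Prime ∧ m = t ^ b ∧ ∃ x : G, PE t x ∧ ci x = n := by
  obtain ⟨x1, hx1⟩ := h.exn
  obtain ⟨t, ht, x, -, hxn, hx⟩ := h.exists_primary_n hx1
  have htm := hB1 t ht x hx hxn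
  obtain ⟨s, hs, hsn, v, hv, hvc, hvx⟩ := h.exists_commuting hB2 hxn
  have hst : s ≠ t := by
    rintro rfl
    exact hs.one_lt.ne' (Nat.eq_one_of_dvd_coprimes h.cop hsn htm)
  have hsm : ¬ s ∣ m := fun hd => hs.one_lt.ne' (Nat.eq_one_of_dvd_coprimes h.cop hsn hd)
  set z : cent x := ⟨v, mem_cent'.mpr hvx⟩ with hz
  have hzP : PE s z := hv.mk _
  have hreg : ∀ w : cent x, (orderOf w).Coprime t → ci w = 1 ∨ ci w = m := by
    intro w hw
    apply ci_cent_cases h hxn
    refine hx.coprime_of ht ?_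
    rw [Subgroup.orderOf_coe]
    exact hw
  have hzm : ci z = m := by
    rcases hreg z (hzP.coprime hs ht hst) with h1 | h1
    · exfalso
      rw [ci_eq_one_iff] at h1
      have h2 : cent x ≤ cent v := by
        intro g hg
        rw [mem_cent']
        exact congrArg Subtype.val (mem_center_iff.mp h1 ⟨g, hg⟩)
      have h3 := ci_dvd_of_le h2
      rw [hxn] at h3
      rcases h.of_dvd' (h.cases v) h3 with h4 | h4
      · exact hvc (ci_eq_one_iff.mp h4)
      · exact hsm (hB1 s hs v hv h4)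
    · exact h1
  obtain ⟨i, j, hij⟩ := dvd_of_two_sizes ht hs hst h.hm hreg hzP hzm
  have hcop : m.Coprime (s ^ j) := (Nat.Coprime.pow_left j ((Nat.Prime.coprime_iff_not_dvd hs).mpr hsm)).symm
  obtain ⟨b, -, hb⟩ := (Nat.dvd_prime_pow ht).mp (hcop.dvd_of_dvd_mul_right hij)
  exact ⟨t, b, ht, hb, x, hx, hxn⟩

/-- The two-prime case. -/
structure TP (G : Type*) [Group G] (s t a b : ℕ) : Prop where
  hs : s.Prime
  ht : t.Prime
  hst : s ≠ t
  csh : CSH G (s ^ a) (t ^ b)
  hS : ∀ r : ℕ, r.Prime → ∀ x : G, PE r x → ci x = s ^ a → r = t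
  hT : ∀ r : ℕ, r.Prime → ∀ y : G, PE r y → ci y = t ^ b → r = s
  exS : ∃ y : G, PE s y ∧ ci y = t ^ b
  exT : ∃ x : G, PE t x ∧ ci x = s ^ a
  b1 : ∀ x : G, ci x = s ^ a → ∃ v : G, PE s v ∧ v ∉ center G ∧ Commute v x
  b1' : ∀ y : G, ci y = t ^ b → ∃ v : G, PE t v ∧ v ∉ center G ∧ Commute v y

theorem TP.symm {s t a b : ℕ} (h : TP G s t a b) : TP G t s b a where
  hs := h.ht
  ht := h.hs
  hst := h.hst.symm
  csh := h.csh.symm
  hS := h.hT
  hT := h.hS
  exS := h.exT
  exT := h.exS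
  b1 := h.b1'
  b1' := h.b1

theorem CSH.toTP (h : CSH G n m)
    (hB1 : ∀ t : ℕ, t.Prime → ∀ x : G, PE t x → ci x = n → t ∣ m)
    (hB2 : ∀ s : ℕ, s.Prime → ∀ y : G, PE s y → ci y = m → s ∣ n) :
    ∃ s t a b : ℕ, n = s ^ a ∧ m = t ^ b ∧ TP G s t a b := by
  obtain ⟨t, b, ht, hb, x, hx, hxn⟩ := h.pow_of_caseB hB1 hB2
  obtain ⟨s, a, hs, ha, y, hy, hym⟩ := h.symm.pow_of_caseB hB2 hB1
  have hst : s ≠ t := by
    rintro rfl
    have h1 : s ∣ m := hB1 s hs x hx hxn
    have h2 : s ∣ n := hB2 s hs y hy hym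
    exact hs.one_lt.ne' (Nat.eq_one_of_dvd_coprimes h.cop h2 h1)
  refine ⟨s, t, a, b, ha, hb, ?_⟩
  subst ha hb
  refine ⟨hs, ht, hst, h, ?_, ?_, ⟨y, hy, hym⟩, ⟨x, hx, hxn⟩, ?_, ?_⟩
  · intro r hr x hx hxn
    exact (Nat.prime_dvd_prime_iff_eq hr ht).mp (hr.dvd_of_dvd_pow (hB1 r hr x hx hxn))
  · intro r hr x hx hxn
    exact (Nat.prime_dvd_prime_iff_eq hr hs).mp (hr.dvd_of_dvd_pow (hB2 r hr x hx hxn))
  · intro x hx
    obtain ⟨r, hr, hrn, v, hv, hvc, hvx⟩ := h.exists_commuting hB2 hx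
    have hrs := (Nat.prime_dvd_prime_iff_eq hr hs).mp (hr.dvd_of_dvd_pow hrn)
    subst hrs
    exact ⟨v, hv, hvc, hvx⟩
  · intro x hx
    obtain ⟨r, hr, hrn, v, hv, hvc, hvx⟩ := h.symm.exists_commuting hB1 hx
    have hrs := (Nat.prime_dvd_prime_iff_eq hr ht).mp (hr.dvd_of_dvd_pow hrn)
    subst hrs
    exact ⟨v, hv, hvc, hvx⟩

end Cfsg.Agent.H528.CS
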