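import Cfsg.Agent.H528.CSLemC

/-!
# Groups with the class sizes `1, s ^ a, t ^ b, s ^ a t ^ b`, III

The two-prime case `TP` does not occur.
-/

set_option autoImplicit false
set_option linter.style.haveILetI false

namespace Cfsg.Agent.H528.CS

open Subgroup
open Cfsg.Agent.H528.ClassSize

variable {G : Type*} [Group G]

namespace TP

variable [Finite G] {s t a b : ℕ} (h : TP G s t a b)

include h

theorem a_ne_zero : a ≠ 0 := by
  rintro rfl
  have := h.csh.hn
  rw [pow_zero] at this
  omega

/-- The case that `O_s(G)` is central. -/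
theorem caseII (hN : Cfsg.pCore s G ≤ center G) : False := by
  have hsf := Fact.mk h.hs
  have htf := Fact.mk h.ht
  set M := Cfsg.pPrimeCore s G with hM
  have hCn : (centralizer (M : Set G)).Normal := Subgroup.normal_centralizer
  set W := M ⊓ centralizer (M : Set G) with hWdef
  have hWn : W.Normal := inferInstance
  set K := centralizer (W : Set G) with hK
  have hKn : K.Normal := Subgroup.normal_centralizer
  set L0 := (Cfsg.pCore s (G ⧸ M)).comap (QuotientGroup.mk' M) with hL0
  set L := K ⊓ L0 with hL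
  have hLn : L.Normal := inferInstance
  have hMcop := Cfsg.Agent.Lib.HallHigman.pPrimeCore_coprime (G := G) s
  obtain ⟨x, hx, hxn⟩ := h.exT
  obtain ⟨y, hy, hym⟩ := h.exS
  have hxM : M ≤ cent x := h.le_cent_of_ci hxn
  have hWM : ∀ w ∈ W, ∀ g ∈ M, Commute w g := by
    intro w hw g hg
    exact ((Subgroup.mem_centralizer_iff.mp hw.2) g hg).symm
  have hxW : x ∈ W := by
    refine Subgroup.mem_inf.mpr ⟨?_, ?_⟩
    · apply pCore_le_pPrimeCore h.hs h.ht h.hst
      exact h.symm.fit hx (h.pCore_le_cent_of_ci hxn) (hN.trans (center_le_cent x))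
    · rw [Subgroup.mem_centralizer_iff]
      intro g hg
      exact (mem_cent'.mp (hxM hg)).eq
  have hKw : ∀ w ∈ W, K ≤ cent w := by
    intro w hw g hg
    rw [hK, Subgroup.mem_centralizer_iff] at hg
    exact mem_cent'.mpr (hg w hw).symm
  have hML : M ≤ L := by
    intro g hg
    refine Subgroup.mem_inf.mpr ⟨?_, ?_⟩
    · rw [hK, Subgroup.mem_centralizer_iff]
      intro w hw
      exact (hWM w hw g hg).eq
    · rw [hL0, Subgroup.mem_comap]
      have : QuotientGroup.mk' M g = 1 := (QuotientGroup.eq_one_iff g).mpr hg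
      rw [this]
      exact one_mem _
  have hyL : y ∈ L := by
    refine Subgroup.mem_inf.mpr ⟨?_, h.mem_pPrimePCore hy hym⟩
    rw [hK, Subgroup.mem_centralizer_iff]
    intro w hw
    exact (h.commute_center hy hym hw.1 (hWM w hw)).eq.symm
  -- a Sylow `s`-subgroup of `L` centralizes a given element of `M`
  have hclaim : ∀ w ∈ M, ¬ s ∣ (cent w).relIndex L := by
    intro w hw
    by_cases hwC : w ∈ centralizer (M : Set G)
    · have h1 : L ≤ cent w := inf_le_left.trans (hKw w (Subgroup.mem_inf.mpr ⟨hw, hwC⟩))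
      rw [Subgroup.relIndex_eq_one.mpr h1]
      exact fun hd => h.hs.one_lt.ne' (Nat.dvd_one.mp hd)
    · obtain ⟨c, d, hcd, -, ⟨k, hk⟩, hdt, hcz, hdz⟩ := Cfsg.Agent.H524.ClassSize.exists_decomp t w
      have hcM : c ∈ M := (Subgroup.zpowers_le.mpr hw) hcz
      have hdM : d ∈ M := (Subgroup.zpowers_le.mpr hw) hdz
      have hdc : d ∈ center G := by
        apply h.mem_center_of_coprime _ hdt
        apply Nat.Coprime.coprime_dvd_left _ hMcop
        have := orderOf_dvd_natCard (⟨d, hdM⟩ : M)
        rwa [Subgroup.orderOf_mk] at this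
      have hcC : c ∉ centralizer (M : Set G) := by
        intro hc
        apply hwC
        rw [← hcd]
        exact mul_mem hc (Subgroup.center_le_centralizer _ hdc)
      have hcw : cent c ≤ cent w := by
        intro g hg
        rw [mem_cent', ← hcd]
        exact (mem_cent'.mp hg).mul_right (mem_center_iff.mp hdc g)
      have hcc : c ∉ center G := fun hc => hcC (Subgroup.center_le_centralizer _ hc)
      have hcP : PE t c := pe_of_orderOf hk
      have hci : ci c = s ^ a * t ^ b := by
        rcases h.ciT hcP hcc with h1 | h1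
        · exfalso
          apply hcC
          rw [Subgroup.mem_centralizer_iff]
          intro g hg
          exact (mem_cent'.mp (h.le_cent_of_ci h1 hg)).eq
        · exact h1
      have h1 : ¬ s ∣ K.relIndex (cent c) := by
        apply not_dvd_relIndex_of h.hs
        intro v hv hvP
        have h2 : cent c ≤ cent v := h.cent_le (h.cop_st hvP hcP).symm hci (mem_cent'.mp hv).symm
        rw [hK, Subgroup.mem_centralizer_iff]
        intro u hu
        have h3 : u ∈ cent c := mem_cent'.mpr (hWM u hu c hcM)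
        exact (mem_cent'.mp (h2 h3)).eq
      have h2 : s ^ a ∣ K.index := by
        rw [← hxn]
        exact Subgroup.index_dvd_of_le (hKw x hxW)
      have h3 := not_dvd_relIndex_cent h.hs h1 h2 hci h.not_dvd_t
      intro hd
      apply h3
      exact (hd.trans (Subgroup.relIndex_dvd_of_le_left L hcw)).trans
        (relIndex_dvd_relIndex (cent c) (inf_le_left : L ≤ K))
  obtain ⟨S⟩ : Nonempty (Sylow s L) := inferInstance
  -- `L = M S`
  have hfac : ∀ l : L, ∃ m ∈ M.subgroupOf L, ∃ q ∈ (S : Subgroup L), l = m * q := by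
    have hp : IsPGroup s (L ⧸ M.subgroupOf L) := by
      intro g
      obtain ⟨l, rfl⟩ := QuotientGroup.mk'_surjective _ g
      have h1 : QuotientGroup.mk' M (l : G) ∈ Cfsg.pCore s (G ⧸ M) := l.2.2
      obtain ⟨k, hk⟩ := pe_of_mem (Cfsg.Agent.Lib.HallHigman.pCore_isPGroup (G := G ⧸ M) s) h1
      refine ⟨k, ?_⟩
      rw [← map_pow] at hk ⊢
      have h2 : (l : G) ^ s ^ k ∈ M := (QuotientGroup.eq_one_iff _).mp hk
      exact (QuotientGroup.eq_one_iff _).mpr (Subgroup.mem_subgroupOf.mpr (by simpa using h2))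
    obtain ⟨j, hj⟩ := hp.exists_card_eq
    have hcop : (M.subgroupOf L).index.Coprime (S : Subgroup L).index := by
      rw [Subgroup.index_eq_card, hj]
      exact Nat.Coprime.pow_left _ ((Nat.Prime.coprime_iff_not_dvd h.hs).mpr S.not_dvd_index)
    exact (Cfsg.Agent.S0007.result _ _ hcop).2
  -- `S` centralizes `M`
  have hSM : ∀ q ∈ (S : Subgroup L), M ≤ cent (q : G) := by
    set H0 : Subgroup M := (centralizer (((S : Subgroup L).map L.subtype : Subgroup G) : Set G)).subgroupOf M
      with hH0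
    have htop : H0 = ⊤ := by
      by_contra hne
      obtain ⟨w, hw⟩ := Cfsg.Agent.H395.Jordan.exists_not_conj_mem hne
      obtain ⟨R, hR⟩ := exists_sylow_le s ((cent (w : G)).subgroupOf L) (hclaim w w.2)
      obtain ⟨l, hl⟩ := MulAction.exists_smul_eq L S R
      obtain ⟨m, hm, q, hq, hlmq⟩ := hfac l
      apply hw ⟨(m : G), hm⟩
      rw [hH0, Subgroup.mem_subgroupOf, Subgroup.mem_centralizer_iff]
      rintro _ ⟨g, hg, rfl⟩
      have h1 : l * (q⁻¹ * g * q) * l⁻¹ ∈ (R : Subgroup L) := by
        rw [← hl, Sylow.smul_def]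
        exact ⟨q⁻¹ * g * q, mul_mem (mul_mem (inv_mem hq) hg) hq, rfl⟩
      have h2 : l * (q⁻¹ * g * q) * l⁻¹ = m * g * m⁻¹ := by rw [hlmq]; group
      rw [h2] at h1
      have h3 := hR h1
      rw [Subgroup.mem_subgroupOf] at h3
      have h4 : Commute ((m : G) * g * (m : G)⁻¹) (w : G) := mem_cent'.mp h3
      have h5 : (w : G) = (m : G) * ((m : G)⁻¹ * w * m) * (m : G)⁻¹ := by group
      rw [h5] at h4
      have h6 := mem_cent'.mp (cent_conj_mem.mp (mem_cent'.mpr h4))
      exact h6.eq
    intro q hq g hg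
    have h1 : (⟨g, hg⟩ : M) ∈ H0 := by rw [htop]; exact mem_top _
    rw [hH0, Subgroup.mem_subgroupOf, Subgroup.mem_centralizer_iff] at h1
    exact mem_cent'.mpr (h1 (q : G) ⟨q, hq, rfl⟩).symm
  -- hence `y` centralizes `M`
  have hyM : M ≤ cent y := by
    obtain ⟨l, hl⟩ := exists_conj_le h.hs S.not_dvd_index (hy.mk hyL).isPGroup
    have h1 := hSM _ (hl _ (mem_zpowers _))
    intro g hg
    have h2 : (l : G) * g * (l : G)⁻¹ ∈ M := (inferInstance : M.Normal).conj_mem g hg l
    exact cent_conj_mem.mp (h1 h2)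
  have hyN := h.fit hy (hN.trans (center_le_cent y)) ((pCore_le_pPrimeCore h.hs h.ht h.hst).trans hyM)
  exact h.not_mem_center hym (Or.inr (Or.inl rfl)) (hN hyN)

/-- If `O_s(G)` is not central then `O_{s'}(G)` is abelian. -/
theorem abelian_core (hN : ¬ Cfsg.pCore s G ≤ center G) :
    ∀ x ∈ Cfsg.pPrimeCore s G, ∀ y ∈ Cfsg.pPrimeCore s G, Commute x y := by
  have hsf := Fact.mk h.hs
  have htf := Fact.mk h.ht
  set M := Cfsg.pPrimeCore s G with hM
  have hMcop := Cfsg.Agent.Lib.HallHigman.pPrimeCore_coprime (G := G) s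
  obtain ⟨z, hz, hzc⟩ := SetLike.not_le_iff_exists.mp hN
  have hzP : PE s z := pe_of_mem (Cfsg.Agent.Lib.HallHigman.pCore_isPGroup s) hz
  have hMz : M ≤ cent z := by
    intro g hg
    exact mem_cent'.mpr (commute_of_inf_eq_bot (pCore_inf_pPrimeCore h.hs) hz hg).symm
  obtain ⟨T⟩ : Nonempty (Sylow t M) := inferInstance
  have hr : ∀ r : ℕ, r.Prime → r ≠ t → ∀ x : M, PE r x → x ∈ center M := by
    intro r hr hrt x hx
    by_cases hrs : r = s
    · subst hrs
      have h1 : x = 1 := by
        apply hx.eq_one hr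
        exact Nat.Coprime.coprime_dvd_left (orderOf_dvd_natCard x) hMcop
      rw [h1]
      exact one_mem _
    · have h1 := h.mem_center hr hrs hrt hx.coe
      rw [mem_center_iff]
      intro g
      exact Subtype.ext (mem_center_iff.mp h1 g)
  have hTa : ∀ x ∈ (T : Subgroup M), ∀ y ∈ (T : Subgroup M), Commute x y := by
    intro x hx y hy
    have hQ : IsPGroup t ((T : Subgroup M).map M.subtype) := T.isPGroup'.map _
    have := h.symm.commute_of_cent hzP hzc hQ ((Subgroup.map_subtype_le _).trans hMz)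
      (z₁ := x) (z₂ := y) ⟨x, hx, rfl⟩ ⟨y, hy, rfl⟩
    exact Subtype.ext this.eq
  have hD : centralizer ((T : Subgroup M) : Set M) = ⊤ := by
    apply eq_top_of_sylow
    intro r hrp
    by_cases hrt : r = t
    · subst hrt
      intro hd
      apply T.not_dvd_index
      refine hd.trans (Subgroup.index_dvd_of_le ?_)
      intro x hx
      rw [Subgroup.mem_centralizer_iff]
      intro y hy
      exact (hTa y hy x hx).eq
    · apply not_dvd_index_of_pe hrp
      intro x hx
      exact Subgroup.center_le_centralizer _ (hr r hrp hrt x hx)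
  have hZ : center M = ⊤ := by
    apply eq_top_of_sylow
    intro r hrp
    by_cases hrt : r = t
    · subst hrt
      intro hd
      apply T.not_dvd_index
      refine hd.trans (Subgroup.index_dvd_of_le ?_)
      intro x hx
      rw [mem_center_iff]
      intro g
      have h1 : g ∈ centralizer ((T : Subgroup M) : Set M) := by rw [hD]; exact mem_top _
      exact ((Subgroup.mem_centralizer_iff.mp h1) x hx).symm
    · exact not_dvd_index_of_pe hrp _ (hr r hrp hrt)
  intro x hx y hy
  have h1 : (⟨y, hy⟩ : M) ∈ center M := by rw [hZ]; exact mem_top _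
  exact congrArg Subtype.val (mem_center_iff.mp h1 ⟨x, hx⟩)

theorem mem_pCore_of_ci (hN : ¬ Cfsg.pCore s G ≤ center G) {y : G} (hy : PE s y) (hym : ci y = t ^ b) :
    y ∈ Cfsg.pCore s G := by
  apply h.fit hy (h.symm.pCore_le_cent_of_ci hym)
  intro w hw
  have hwM := pCore_le_pPrimeCore h.hs h.ht h.hst hw
  exact mem_cent'.mpr (h.commute_center hy hym hwM (h.abelian_core hN w hwM)).symm

/-- If `O_s(G)` is not central, it contains the `s`-elements centralizing it. -/
theorem mem_pCore_of_cent (hN : ¬ Cfsg.pCore s G ≤ center G) {z : G} (hz : PE s z)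
    (hzc : Cfsg.pCore s G ≤ cent z) : z ∈ Cfsg.pCore s G := by
  have hsf := Fact.mk h.hs
  have htf := Fact.mk h.ht
  by_cases hzZ : z ∈ center G
  · apply h.fit hz hzc
    intro g _
    exact mem_cent'.mpr (mem_center_iff.mp hzZ g)
  rcases h.ciS hz hzZ with h1 | h1
  · exact h.mem_pCore_of_ci hN hz h1
  set K := centralizer (Cfsg.pCore s G : Set G) with hK
  obtain ⟨y, hy, hym⟩ := h.exS
  have hyN := h.mem_pCore_of_ci hN hy hym
  have h2 : t ^ b ∣ K.index := by
    rw [← hym]
    apply Subgroup.index_dvd_of_le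
    intro g hg
    rw [hK, Subgroup.mem_centralizer_iff] at hg
    exact mem_cent'.mpr (hg y hyN).symm
  have h3 : ¬ t ∣ K.relIndex (cent z) := by
    apply not_dvd_relIndex_of h.ht
    intro u hu huP
    have h4 : cent z ≤ cent u := h.cent_le (h.cop_st hz huP) h1 (mem_cent'.mp hu).symm
    rw [hK, Subgroup.mem_centralizer_iff]
    intro g hg
    exact (mem_cent'.mp (h4 (hzc hg))).eq
  have h4 := not_dvd_relIndex_cent h.ht h3 h2 (by rw [h1, mul_comm]) h.not_dvd_s
  have h5 : Cfsg.pCore t G ≤ K := by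
    intro g hg
    rw [hK, Subgroup.mem_centralizer_iff]
    intro u hu
    exact (commute_of_inf_eq_bot (pCore_inf_pPrimeCore h.hs) hu
      (pCore_le_pPrimeCore h.hs h.ht h.hst hg)).eq
  have h6 : Cfsg.pCore t G ≤ cent z := by
    rw [← Subgroup.relIndex_eq_one]
    obtain ⟨k, hk⟩ := (Cfsg.Agent.Lib.HallHigman.pCore_isPGroup (G := G) t).exists_card_eq
    have h7 : (cent z).relIndex (Cfsg.pCore t G) ∣ t ^ k := by
      rw [← hk]
      exact Subgroup.relIndex_dvd_card _ _
    obtain ⟨j, -, hj⟩ := (Nat.dvd_prime_pow h.ht).mp h7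
    rcases Nat.eq_zero_or_pos j with rfl | hj0
    · rw [hj, pow_zero]
    · exfalso
      apply h4
      refine (Dvd.dvd.trans ?_ (relIndex_dvd_relIndex (cent z) h5))
      rw [hj]
      exact dvd_pow_self t hj0.ne'
  exact h.fit hz hzc h6

theorem mem_pCore_of_commute (hN : ¬ Cfsg.pCore s G ≤ center G) {w : G} (hw : w ∈ Cfsg.pCore t G)
    (hwc : w ∉ center G) {z : G} (hz : PE s z) (hzw : Commute z w) : z ∈ Cfsg.pCore s G := by
  have hsf := Fact.mk h.hs
  have htf := Fact.mk h.ht
  apply h.mem_pCore_of_cent hN hz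
  have hwP : PE t w := pe_of_mem (Cfsg.Agent.Lib.HallHigman.pCore_isPGroup t) hw
  have hQ : IsPGroup s (Cfsg.pCore s G ⊔ zpowers z : Subgroup G) :=
    IsPGroup.to_sup_of_normal_left (Cfsg.Agent.Lib.HallHigman.pCore_isPGroup s) hz.isPGroup
  have hQw : Cfsg.pCore s G ⊔ zpowers z ≤ cent w := by
    refine sup_le ?_ (Subgroup.zpowers_le.mpr (mem_cent'.mpr hzw))
    intro g hg
    exact mem_cent'.mpr (commute_of_inf_eq_bot (pCore_inf_pPrimeCore h.hs) hg
      (pCore_le_pPrimeCore h.hs h.ht h.hst hw))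
  intro g hg
  exact mem_cent'.mpr (h.commute_of_cent hwP hwc hQ hQw (Subgroup.mem_sup_left hg)
    (Subgroup.mem_sup_right (mem_zpowers z)))

/-- The counting. -/
theorem lt_of_not_central (hNs : ¬ Cfsg.pCore s G ≤ center G) (hNt : ¬ Cfsg.pCore t G ≤ center G) :
    s ^ a < t ^ b := by
  classical
  have hsf := Fact.mk h.hs
  have htf := Fact.mk h.ht
  obtain ⟨x, hx, hxn⟩ := h.exT
  have hxN : x ∈ Cfsg.pCore t G := h.symm.mem_pCore_of_ci hNt hx hxn
  have hxc : x ∉ center G := h.not_mem_center hxn (Or.inl rfl)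
  have hNx : Cfsg.pCore s G ≤ cent x := by
    intro g hg
    exact mem_cent'.mpr (commute_of_inf_eq_bot (pCore_inf_pPrimeCore h.hs) hg
      (pCore_le_pPrimeCore h.hs h.ht h.hst hxN))
  have hsa : s ^ a ∣ (Cfsg.pCore s G).index := by
    rw [← Subgroup.relIndex_mul_index hNx]
    have : (cent x).index = s ^ a := hxn
    rw [this]
    exact dvd_mul_left _ _
  set π := QuotientGroup.mk' (center G) with hπ
  have hπs : Function.Surjective π := QuotientGroup.mk'_surjective _
  set E := (cent (π x)).comap π with hE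
  have hNE : Cfsg.pCore s G ≤ E := by
    intro g hg
    rw [hE, Subgroup.mem_comap, mem_cent']
    have : Commute g x := mem_cent'.mp (hNx hg)
    exact this.map π
  have hEs : ¬ s ∣ (Cfsg.pCore s G).relIndex E := by
    apply not_dvd_relIndex_of h.hs
    intro g hg hgP
    apply h.mem_pCore_of_commute hNs hxN hxc hgP
    -- `g` commutes with `x`
    set c := x⁻¹ * (g * x * g⁻¹) with hc
    have hcN : c ∈ Cfsg.pCore t G := mul_mem (inv_mem hxN)
      ((inferInstance : (Cfsg.pCore t G).Normal).conj_mem x hxN g)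
    have hcP : PE t c := pe_of_mem (Cfsg.Agent.Lib.HallHigman.pCore_isPGroup t) hcN
    have hcc : c ∈ center G := by
      have h1 : π c = 1 := by
        rw [hE, Subgroup.mem_comap, mem_cent'] at hg
        have h2 : π g * π x = π x * π g := hg.eq
        rw [hc, map_mul, map_mul, map_mul, map_inv, map_inv, h2]
        group
      exact (QuotientGroup.eq_one_iff c).mp h1
    have hgx : g * x * g⁻¹ = x * c := by rw [hc]; group
    have hpow : ∀ n : ℕ, g ^ n * x * (g ^ n)⁻¹ = x * c ^ n := by
      intro n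
      induction n with
      | zero => simp
      | succ n ih =>
        have h3 : g * c ^ n * g⁻¹ = c ^ n := by
          rw [(mem_center_iff.mp (pow_mem hcc n) g), mul_inv_cancel_right]
        calc g ^ (n + 1) * x * (g ^ (n + 1))⁻¹ = g * (g ^ n * x * (g ^ n)⁻¹) * g⁻¹ := by
              rw [pow_succ']; group
          _ = (g * x * g⁻¹) * (g * c ^ n * g⁻¹) := by rw [ih]; group
          _ = x * c ^ (n + 1) := by rw [hgx, h3, pow_succ']; group
    obtain ⟨k, hk⟩ := hgP
    have h4 := hpow (s ^ k)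
    rw [hk] at h4
    have h5 : c ^ s ^ k = 1 := by
      have h6 : x * c ^ s ^ k = x * 1 := by rw [← h4]; group
      exact mul_left_cancel h6
    have h6 : c = 1 := hcP.eq_one' h.ht h.hs h.hst.symm ⟨k, h5⟩
    rw [h6, mul_one] at hgx
    exact mul_inv_eq_iff_eq_mul.mp hgx
  have hEi : s ^ a ∣ E.index := by
    have h1 := Subgroup.relIndex_mul_index hNE
    rw [← h1] at hsa
    exact (Nat.Coprime.pow_left a ((Nat.Prime.coprime_iff_not_dvd h.hs).mpr hEs)).dvd_of_dvd_mul_left hsa
  have hEc : E.index = ci (π x) := Subgroup.index_comap_of_surjective _ hπs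
  -- the class of `π x`
  set N := (Cfsg.pCore t G).map π with hN
  have hNn : N.Normal := (inferInstance : (Cfsg.pCore t G).Normal).map π hπs
  have hlt : ci (π x) < Nat.card N := by
    have h1 : ci (π x) = (ConjClasses.mk (π x)).carrier.ncard := (Cfsg.Agent.H503.ncard_class _).symm
    rw [h1]
    have hNc : Nat.card N = (N : Set (G ⧸ center G)).ncard := Nat.card_coe_set_eq _
    rw [hNc]
    apply Set.ncard_lt_ncard _ (Set.toFinite _)
    rw [Set.ssubset_iff_of_subset]
    · refine ⟨1, one_mem N, ?_⟩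
      intro h2
      rw [ConjClasses.mem_carrier_iff_mk_eq, ConjClasses.mk_eq_mk_iff_isConj] at h2
      have h3 : π x = 1 := isConj_one_right.mp h2
      exact hxc ((QuotientGroup.eq_one_iff x).mp h3)
    · intro g hg
      rw [ConjClasses.mem_carrier_iff_mk_eq, ConjClasses.mk_eq_mk_iff_isConj, isConj_comm] at hg
      obtain ⟨c, rfl⟩ := isConj_iff.mp hg
      exact hNn.conj_mem _ ⟨x, hxN, rfl⟩ c
  have hcard : Nat.card N = (center G).relIndex (Cfsg.pCore t G) := by
    have := Subgroup.relIndex_ker (K := Cfsg.pCore t G) π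
    rw [QuotientGroup.ker_mk'] at this
    exact this.symm
  -- an `s`-element outside `O_s(G)`
  obtain ⟨z, hz, hzN⟩ : ∃ z : G, PE s z ∧ z ∉ Cfsg.pCore s G := by
    by_contra hcon
    push Not at hcon
    exact not_dvd_index_of_pe h.hs (Cfsg.pCore s G) hcon ((dvd_pow_self s h.a_ne_zero).trans hsa)
  have hle : cent z ⊓ Cfsg.pCore t G ≤ center G := by
    intro w hw
    by_contra hwc
    exact hzN (h.mem_pCore_of_commute hNs hw.2 hwc hz (mem_cent'.mp hw.1).symm)
  have hdvd : Nat.card N ∣ t ^ b := by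
    have h1 : Nat.card N ∣ (cent z).relIndex (Cfsg.pCore t G) := by
      rw [hcard, ← Subgroup.inf_relIndex_right (cent z)]
      exact Subgroup.relIndex_dvd_of_le_left _ hle
    have h2 : Nat.card N ∣ s ^ a * t ^ b := by
      refine (h1.trans (relIndex_dvd_index _ _)).trans ?_
      show ci z ∣ _
      rcases h.csh.cases z with h3 | h3 | h3 | h3 <;> rw [h3]
      · exact one_dvd _
      · exact dvd_mul_right _ _
      · exact dvd_mul_left _ _
    have h3 : (Nat.card N).Coprime (s ^ a) := by
      obtain ⟨k, hk⟩ := (Cfsg.Agent.Lib.HallHigman.pCore_isPGroup (G := G) t).exists_card_eq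
      have h4 : Nat.card N ∣ t ^ k := by
        rw [← hk]
        exact h1.trans (Subgroup.relIndex_dvd_card _ _)
      exact Nat.Coprime.coprime_dvd_left h4
        (Nat.Coprime.pow _ _ ((Nat.coprime_primes h.ht h.hs).mpr h.hst.symm))
    exact h3.dvd_of_dvd_mul_left h2
  have htb : 0 < t ^ b := by have := h.csh.hm; omega
  have h8 : s ^ a ≤ ci (π x) := by
    rw [← hEc]
    exact Nat.le_of_dvd (Nat.pos_of_ne_zero Subgroup.index_ne_zero_of_finite) hEi
  have h9 := Nat.le_of_dvd htb hdvd
  omega

theorem false : False := by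
  by_cases hNs : Cfsg.pCore s G ≤ center G
  · exact h.caseII hNs
  by_cases hNt : Cfsg.pCore t G ≤ center G
  · exact h.symm.caseII hNt
  have h1 := h.lt_of_not_central hNs hNt
  have h2 := h.symm.lt_of_not_central hNt hNs
  omega

end TP

/-- **Groups with the class sizes `1, n, m, n m`, `n` and `m` coprime.** -/
theorem CSH.main [Finite G] {n m : ℕ} (h : CSH G n m) :
    Group.IsNilpotent G ∧ IsPrimePow n ∧ IsPrimePow m := by
  have hfin : ∀ {t s a b : ℕ} {x y : G}, t.Prime → s.Prime → n = t ^ a → m = s ^ b → PE t x → ci x = n →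
      PE s y → ci y = m → Group.IsNilpotent G ∧ IsPrimePow n ∧ IsPrimePow m := by
    intro t s a b x y ht hs hn hm hx hxn hy hym
    refine ⟨h.nilp ht hs hn hm hx hxn hy hym, ?_, ?_⟩
    · rw [hn]
      refine ht.isPrimePow.pow ?_
      rintro rfl
      have := h.hn
      rw [hn, pow_zero] at this
      omega
    · rw [hm]
      refine hs.isPrimePow.pow ?_
      rintro rfl
      have := h.hm
      rw [hm, pow_zero] at this
      omega
  by_cases h1 : ∃ t : ℕ, t.Prime ∧ ¬ t ∣ m ∧ ∃ x : G, PE t x ∧ ci x = n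
  · obtain ⟨t, ht, htm, x, hx, hxn⟩ := h1
    obtain ⟨s, b, hs, hm, y, hy, hym⟩ := h.caseA ht htm hx hxn
    have hsn : ¬ s ∣ n := by
      intro hd
      have hb : b ≠ 0 := by
        rintro rfl
        have := h.hm
        rw [hm, pow_zero] at this
        omega
      exact hs.one_lt.ne' (Nat.eq_one_of_dvd_coprimes h.cop hd (by rw [hm]; exact dvd_pow_self s hb))
    obtain ⟨t', a, ht', hn, x', hx', hxn'⟩ := h.symm.caseA hs hsn hy hym
    exact hfin ht' hs hn hm hx' hxn' hy hym
  by_cases h2 : ∃ s : ℕ, s.Prime ∧ ¬ s ∣ n ∧ ∃ y : G, PE s y ∧ ci y = m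
  · obtain ⟨s, hs, hsn, y, hy, hym⟩ := h2
    obtain ⟨t, a, ht, hn, x, hx, hxn⟩ := h.symm.caseA hs hsn hy hym
    have htm : ¬ t ∣ m := by
      intro hd
      have ha : a ≠ 0 := by
        rintro rfl
        have := h.hn
        rw [hn, pow_zero] at this
        omega
      exact ht.one_lt.ne' (Nat.eq_one_of_dvd_coprimes h.cop (by rw [hn]; exact dvd_pow_self t ha) hd)
    exact absurd ⟨t, ht, htm, x, hx, hxn⟩ h1
  push Not at h1 h2
  obtain ⟨s, t, a, b, -, -, hTP⟩ := h.toTP
    (fun t ht x hx hxn => by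
      by_contra hd
      exact h1 t ht hd x hx hxn)
    (fun s hs y hy hym => by
      by_contra hd
      exact h2 s hs hd y hy hym)
  exact hTP.false.elim

end Cfsg.Agent.H528.CS
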