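import Cfsg.Agent.H528.CSTwo
import Cfsg.Agent.Transfer.TausskyTwoGroup

/-!
# Groups with the class sizes `1, s ^ a, t ^ b, s ^ a t ^ b`, II

`TP.commute_center`: the `s`-elements of class size `t ^ b` centralize the centre of `O_{s'}(G)`.
-/

set_option autoImplicit false
set_option linter.style.haveILetI false

namespace Cfsg.Agent.H528.CS

open Subgroup
open Cfsg.Agent.H528.ClassSize

variable {G : Type*} [Group G]

/-- A normal subgroup `B` acting as an `s`-group on a normal abelian `s'`-subgroup `W`, not trivially: there is a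
normal subgroup `U ≠ 1` of `G` in `W` with `C_U(B) = 1`. -/
theorem exists_normal_fixfree [Finite G] {s : ℕ} [hs : Fact s.Prime] (W B : Subgroup G) [W.Normal] [B.Normal]
    (hW : ∀ x ∈ W, ∀ y ∈ W, x * y = y * x) (hcop : (Nat.card W).Coprime s)
    (hB : ∀ b ∈ B, ∃ k : ℕ, ∀ w ∈ W, Commute (b ^ s ^ k) w)
    {w₀ b₀ : G} (hw₀ : w₀ ∈ W) (hb₀ : b₀ ∈ B) (hne : ¬ Commute b₀ w₀) :
    ∃ U : Subgroup G, U.Normal ∧ U ≤ W ∧ U ≠ ⊥ ∧ ∀ u ∈ U, (∀ b ∈ B, Commute b u) → u = 1 := by
  classical
  let _ : CommGroup W :=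
    { (inferInstance : Group W) with mul_comm := fun x y => Subtype.ext (hW x x.2 y y.2) }
  let ρ : G →* MulAut W := MulAut.conjNormal
  have hρ : ∀ (g : G) (w : W), ((ρ g w : W) : G) = g * w * g⁻¹ := fun g w => MulAut.conjNormal_apply g w
  let Γ : Subgroup (MulAut W) := B.map ρ
  have : Finite (MulAut W) := Finite.of_injective (fun f : MulAut W => (f : W → W)) DFunLike.coe_injective
  have : Fintype Γ := Fintype.ofFinite Γ
  let φ : W →* W :=
    { toFun := fun w => ∏ γ : Γ, (γ : MulAut W) w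
      map_one' := by simp
      map_mul' := by
        intro x y
        simp [Finset.prod_mul_distrib] }
  have hφ : ∀ w : W, φ w = ∏ γ : Γ, (γ : MulAut W) w := fun w => rfl
  have hfix : ∀ (w : W) (δ : Γ), (δ : MulAut W) (φ w) = φ w := by
    intro w δ
    rw [hφ, map_prod]
    exact Fintype.prod_equiv (Equiv.mulLeft δ) _ _ (fun γ => rfl)
  have hconj : ∀ (g : G) (γ : Γ), ρ g * (γ : MulAut W) * (ρ g)⁻¹ ∈ Γ := by
    rintro g ⟨_, b, hb, rfl⟩
    refine ⟨g * b * g⁻¹, (inferInstance : B.Normal).conj_mem b hb g, ?_⟩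
    simp
  have hconj' : ∀ (g : G) (γ : Γ), (ρ g)⁻¹ * (γ : MulAut W) * ρ g ∈ Γ := by
    intro g γ
    have := hconj g⁻¹ γ
    rwa [map_inv, inv_inv] at this
  have heq : ∀ (g : G) (w : W), φ (ρ g w) = ρ g (φ w) := by
    intro g w
    rw [hφ, hφ, map_prod]
    let e : Γ ≃ Γ :=
      { toFun := fun γ => ⟨(ρ g)⁻¹ * γ * ρ g, hconj' g γ⟩
        invFun := fun γ => ⟨ρ g * γ * (ρ g)⁻¹, hconj g γ⟩
        left_inv := fun γ => Subtype.ext (by simp [mul_assoc])
        right_inv := fun γ => Subtype.ext (by simp [mul_assoc]) }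
    refine Fintype.prod_equiv e _ _ (fun γ => ?_)
    show (γ : MulAut W) (ρ g w) = ρ g (((ρ g)⁻¹ * γ * ρ g) w)
    simp [MulAut.mul_apply]
  -- `Γ` is an `s`-group
  have hΓ : IsPGroup s Γ := by
    rintro ⟨_, b, hb, rfl⟩
    obtain ⟨k, hk⟩ := hB b hb
    refine ⟨k, Subtype.ext ?_⟩
    show (ρ b) ^ s ^ k = 1
    rw [← map_pow]
    ext w
    rw [hρ, MulAut.one_apply]
    have := (hk w w.2).eq
    rw [this]
    group
  obtain ⟨j, hj⟩ := hΓ.exists_card_eq
  have hpow : ∀ w : W, (∀ b ∈ B, Commute b (w : G)) → φ w = w ^ s ^ j := by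
    intro w hw
    rw [hφ, ← hj, Nat.card_eq_fintype_card]
    rw [Finset.prod_congr rfl (g := fun _ => w)]
    · simp
    · rintro ⟨_, b, hb, rfl⟩ -
      apply Subtype.ext
      show ((ρ b w : W) : G) = w
      rw [hρ, (hw b hb).eq]
      group
  refine ⟨φ.ker.map W.subtype, ⟨?_⟩, Subgroup.map_subtype_le _, ?_, ?_⟩
  · rintro _ ⟨w, hw, rfl⟩ g
    refine ⟨ρ g w, ?_, hρ g w⟩
    have hw' : φ w = 1 := hw
    show φ (ρ g w) = 1
    rw [heq, hw', map_one]
  · intro hbot
    have hker : φ.ker = ⊥ := by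
      rw [Subgroup.map_eq_bot_iff_of_injective _ W.subtype_injective] at hbot
      exact hbot
    have hinj : Function.Injective φ := (MonoidHom.ker_eq_bot_iff φ).mp hker
    obtain ⟨w, hw⟩ := Finite.surjective_of_injective hinj ⟨w₀, hw₀⟩
    apply hne
    have h1 := hfix w ⟨ρ b₀, b₀, hb₀, rfl⟩
    rw [hw] at h1
    have h2 : b₀ * w₀ * b₀⁻¹ = w₀ := by
      have := congrArg (fun z : W => (z : G)) h1
      simpa [hρ] using this
    exact mul_inv_eq_iff_eq_mul.mp h2
  · rintro _ ⟨w, hw, rfl⟩ hb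
    have hw' : φ w = 1 := hw
    rw [hpow w hb] at hw'
    have h1 : orderOf w ∣ s ^ j := orderOf_dvd_of_pow_eq_one hw'
    have h2 : orderOf w ∣ Nat.card W := orderOf_dvd_natCard w
    have h3 := Nat.eq_one_of_dvd_coprimes (Nat.Coprime.pow_right j hcop) h2 h1
    rw [orderOf_eq_one_iff] at h3
    rw [h3]
    rfl

namespace TP

variable [Finite G] {s t a b : ℕ} (h : TP G s t a b)

include h

/-- `s`-elements of class size `t ^ b` lie in `O_{s',s}(G)`. -/
theorem mem_pPrimePCore {y : G} (hy : PE s y) (hym : ci y = t ^ b) :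
    y ∈ (Cfsg.pCore s (G ⧸ Cfsg.pPrimeCore s G)).comap (QuotientGroup.mk' (Cfsg.pPrimeCore s G)) := by
  have := h.solvable
  have := Fact.mk h.hs
  set M := Cfsg.pPrimeCore s G with hM
  have h1 := Cfsg.Agent.Lib.HallHigman.pPrimeCore_quotient_eq_bot s M hM
  have h2 := Cfsg.Agent.Lib.HallHigman.centralizer_pCore_le_of_solvable (G := G ⧸ M) s h1
  rw [Subgroup.mem_comap]
  apply h2
  have h3 : Cfsg.pCore s (G ⧸ M) ≤ cent (QuotientGroup.mk' M y) := by
    apply le_cent_of_coprime
    obtain ⟨k, hk⟩ := (Cfsg.Agent.Lib.HallHigman.pCore_isPGroup (G := G ⧸ M) s).exists_card_eq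
    rw [hk]
    have h4 : ci (QuotientGroup.mk' M y) ∣ t ^ b := by
      rw [← hym]
      exact ci_map_dvd _ (QuotientGroup.mk'_surjective M) y
    apply Nat.Coprime.coprime_dvd_left h4
    exact Nat.Coprime.pow _ _ ((Nat.coprime_primes h.ht h.hs).mpr h.hst.symm)
  rw [Subgroup.mem_centralizer_iff]
  intro g hg
  exact mem_cent'.mp (h3 hg)

/-- `s`-elements of class size `t ^ b` centralize the centre of `O_{s'}(G)`. -/
theorem commute_center {y : G} (hy : PE s y) (hym : ci y = t ^ b) {w : G} (hw : w ∈ Cfsg.pPrimeCore s G)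
    (hwc : ∀ g ∈ Cfsg.pPrimeCore s G, Commute w g) : Commute y w := by
  by_contra hne
  have hsf := Fact.mk h.hs
  have htf := Fact.mk h.ht
  set M := Cfsg.pPrimeCore s G with hM
  set W := M ⊓ centralizer (M : Set G) with hWdef
  set L := (Cfsg.pCore s (G ⧸ M)).comap (QuotientGroup.mk' M) with hL
  have hCn : (centralizer (M : Set G)).Normal := Subgroup.normal_centralizer
  have hWn : W.Normal := inferInstance
  have hMcop := Cfsg.Agent.Lib.HallHigman.pPrimeCore_coprime (G := G) s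
  have hWM : ∀ x ∈ W, ∀ g ∈ M, Commute x g := by
    intro x hx g hg
    exact ((Subgroup.mem_centralizer_iff.mp hx.2) g hg).symm
  set B := Subgroup.normalClosure ({y} : Set G) with hB
  have hyB : y ∈ B := Subgroup.subset_normalClosure rfl
  have hBL : B ≤ L := by
    apply Subgroup.normalClosure_le_normal
    rw [Set.singleton_subset_iff]
    exact h.mem_pPrimePCore hy hym
  have hBact : ∀ b ∈ B, ∃ k : ℕ, ∀ w ∈ W, Commute (b ^ s ^ k) w := by
    intro b hb
    have h1 := hBL hb
    rw [hL, Subgroup.mem_comap] at h1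
    obtain ⟨k, hk⟩ := pe_of_mem (Cfsg.Agent.Lib.HallHigman.pCore_isPGroup (G := G ⧸ M) s) h1
    refine ⟨k, fun w hw => ?_⟩
    have h2 : b ^ s ^ k ∈ M := by
      rw [← map_pow] at hk
      exact (QuotientGroup.eq_one_iff _).mp hk
    exact (hWM w hw _ h2).symm
  have hwW : w ∈ W := by
    refine Subgroup.mem_inf.mpr ⟨hw, ?_⟩
    rw [Subgroup.mem_centralizer_iff]
    intro g hg
    exact (hwc g hg).symm
  obtain ⟨U, hUn, hUW, hU1, hUf⟩ := exists_normal_fixfree W B
    (fun x hx z hz => (hWM x hx z hz.1).eq)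
    (Nat.Coprime.coprime_dvd_left (Subgroup.card_dvd_of_le inf_le_left) hMcop) hBact hwW hyB hne
  -- `U` is a `t`-group
  have hUt : IsPGroup t U := by
    have h1 : ∀ {d : ℕ}, d.Prime → d ∣ Nat.card U → d = t := by
      intro d hd hdU
      have := Fact.mk hd
      obtain ⟨u, hu⟩ := exists_prime_orderOf_dvd_card' d hdU
      by_contra hdt
      have hds : d ≠ s := by
        rintro rfl
        have h2 : d ∣ Nat.card M := hdU.trans (Subgroup.card_dvd_of_le (hUW.trans inf_le_left))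
        exact hd.one_lt.ne' (Nat.eq_one_of_dvd_coprimes hMcop h2 dvd_rfl)
      have huo : orderOf (u : G) = d ^ 1 := by rw [pow_one, Subgroup.orderOf_coe, hu]
      have h3 := h.mem_center hd hds hdt (pe_of_orderOf huo)
      have h4 := hUf u u.2 (fun b _ => (mem_center_iff.mp h3 b))
      rw [h4, orderOf_one, pow_one] at huo
      exact hd.one_lt.ne huo
    exact IsPGroup.of_card (Nat.eq_prime_pow_of_unique_prime_dvd Nat.card_pos.ne' h1)
  -- a `t`-element of class size `s ^ a` commuting with `y`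
  obtain ⟨x, hx, hxn, hxy⟩ := h.symm.exists_commute hy hym
  obtain ⟨T, hT⟩ := exists_sylow_le_cent t x (by rw [hxn]; exact h.not_dvd_s)
  have hUT : U ≤ (T : Subgroup G) := le_sylow U hUt T
  -- an element of `U` in the centre of `T`
  obtain ⟨u, huU, hu1, huT⟩ : ∃ u ∈ U, u ≠ 1 ∧ (T : Subgroup G) ≤ cent u := by
    have h1 : U.subgroupOf (T : Subgroup G) ≠ ⊥ := by
      intro h2
      rw [Subgroup.subgroupOf_eq_bot, disjoint_iff, inf_eq_left.mpr hUT] at h2
      exact hU1 h2
    obtain ⟨z, hz, hzc, hz1⟩ := Cfsg.Agent.Transfer.TausskyTwoGroup.exists_ne_one_mem_inf_center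
      T.isPGroup' (U.subgroupOf (T : Subgroup G)) h1
    refine ⟨z, hz, fun h2 => hz1 (Subtype.ext h2), ?_⟩
    intro g hg
    exact mem_cent'.mpr (congrArg Subtype.val (mem_center_iff.mp hzc ⟨g, hg⟩))
  -- `B` centralizes the conjugates of `x`
  have hBx : ∀ g : G, B ≤ cent (g * x * g⁻¹) := by
    intro g
    rw [hB, Subgroup.normalClosure, Subgroup.closure_le]
    intro c hc
    rw [Group.mem_conjugatesOfSet_iff] at hc
    obtain ⟨y', hy', hc⟩ := hc
    rw [Set.mem_singleton_iff] at hy'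
    subst hy'
    obtain ⟨k, rfl⟩ := isConj_iff.mp hc
    rw [SetLike.mem_coe, mem_cent']
    apply commute_conj hxy
    rw [hym, hxn]
    exact h.csh.cop.symm
  -- the centralizer of `x u`
  have hcx : cent (x * u) ≤ cent x ⊓ cent u := by
    intro g hg
    have h1 : g * (x * u) = (x * u) * g := (mem_cent'.mp hg).eq
    set q := u * (g * u * g⁻¹)⁻¹ with hq
    have hqU : q ∈ U := mul_mem huU (inv_mem (hUn.conj_mem u huU g))
    have h2 : x⁻¹ * (g * x * g⁻¹) = q := by
      rw [hq]
      have h3 : (g * x * g⁻¹) * (g * u * g⁻¹) = x * u := by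
        calc (g * x * g⁻¹) * (g * u * g⁻¹) = g * (x * u) * g⁻¹ := by group
          _ = x * u := by rw [h1]; group
      calc x⁻¹ * (g * x * g⁻¹) = x⁻¹ * ((g * x * g⁻¹) * (g * u * g⁻¹)) * (g * u * g⁻¹)⁻¹ := by group
        _ = u * (g * u * g⁻¹)⁻¹ := by rw [h3]; group
    have h4 : q = 1 := by
      apply hUf q hqU
      intro c hc
      rw [← h2]
      have h5 : Commute c (g * x * g⁻¹) := mem_cent'.mp (hBx g hc)
      have h6 : Commute c x := by
        have := mem_cent'.mp (hBx 1 hc)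
        simpa using this
      exact h6.inv_right.mul_right h5
    rw [h4] at h2
    rw [hq, mul_inv_eq_one] at h4
    rw [Subgroup.mem_inf, mem_cent', mem_cent']
    constructor
    · have h7 : g * x * g⁻¹ = x := by
        have := inv_mul_eq_one.mp h2
        exact this.symm
      exact mul_inv_eq_iff_eq_mul.mp h7
    · exact mul_inv_eq_iff_eq_mul.mp h4.symm
  have hTe : (T : Subgroup G) ≤ cent (x * u) := by
    intro g hg
    exact mem_cent'.mpr ((mem_cent'.mp (hT hg)).mul_right (mem_cent'.mp (huT hg)))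
  have hte : ¬ t ∣ ci (x * u) := not_dvd_ci (x * u) T hTe
  have hce : ci (x * u) = s ^ a := by
    have h1 : ci x ∣ ci (x * u) := ci_dvd_of_le (hcx.trans inf_le_left)
    rw [hxn] at h1
    rcases h.csh.of_dvd (h.csh.cases _) h1 with h2 | h2
    · exact h2
    · exfalso
      apply hte
      rw [h2]
      have hb : b ≠ 0 := by
        rintro rfl
        have := h.csh.hm
        rw [pow_zero] at this
        omega
      exact (dvd_pow_self t hb).mul_left _
  have hle : cent x ≤ cent u := by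
    have h1 : cent (x * u) = cent x := by
      apply cent_eq_of_dvd (hcx.trans inf_le_left)
      rw [hce, hxn]
    rw [← h1]
    exact hcx.trans inf_le_right
  apply hu1
  apply hUf u huU
  intro c hc
  have h1 := hBx 1 hc
  rw [one_mul, inv_one, mul_one] at h1
  exact mem_cent'.mp (hle h1)

end TP

end Cfsg.Agent.H528.CS
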