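import Cfsg.Agent.H528.CSCaseB
import Cfsg.Agent.Lib.BenderMaximal
import Cfsg.Agent.Lib.HallHigman
import Cfsg.Agent.S0144

/-!
# Groups with the class sizes `1, s ^ a, t ^ b, s ^ a t ^ b`, I

The tools for the two-prime case `TP` : centralizers of elements of largest class size, commuting pairs, abelian
Sylow subgroups of the centralizers, the Fitting subgroup.
-/

set_option autoImplicit false
set_option linter.style.haveILetI false

namespace Cfsg.Agent.H528.CS

open Subgroup
open Cfsg.Agent.H528.ClassSize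

variable {G : Type*} [Group G]

/-! ### General lemmas -/

/-- A `r`-subgroup is conjugate into a subgroup of index prime to `r`. -/
theorem exists_conj_le [Finite G] {r : ℕ} (hr : r.Prime) {H Q : Subgroup G} (h : ¬ r ∣ H.index)
    (hQ : IsPGroup r Q) : ∃ c : G, ∀ q ∈ Q, c * q * c⁻¹ ∈ H := by
  have := Fact.mk hr
  obtain ⟨R, hR⟩ := exists_sylow_le r H h
  obtain ⟨S, hS⟩ := hQ.exists_le_sylow
  obtain ⟨c, hc⟩ := MulAction.exists_smul_eq G S R
  refine ⟨c, fun q hq => hR ?_⟩
  rw [← hc, Sylow.smul_def]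
  exact ⟨q, hS hq, rfl⟩

/-- Normal subgroups of order prime to the class size of `x` centralize `x`. -/
theorem le_cent_of_coprime [Finite G] {M : Subgroup G} [M.Normal] {x : G}
    (h : (ci x).Coprime (Nat.card M)) : M ≤ cent x := by
  rw [← Subgroup.relIndex_eq_one]
  exact Nat.eq_one_of_dvd_coprimes h (relIndex_dvd_index _ _) (Subgroup.relIndex_dvd_card _ _)

/-- Index computation: if `|G : C(w)| = r ^ c * e`, `r ∤ e`, `r ^ c` divides `|G : K|` and `K ∩ C(w)` contains a
Sylow `r`-subgroup of `C(w)`, then it contains one of `K`. -/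
theorem not_dvd_relIndex_cent [Finite G] {r c e : ℕ} (hr : r.Prime) {K : Subgroup G} {w : G}
    (h1 : ¬ r ∣ K.relIndex (cent w)) (h2 : r ^ c ∣ K.index) (h3 : ci w = r ^ c * e) (he : ¬ r ∣ e) :
    ¬ r ∣ (cent w).relIndex K := by
  intro hd
  have e1 : (cent w).relIndex K * K.index = (cent w ⊓ K).index := by
    have := Subgroup.relIndex_mul_index (H := cent w ⊓ K) (K := K) inf_le_right
    rwa [Subgroup.inf_relIndex_right] at this
  have e2 : K.relIndex (cent w) * (cent w).index = (cent w ⊓ K).index := by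
    have := Subgroup.relIndex_mul_index (H := cent w ⊓ K) (K := cent w) inf_le_left
    rwa [Subgroup.inf_relIndex_left] at this
  obtain ⟨f, hf⟩ := h2
  obtain ⟨g, hg⟩ := hd
  have h4 : (cent w).index = r ^ c * e := h3
  rw [← e1, h4, hg, hf] at e2
  have h5 : K.relIndex (cent w) * e = r * g * f := by
    apply Nat.eq_of_mul_eq_mul_left (pow_pos hr.pos c)
    calc r ^ c * (K.relIndex (cent w) * e) = K.relIndex (cent w) * (r ^ c * e) := by ring
      _ = r * g * (r ^ c * f) := e2
      _ = r ^ c * (r * g * f) := by ring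
  have h6 : r ∣ K.relIndex (cent w) * e := by
    rw [h5, mul_assoc]
    exact dvd_mul_right _ _
  exact (hr.dvd_mul.mp h6).elim h1 he

theorem relIndex_dvd_relIndex [Finite G] (C : Subgroup G) {L K : Subgroup G} [L.Normal] (h : L ≤ K) :
    C.relIndex L ∣ C.relIndex K := by
  have h1 := relIndex_dvd_index (C.subgroupOf K) (L.subgroupOf K)
  rw [Subgroup.relIndex_subgroupOf h] at h1
  exact h1

theorem commute_of_inf_eq_bot {H K : Subgroup G} [H.Normal] [K.Normal] (h : H ⊓ K = ⊥) {x y : G}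
    (hx : x ∈ H) (hy : y ∈ K) : Commute x y :=
  Subgroup.commute_of_normal_of_disjoint _ _ inferInstance inferInstance (disjoint_iff.mpr h) _ _ hx hy

instance pCore_normal_inst (p : ℕ) : (Cfsg.pCore p G).Normal := Cfsg.Agent.Lib.HallHigman.pCore_normal p

instance pPrimeCore_normal_inst (p : ℕ) : (Cfsg.pPrimeCore p G).Normal :=
  Cfsg.Agent.Lib.HallHigman.pPrimeCore_normal p

theorem pCore_le_pPrimeCore [Finite G] {s t : ℕ} (hs : s.Prime) (ht : t.Prime) (hst : s ≠ t) :
    Cfsg.pCore t G ≤ Cfsg.pPrimeCore s G := by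
  have := Fact.mk ht
  apply Cfsg.Agent.Lib.HallHigman.le_pPrimeCore inferInstance
  obtain ⟨k, hk⟩ := (Cfsg.Agent.Lib.HallHigman.pCore_isPGroup (G := G) t).exists_card_eq
  rw [hk]
  exact Nat.Coprime.pow_left _ ((Nat.coprime_primes ht hs).mpr hst.symm)

theorem pCore_inf_pPrimeCore [Finite G] {s : ℕ} (hs : s.Prime) :
    Cfsg.pCore s G ⊓ Cfsg.pPrimeCore s G = ⊥ := by
  have := Fact.mk hs
  apply Subgroup.inf_eq_bot_of_coprime
  obtain ⟨k, hk⟩ := (Cfsg.Agent.Lib.HallHigman.pCore_isPGroup (G := G) s).exists_card_eq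
  rw [hk]
  exact Nat.Coprime.pow_left _ (Cfsg.Agent.Lib.HallHigman.pPrimeCore_coprime s).symm

/-! ### First consequences -/

namespace TP

variable [Finite G] {s t a b : ℕ} (h : TP G s t a b)

include h

theorem not_dvd_s : ¬ t ∣ s ^ a := by
  intro hd
  exact h.hst ((Nat.prime_dvd_prime_iff_eq h.ht h.hs).mp (h.ht.dvd_of_dvd_pow hd)).symm

theorem not_dvd_t : ¬ s ∣ t ^ b := by
  intro hd
  exact h.hst ((Nat.prime_dvd_prime_iff_eq h.hs h.ht).mp (h.hs.dvd_of_dvd_pow hd))

theorem mem_center {r : ℕ} (hr : r.Prime) (hrs : r ≠ s) (hrt : r ≠ t) {x : G} (hx : PE r x) :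
    x ∈ center G := by
  apply h.csh.mem_center hr _ _ hx
  · intro hd
    exact hrs ((Nat.prime_dvd_prime_iff_eq hr h.hs).mp (hr.dvd_of_dvd_pow hd))
  · intro hd
    exact hrt ((Nat.prime_dvd_prime_iff_eq hr h.ht).mp (hr.dvd_of_dvd_pow hd))

/-- Elements of order prime to `s` and to `t` are central. -/
theorem mem_center_of_coprime {x : G} (hs : (orderOf x).Coprime s) (ht : (orderOf x).Coprime t) :
    x ∈ center G := by
  by_contra hx
  obtain ⟨r, hr, y, hy, hyc, hyP⟩ := exists_primary' hx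
  have hyo : orderOf y ∣ orderOf x := orderOf_dvd_of_mem_zpowers hy
  apply hyc
  apply h.mem_center hr _ _ hyP
  · rintro rfl
    rw [hyP.eq_one h.hs (hs.coprime_dvd_left hyo)] at hyc
    exact hyc (one_mem _)
  · rintro rfl
    rw [hyP.eq_one h.ht (ht.coprime_dvd_left hyo)] at hyc
    exact hyc (one_mem _)

theorem ciT {x : G} (hx : PE t x) (hxc : x ∉ center G) : ci x = s ^ a ∨ ci x = s ^ a * t ^ b := by
  rcases h.csh.cases x with h1 | h1 | h1 | h1
  · exact absurd (ci_eq_one_iff.mp h1) hxc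
  · exact Or.inl h1
  · exact absurd (h.hT t h.ht x hx h1) h.hst.symm
  · exact Or.inr h1

theorem ciS {y : G} (hy : PE s y) (hyc : y ∉ center G) : ci y = t ^ b ∨ ci y = s ^ a * t ^ b := by
  rcases h.symm.ciT hy hyc with h1 | h1
  · exact Or.inl h1
  · exact Or.inr (by rw [h1, mul_comm])

theorem not_mem_center {x : G} {c : ℕ} (hx : ci x = c) (hc : c = s ^ a ∨ c = t ^ b ∨ c = s ^ a * t ^ b) :
    x ∉ center G := by
  intro hxc
  rw [← ci_eq_one_iff, hx] at hxc
  have h1 := h.csh.hn
  have h2 := h.csh.hm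
  have h3 : t ^ b ≤ s ^ a * t ^ b := Nat.le_mul_of_pos_left _ (by omega)
  omega

/-- The elements of the centralizer of an element of the largest class size, of coprime order. -/
theorem cent_le {w z : G} (hcop : (orderOf w).Coprime (orderOf z)) (hw : ci w = s ^ a * t ^ b)
    (hc : Commute w z) : cent w ≤ cent z := by
  have h1 : cent (w * z) ≤ cent w := by rw [cent_mul hc hcop]; exact inf_le_left
  have h2 : cent (w * z) ≤ cent z := by rw [cent_mul hc hcop]; exact inf_le_right
  have h3 : ci w ∣ ci (w * z) := ci_dvd_of_le h1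
  have h4 : ci (w * z) ∣ ci w := by
    rw [hw]
    rcases h.csh.cases (w * z) with h5 | h5 | h5 | h5 <;> rw [h5]
    · exact one_dvd _
    · exact dvd_mul_right _ _
    · exact dvd_mul_left _ _
  rw [← cent_eq_of_dvd h1 h4]
  exact h2

theorem cop_st {x y : G} (hx : PE s x) (hy : PE t y) : (orderOf x).Coprime (orderOf y) :=
  hx.coprime_of h.hs (hy.coprime h.ht h.hs h.hst.symm)

/-- The `s`-subgroups of the centralizer of a noncentral `t`-element are abelian. -/
theorem commute_of_cent {w : G} (hw : PE t w) (hwc : w ∉ center G) {Q : Subgroup G} (hQ : IsPGroup s Q)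
    (hQw : Q ≤ cent w) {z₁ z₂ : G} (h1 : z₁ ∈ Q) (h2 : z₂ ∈ Q) : Commute z₁ z₂ := by
  have hsp : ∀ z : cent w, (orderOf z).Coprime t → ∃ k : ℕ, (ConjClasses.mk z).carrier.ncard = t ^ k := by
    intro z hz
    rw [Cfsg.Agent.H503.ncard_class]
    show ∃ k : ℕ, ci z = t ^ k
    have h3 := ci_mul z (hw.coprime_of h.ht (by rw [Subgroup.orderOf_coe]; exact hz))
    have hs0 : 0 < s ^ a := by have := h.csh.hn; omega
    have ht0 : 0 < t ^ b := by have := h.csh.hm; omega
    rcases h.ciT hw hwc with h4 | h4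
    · rw [h4] at h3
      rcases h.csh.of_dvd (h.csh.cases _) (h3 ▸ dvd_mul_right _ _) with h5 | h5
      · rw [h5] at h3
        refine ⟨0, ?_⟩
        rw [pow_zero]
        exact Nat.eq_of_mul_eq_mul_left hs0 (by rw [mul_one]; exact h3.symm)
      · rw [h5] at h3
        exact ⟨b, (Nat.eq_of_mul_eq_mul_left hs0 h3).symm⟩
    · rw [h4] at h3
      have h6 : ci (w * (z : G)) ∣ s ^ a * t ^ b := by
        rcases h.csh.cases (w * z) with h5 | h5 | h5 | h5 <;> rw [h5]
        · exact one_dvd _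
        · exact dvd_mul_right _ _
        · exact dvd_mul_left _ _
      refine ⟨0, ?_⟩
      rw [pow_zero]
      rw [h3] at h6
      have h7 : s ^ a * t ^ b * ci z ∣ s ^ a * t ^ b * 1 := by rw [mul_one]; exact h6
      exact Nat.dvd_one.mp (Nat.dvd_of_mul_dvd_mul_left (Nat.mul_pos hs0 ht0) h7)
  obtain ⟨H, hHc, -, k, hk⟩ := (Cfsg.Agent.S4034.result h.ht).mp hsp
  have hidx : ¬ s ∣ H.index := by
    rw [hk]
    intro hd
    exact h.hst ((Nat.prime_dvd_prime_iff_eq h.hs h.ht).mp (h.hs.dvd_of_dvd_pow hd))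
  have hQ' : IsPGroup s (Q.subgroupOf (cent w)) :=
    hQ.comap_of_injective (cent w).subtype (cent w).subtype_injective
  obtain ⟨c, hc⟩ := exists_conj_le h.hs hidx hQ'
  have k1 := hc ⟨z₁, hQw h1⟩ (Subgroup.mem_subgroupOf.mpr h1)
  have k2 := hc ⟨z₂, hQw h2⟩ (Subgroup.mem_subgroupOf.mpr h2)
  have k3 : Commute (c * ⟨z₁, hQw h1⟩ * c⁻¹) (c * ⟨z₂, hQw h2⟩ * c⁻¹) :=
    congrArg Subtype.val (hHc.is_comm.comm ⟨_, k1⟩ ⟨_, k2⟩)
  have k4 := mem_cent'.mp (cent_conj_mem.mp (mem_cent'.mpr k3))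
  exact congrArg Subtype.val k4.eq

/-- A `t`-element of class size `s ^ a` commutes with an `s`-element of class size `t ^ b`. -/
theorem exists_commute {x : G} (hx : PE t x) (hxn : ci x = s ^ a) :
    ∃ y : G, PE s y ∧ ci y = t ^ b ∧ Commute x y := by
  obtain ⟨v, hv, hvc, hvx⟩ := h.b1 x hxn
  rcases h.ciS hv hvc with h1 | h1
  · exact ⟨v, hv, h1, hvx.symm⟩
  obtain ⟨y, hy, hym⟩ := h.exS
  refine ⟨y, hy, hym, ?_⟩
  have hcop : (cent y).index.Coprime (cent x).index := by
    show (ci y).Coprime (ci x)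
    rw [hym, hxn]
    exact h.csh.cop.symm
  have hidx : ((cent y).subgroupOf (cent x)).index = ci y := by
    obtain ⟨h2, -⟩ := Cfsg.Agent.S0007.result (cent y) (cent x) hcop
    have h3 := Subgroup.relIndex_mul_index (H := cent y ⊓ cent x) (K := cent x) inf_le_right
    rw [Subgroup.inf_relIndex_right, h2] at h3
    exact Nat.eq_of_mul_eq_mul_right (Nat.pos_of_ne_zero (ci_ne_zero x)) h3
  have hvm : v ∈ cent x := mem_cent'.mpr hvx
  obtain ⟨c, hc⟩ := exists_conj_le h.hs (H := (cent y).subgroupOf (cent x))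
    (by rw [hidx, hym]; exact h.not_dvd_t) (hv.mk hvm).isPGroup
  have h4 := hc _ (mem_zpowers _)
  rw [Subgroup.mem_subgroupOf] at h4
  set v' : G := (c : G) * v * (c : G)⁻¹ with hv'
  have h5 : v' ∈ cent y := by simpa using h4
  have h6 : Commute v' x := by
    have h8 : v' ∈ cent x := (c * ⟨v, hvm⟩ * c⁻¹ : cent x).2
    exact mem_cent'.mp h8
  have h7 : cent v' ≤ cent x := by
    apply h.cent_le (h.cop_st (hv.conj _) hx) _ h6
    rw [ci_conj, h1]
  have h8 : y ∈ cent x := h7 (mem_cent_comm.mp h5)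
  exact (mem_cent'.mp h8).symm

/-! ### Solvability and the Fitting subgroup -/

theorem solvable : Group.IsSolvable G := by
  have h1 : ∀ r : ℕ, r.Prime → r ∣ (center G).index → r = s ∨ r = t := by
    intro r hr hd
    by_contra hcon
    push Not at hcon
    exact not_dvd_index_of_pe hr (center G) (fun x hx => h.mem_center hr hcon.1 hcon.2 hx) hd
  obtain ⟨i, m1, hm1, hi⟩ := Nat.exists_eq_pow_mul_and_not_dvd (n := (center G).index)
    Subgroup.index_ne_zero_of_finite s h.hs.ne_one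
  have hm10 : m1 ≠ 0 := by
    rintro rfl
    exact hm1 (dvd_zero _)
  obtain ⟨j, m2, hm2, hj⟩ := Nat.exists_eq_pow_mul_and_not_dvd hm10 t h.ht.ne_one
  have hm2' : m2 = 1 := by
    by_contra hne
    have hp := Nat.minFac_prime hne
    have hd := Nat.minFac_dvd m2
    have hd1 : m2.minFac ∣ m1 := by rw [hj]; exact hd.mul_left _
    have hd2 : m2.minFac ∣ (center G).index := by rw [hi]; exact hd1.mul_left _
    rcases h1 _ hp hd2 with h2 | h2
    · exact hm1 (h2 ▸ hd1)
    · exact hm2 (h2 ▸ hd)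
  have hcard : Nat.card (G ⧸ center G) = s ^ i * t ^ j := by
    rw [← Subgroup.index_eq_card, hi, hj, hm2', mul_one]
  have h3 : Group.IsSolvable (G ⧸ center G) := Cfsg.Agent.S0144.result s t i j h.hs h.ht hcard
  have h4 : Group.IsSolvable (center G) := by
    apply Group.isSolvable_of_comm
    intro x y
    exact Subtype.ext (mem_center_iff.mp y.2 x)
  exact solvable_of_ker_le_range (center G).subtype (QuotientGroup.mk' (center G)) (by simp)

/-- An `s`-element centralizing `O_s(G)` and `O_t(G)` lies in `O_s(G)`. -/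
theorem fit {z : G} (hz : PE s z) (h1 : Cfsg.pCore s G ≤ cent z) (h2 : Cfsg.pCore t G ≤ cent z) :
    z ∈ Cfsg.pCore s G := by
  have := h.solvable
  have := Fact.mk h.hs
  have h3 : Cfsg.fittingSubgroup G ≤ cent z := by
    rw [Cfsg.Agent.Lib.Cores.fittingSubgroup_eq_iSup_pCore]
    apply iSup_le
    rintro ⟨p, hp⟩
    by_cases hps : p = s
    · subst hps
      exact h1
    by_cases hpt : p = t
    · subst hpt
      exact h2
    · intro g hg
      have := Fact.mk hp
      have hgc := h.mem_center hp hps hpt (pe_of_mem (Cfsg.Agent.Lib.HallHigman.pCore_isPGroup p) hg)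
      exact mem_cent'.mpr ((mem_center_iff.mp hgc z).symm)
  have h4 : z ∈ Cfsg.fittingSubgroup G := by
    apply Cfsg.Agent.S0044.result
    rw [Subgroup.mem_centralizer_iff]
    intro g hg
    exact mem_cent'.mp (h3 hg)
  exact Cfsg.Agent.Lib.BenderMaximal.le_pCore_of_le_fittingSubgroup hz.isPGroup
    ((Subgroup.zpowers_le).mpr h4) (mem_zpowers z)

/-- Elements of class size `s ^ a` centralize `O_{s'}(G)`. -/
theorem le_cent_of_ci {x : G} (hx : ci x = s ^ a) : Cfsg.pPrimeCore s G ≤ cent x := by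
  apply le_cent_of_coprime
  rw [hx]
  exact Nat.Coprime.pow_left _ (Cfsg.Agent.Lib.HallHigman.pPrimeCore_coprime s).symm

theorem pCore_le_cent_of_ci {x : G} (hx : ci x = s ^ a) : Cfsg.pCore t G ≤ cent x :=
  (pCore_le_pPrimeCore h.hs h.ht h.hst).trans (h.le_cent_of_ci hx)

end TP

end Cfsg.Agent.H528.CS
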