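import Mathlib.GroupTheory.Sylow
import Mathlib.GroupTheory.Solvable
import Mathlib.GroupTheory.Transfer
import Mathlib.Data.Nat.PrimeFin
import Mathlib.Tactic

/-!
# Conjugacy class sizes

`ci x` is the size of the conjugacy class of `x` (the index of its centralizer); `Hyp G` says that every class size
has at most two prime divisors. Divisibility of class sizes in quotients and normal subgroups.
-/

set_option autoImplicit false
set_option linter.style.haveILetI false

namespace Cfsg.Agent.H528.ClassSize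

open Subgroup

variable {G : Type*} [Group G]

/-- The size of the conjugacy class of `x`. -/
noncomputable def ci (x : G) : ℕ := (Subgroup.centralizer ({x} : Set G)).index

theorem ci_def (x : G) : ci x = (Subgroup.centralizer ({x} : Set G)).index := rfl

/-- Every class size has at most two prime divisors. -/
def Hyp (G : Type*) [Group G] : Prop := ∀ x : G, (ci x).primeFactors.card ≤ 2

theorem ci_ne_zero [Finite G] (x : G) : ci x ≠ 0 := Subgroup.index_ne_zero_of_finite

theorem mem_cent {x y : G} : y ∈ Subgroup.centralizer ({x} : Set G) ↔ y * x = x * y :=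
  Subgroup.mem_centralizer_singleton_iff

/-- Class sizes of images divide class sizes. -/
theorem ci_map_dvd {H : Type*} [Group H] (f : G →* H) (hf : Function.Surjective f) (x : G) :
    ci (f x) ∣ ci x := by
  have h1 : (Subgroup.centralizer ({x} : Set G)).map f ≤ Subgroup.centralizer ({f x} : Set H) := by
    rintro _ ⟨y, hy, rfl⟩
    rw [SetLike.mem_coe, mem_cent] at hy
    rw [mem_cent, ← map_mul, hy, map_mul]
  exact (Subgroup.index_dvd_of_le h1).trans (Subgroup.index_map_dvd _ hf)

theorem ci_equiv {H : Type*} [Group H] (e : G ≃* H) (x : G) : ci (e x) = ci x := by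
  apply Nat.dvd_antisymm
  · exact ci_map_dvd e.toMonoidHom e.surjective x
  · have := ci_map_dvd e.symm.toMonoidHom e.symm.surjective (e x)
    simpa using this

/-- `|N : C ∩ N| = |CN : C|`. -/
theorem relIndex_dvd_index [Finite G] (C N : Subgroup G) [N.Normal] :
    C.relIndex N ∣ C.index := by
  have h1 : (C ⊓ N).relIndex N * N.relIndex (C ⊔ N) = (C ⊓ N).relIndex (C ⊔ N) :=
    Subgroup.relIndex_mul_relIndex _ _ _ inf_le_right le_sup_right
  have h2 : (C ⊓ N).relIndex C * C.relIndex (C ⊔ N) = (C ⊓ N).relIndex (C ⊔ N) :=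
    Subgroup.relIndex_mul_relIndex _ _ _ inf_le_left le_sup_left
  have h3 : N.relIndex (C ⊔ N) = N.relIndex C := Subgroup.relIndex_sup_right C N
  rw [Subgroup.inf_relIndex_right] at h1
  rw [Subgroup.inf_relIndex_left, ← h1, h3, mul_comm] at h2
  have h4 : N.relIndex C ≠ 0 := Subgroup.index_ne_zero_of_finite
  rw [← Nat.eq_of_mul_eq_mul_right (Nat.pos_of_ne_zero h4) h2]
  exact Subgroup.relIndex_dvd_index_of_le le_sup_left

/-- Class sizes in a normal subgroup divide class sizes. -/
theorem ci_subgroup_dvd [Finite G] (N : Subgroup G) [N.Normal] (x : N) : ci x ∣ ci (x : G) := by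
  have h1 : Subgroup.centralizer ({x} : Set N) =
      (Subgroup.centralizer ({(x : G)} : Set G)).subgroupOf N := by
    ext y
    rw [mem_cent, Subgroup.mem_subgroupOf, mem_cent]
    constructor
    · intro h
      exact congrArg Subtype.val h
    · intro h
      exact Subtype.ext h
  unfold ci
  rw [h1]
  exact relIndex_dvd_index _ _

theorem ci_dvd_of_le {x y : G}
    (h : Subgroup.centralizer ({x} : Set G) ≤ Subgroup.centralizer ({y} : Set G)) :
    ci y ∣ ci x := Subgroup.index_dvd_of_le h

theorem card_primeFactors_le_of_dvd {a b : ℕ} (h : a ∣ b) (hb : b ≠ 0) :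
    a.primeFactors.card ≤ b.primeFactors.card :=
  Finset.card_le_card (Nat.primeFactors_mono h hb)

theorem Hyp.of_surjective [Finite G] (h : Hyp G) {H : Type*} [Group H] (f : G →* H)
    (hf : Function.Surjective f) : Hyp H := by
  intro y
  obtain ⟨x, rfl⟩ := hf y
  exact (card_primeFactors_le_of_dvd (ci_map_dvd f hf x) (ci_ne_zero x)).trans (h x)

theorem Hyp.quotient [Finite G] (h : Hyp G) (N : Subgroup G) [N.Normal] : Hyp (G ⧸ N) :=
  h.of_surjective (QuotientGroup.mk' N) (QuotientGroup.mk'_surjective N)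

theorem Hyp.normal [Finite G] (h : Hyp G) (N : Subgroup G) [N.Normal] : Hyp N := fun x =>
  (card_primeFactors_le_of_dvd (ci_subgroup_dvd N x) (ci_ne_zero _)).trans (h x)

theorem Hyp.not_three [Finite G] (h : Hyp G) (x : G) {p q r : ℕ} (hp : p.Prime) (hq : q.Prime)
    (hr : r.Prime) (hpq : p ≠ q) (hpr : p ≠ r) (hqr : q ≠ r) (h1 : p ∣ ci x) (h2 : q ∣ ci x)
    (h3 : r ∣ ci x) : False := by
  have h4 : ({p, q, r} : Finset ℕ) ⊆ (ci x).primeFactors := by
    intro a ha
    simp only [Finset.mem_insert, Finset.mem_singleton] at ha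
    rcases ha with rfl | rfl | rfl
    · exact Nat.mem_primeFactors.2 ⟨hp, h1, ci_ne_zero x⟩
    · exact Nat.mem_primeFactors.2 ⟨hq, h2, ci_ne_zero x⟩
    · exact Nat.mem_primeFactors.2 ⟨hr, h3, ci_ne_zero x⟩
  have h5 := Finset.card_le_card h4
  have h6 : ({p, q, r} : Finset ℕ).card = 3 := Finset.card_eq_three.2 ⟨p, q, r, hpq, hpr, hqr, rfl⟩
  have h7 := h x
  omega

/-- An element whose class size is prime to `p` centralizes a Sylow `p`-subgroup. -/
theorem exists_sylow_le [Finite G] (p : ℕ) [hp : Fact p.Prime] (C : Subgroup G)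
    (h : ¬ p ∣ C.index) : ∃ Q : Sylow p G, (Q : Subgroup G) ≤ C := by
  obtain ⟨Q0⟩ : Nonempty (Sylow p C) := inferInstance
  have h0 : IsPGroup p ((Q0 : Subgroup C).map C.subtype) := Q0.isPGroup'.map _
  have h1 : ¬ p ∣ ((Q0 : Subgroup C).map C.subtype).index := by
    have h2 : ((Q0 : Subgroup C).map C.subtype).index = (Q0 : Subgroup C).index * C.index := by
      rw [Subgroup.index_map_subtype]
    rw [h2, hp.out.dvd_mul]
    rintro (h3 | h3)
    · exact Q0.not_dvd_index h3
    · exact h h3
  exact ⟨h0.toSylow h1, Subgroup.map_subtype_le _⟩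

theorem exists_sylow_le_cent [Finite G] (p : ℕ) [hp : Fact p.Prime] (x : G) (h : ¬ p ∣ ci x) :
    ∃ Q : Sylow p G, (Q : Subgroup G) ≤ Subgroup.centralizer ({x} : Set G) :=
  exists_sylow_le p _ h

/-- A Sylow subgroup centralizing `x` makes the class size prime to `p`. -/
theorem not_dvd_ci [Finite G] {p : ℕ} [hp : Fact p.Prime] (x : G) (Q : Sylow p G)
    (h : (Q : Subgroup G) ≤ Subgroup.centralizer ({x} : Set G)) : ¬ p ∣ ci x :=
  fun h1 => Q.not_dvd_index (h1.trans (Subgroup.index_dvd_of_le h))

/-- A normal `p`-subgroup lies in every Sylow `p`-subgroup. -/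
theorem le_sylow [Finite G] {p : ℕ} [hp : Fact p.Prime] (N : Subgroup G) [N.Normal]
    (hN : IsPGroup p N) (P : Sylow p G) : N ≤ (P : Subgroup G) := by
  have h3 : IsPGroup p ((P : Subgroup G) ⊔ N : Subgroup G) :=
    P.isPGroup'.to_sup_of_normal_right hN
  have h4 := P.is_maximal' h3 le_sup_left
  rw [← h4]
  exact le_sup_right

end Cfsg.Agent.H528.ClassSize
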