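import Cfsg.Agent.H528.ClassSize
import Cfsg.Agent.S0144

/-!
# Counting elements that centralize a Sylow subgroup

The elements of `G` whose class size is prime to `p` are those centralizing a Sylow `p`-subgroup; there are at most
`|G| / |N(P) : C(P)|` of them.
-/

set_option autoImplicit false
set_option linter.style.haveILetI false

namespace Cfsg.Agent.H528.ClassSize

open Subgroup
open scoped Pointwise

variable {G : Type*} [Group G]

/-- `m |C(P)| ≤ |N(P)|` gives `m |X_p| ≤ |G|`. -/
theorem mul_card_le [Finite G] {p : ℕ} [Fact p.Prime] (P : Sylow p G) {m : ℕ}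
    (h2 : m * Nat.card (Subgroup.centralizer ((P : Subgroup G) : Set G)) ≤
      Nat.card (Subgroup.normalizer ((P : Subgroup G) : Set G))) :
    m * Nat.card {g : G // ¬ p ∣ ci g} ≤ Nat.card G := by
  classical
  set N := Subgroup.normalizer ((P : Subgroup G) : Set G) with hN
  set C := Subgroup.centralizer ((P : Subgroup G) : Set G) with hC
  have hinj : Nat.card {g : G // ¬ p ∣ ci g} ≤ Nat.card (Sylow p G) * Nat.card C := by
    have key : ∀ g : {g : G // ¬ p ∣ ci g},
        ∃ Q : Sylow p G, (Q : Subgroup G) ≤ Subgroup.centralizer ({g.1} : Set G) :=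
      fun g => exists_sylow_le_cent p _ g.2
    choose Q hQ using key
    have key2 : ∀ Q : Sylow p G, ∃ x : G, x • P = Q := fun Q => MulAction.exists_smul_eq G P Q
    choose x hx using key2
    let f : {g : G // ¬ p ∣ ci g} → Sylow p G × C :=
      fun g => ⟨Q g, ⟨(x (Q g))⁻¹ * g.1 * x (Q g), by
        rw [hC, Subgroup.mem_centralizer_iff]
        intro h hh
        have h1 : x (Q g) * h * (x (Q g))⁻¹ ∈ ((Q g : Sylow p G) : Subgroup G) := by
          have h0 : ((Q g : Sylow p G) : Subgroup G) = MulAut.conj (x (Q g)) • (P : Subgroup G) := by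
            rw [← Sylow.coe_subgroup_smul]
            exact congrArg _ (hx (Q g)).symm
          rw [h0]
          have h2 := Subgroup.smul_mem_pointwise_smul h (MulAut.conj (x (Q g))) (P : Subgroup G) hh
          simpa using h2
        have h3 := hQ g h1
        rw [Subgroup.mem_centralizer_singleton_iff] at h3
        have h4 : x (Q g) * h * (x (Q g))⁻¹ * g.1 = g.1 * (x (Q g) * h * (x (Q g))⁻¹) := h3
        calc h * ((x (Q g))⁻¹ * g.1 * x (Q g)) = (x (Q g))⁻¹ * (x (Q g) * h * (x (Q g))⁻¹ * g.1) * x (Q g) := by group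
          _ = (x (Q g))⁻¹ * (g.1 * (x (Q g) * h * (x (Q g))⁻¹)) * x (Q g) := by rw [h4]
          _ = (x (Q g))⁻¹ * g.1 * x (Q g) * h := by group⟩⟩
    have hf : Function.Injective f := by
      intro a b hab
      have h1 : Q a = Q b := congrArg Prod.fst hab
      have h2 : (x (Q a))⁻¹ * a.1 * x (Q a) = (x (Q b))⁻¹ * b.1 * x (Q b) :=
        congrArg (fun z : Sylow p G × C => (z.2 : G)) hab
      rw [h1] at h2
      apply Subtype.ext
      exact mul_left_cancel (mul_right_cancel h2)
    have := Nat.card_le_card_of_injective f hf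
    rwa [Nat.card_prod] at this
  have hidx : Nat.card (Sylow p G) = N.index := Sylow.card_eq_index_normalizer P
  calc m * Nat.card {g : G // ¬ p ∣ ci g}
      ≤ m * (Nat.card (Sylow p G) * Nat.card C) := Nat.mul_le_mul_left _ hinj
    _ = N.index * (m * Nat.card C) := by rw [hidx]; ring
    _ ≤ N.index * Nat.card N := Nat.mul_le_mul_left _ h2
    _ = Nat.card G := Subgroup.index_mul_card N

/-- In a nonabelian simple group, `C(P) < N(P)`. -/
theorem not_normalizer_le [Finite G] [IsSimpleGroup G] (hns : ¬ Group.IsSolvable G) {p : ℕ}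
    [hp : Fact p.Prime] (hd : p ∣ Nat.card G) (P : Sylow p G) :
    ¬ Subgroup.normalizer ((P : Subgroup G) : Set G) ≤
      Subgroup.centralizer ((P : Subgroup G) : Set G) := by
  intro h
  have h1 := MonoidHom.ker_transferSylow_isComplement' P h
  have h2 : (MonoidHom.transferSylow P h).ker.Normal := inferInstance
  rcases h2.eq_bot_or_eq_top with h3 | h3
  · apply hns
    have h4 : Nat.card (P : Subgroup G) = Nat.card G := by
      have := h1.card_mul_card
      rw [h3, Subgroup.card_bot, one_mul] at this
      exact this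
    have h5 : (P : Subgroup G) = ⊤ := Subgroup.card_eq_iff_eq_top _ |>.1 h4
    have h6 : IsPGroup p G := by
      have h7 := P.isPGroup'
      rw [h5] at h7
      exact h7.of_equiv Subgroup.topEquiv
    have h8 : Group.IsNilpotent G := h6.isNilpotent
    infer_instance
  · have h4 : Nat.card (P : Subgroup G) = 1 := by
      have := h1.card_mul_card
      rw [h3, Subgroup.card_top] at this
      exact Nat.eq_of_mul_eq_mul_left Nat.card_pos (this.trans (mul_one _).symm)
    have h5 := P.card_eq_multiplicity
    rw [h4] at h5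
    have h6 : 1 ≤ (Nat.card G).factorization p :=
      (hp.out.dvd_iff_one_le_factorization Nat.card_pos.ne').1 hd
    have h7 : 1 < p ^ (Nat.card G).factorization p :=
      Nat.one_lt_pow (by omega) hp.out.one_lt
    omega

theorem centralizer_le_norm (P : Subgroup G) : Subgroup.centralizer (P : Set G) ≤
    Subgroup.normalizer (P : Set G) := Subgroup.centralizer_le_normalizer _

/-- `2 |C(P)| ≤ |N(P)|` in a nonabelian simple group. -/
theorem two_mul_le [Finite G] [IsSimpleGroup G] (hns : ¬ Group.IsSolvable G) {p : ℕ}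
    [hp : Fact p.Prime] (hd : p ∣ Nat.card G) (P : Sylow p G) :
    2 * Nat.card (Subgroup.centralizer ((P : Subgroup G) : Set G)) ≤
      Nat.card (Subgroup.normalizer ((P : Subgroup G) : Set G)) := by
  obtain ⟨k, hk⟩ := Subgroup.card_dvd_of_le (centralizer_le_norm (P : Subgroup G))
  have hk0 : k ≠ 0 := by
    rintro rfl
    rw [mul_zero] at hk
    exact Nat.card_pos.ne' hk
  have hk1 : k ≠ 1 := by
    rintro rfl
    rw [mul_one] at hk
    exact not_normalizer_le hns hd P
      (Subgroup.eq_of_le_of_card_ge (centralizer_le_norm (P : Subgroup G)) hk.le).ge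
  rw [hk, mul_comm]
  exact Nat.mul_le_mul_left _ (by omega)

/-- `|P| |C(P)| = |P C(P)| |Z(P)|` -/
theorem card_mul_center [Finite G] (P : Subgroup G) :
    Nat.card P * Nat.card (Subgroup.centralizer (P : Set G)) ∣
      Nat.card (Subgroup.normalizer (P : Set G)) *
        Nat.card (P ⊓ Subgroup.centralizer (P : Set G) : Subgroup G) := by
  set C := Subgroup.centralizer (P : Set G) with hC
  set N := Subgroup.normalizer (P : Set G) with hN
  have h1 : P ≤ N := Subgroup.le_normalizer
  have h2 : C ≤ N := centralizer_le_norm P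
  have h3 : Nat.card P = Nat.card (P ⊓ C : Subgroup G) * C.relIndex P := by
    rw [Subgroup.relIndex, ← Subgroup.card_mul_index (C.subgroupOf P)]
    congr 1
    rw [← Subgroup.inf_subgroupOf_left]
    exact Nat.card_congr (Subgroup.subgroupOfEquivOfLe inf_le_left).toEquiv
  have h4 : Nat.card N = Nat.card C * C.relIndex N := by
    rw [Subgroup.relIndex, ← Subgroup.card_mul_index (C.subgroupOf N)]
    congr 1
    exact Nat.card_congr (Subgroup.subgroupOfEquivOfLe h2).toEquiv
  have h5 : C.relIndex P ∣ C.relIndex N := by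
    have hn : (C.subgroupOf N).Normal := by
      rw [hC, hN]; infer_instance
    have e1 : C.relIndex P = (C.subgroupOf N).relIndex (P.subgroupOf N) := by
      rw [Subgroup.relIndex_subgroupOf h1]
    rw [e1, Subgroup.relIndex]
    exact Subgroup.relIndex_dvd_index_of_normal _ _
  obtain ⟨t, ht⟩ := h5
  refine ⟨t, ?_⟩
  rw [h3, h4, ht]
  ring

theorem sq_mul_le [Finite G] {p : ℕ} [hp : Fact p.Prime] (P : Sylow p G)
    (hnc : ∃ a ∈ P, ∃ b ∈ P, a * b ≠ b * a) :
    p ^ 2 * Nat.card (Subgroup.centralizer ((P : Subgroup G) : Set G)) ≤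
      Nat.card (Subgroup.normalizer ((P : Subgroup G) : Set G)) := by
  set C := Subgroup.centralizer ((P : Subgroup G) : Set G) with hC
  set N := Subgroup.normalizer ((P : Subgroup G) : Set G) with hN
  set Z := (P : Subgroup G) ⊓ C with hZ
  have h1 := Nat.le_of_dvd (Nat.mul_pos Nat.card_pos Nat.card_pos)
    (card_mul_center (P : Subgroup G))
  -- `p ^ 2 |Z| ≤ |P|`
  have hZc : Nat.card Z = Nat.card (Subgroup.center (P : Subgroup G)) := by
    have h2 : Subgroup.center (P : Subgroup G) = C.subgroupOf (P : Subgroup G) := by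
      ext x
      rw [Subgroup.mem_center_iff, Subgroup.mem_subgroupOf, hC, Subgroup.mem_centralizer_iff]
      constructor
      · intro h y hy
        exact congrArg Subtype.val (h ⟨y, hy⟩)
      · intro h y
        exact Subtype.ext (h y y.2)
    rw [h2, ← Subgroup.inf_subgroupOf_left]
    exact (Nat.card_congr (Subgroup.subgroupOfEquivOfLe inf_le_left).toEquiv).symm
  have h3 : p ^ 2 * Nat.card Z ≤ Nat.card (P : Subgroup G) := by
    rw [hZc, ← Subgroup.card_mul_index (Subgroup.center (P : Subgroup G)), mul_comm]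
    apply Nat.mul_le_mul_left
    have h4 : ∃ k, (Subgroup.center (P : Subgroup G)).index = p ^ k :=
      P.isPGroup'.index _
    obtain ⟨k, hk⟩ := h4
    have h5 : 2 ≤ k := by
      by_contra h6
      apply not_forall.2 ?_ (?_ : IsMulCommutative (P : Subgroup G)).is_comm.comm
      · obtain ⟨a, ha, b, hb, hab⟩ := hnc
        refine ⟨⟨a, ha⟩, fun h7 => hab ?_⟩
        exact congrArg Subtype.val (h7 ⟨b, hb⟩)
      · have h7 : IsCyclic ((P : Subgroup G) ⧸ Subgroup.center (P : Subgroup G)) := by
          have h8 : Nat.card ((P : Subgroup G) ⧸ Subgroup.center (P : Subgroup G)) = p ^ k := hk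
          have h9 : k = 0 ∨ k = 1 := by omega
          rcases h9 with rfl | rfl
          · rw [pow_zero, Nat.card_eq_one_iff_unique] at h8
            have := h8.1
            infer_instance
          · rw [pow_one] at h8
            exact isCyclic_of_prime_card h8
        exact MonoidHom.isMulCommutative_of_isCyclic_of_ker_le_center
          (QuotientGroup.mk' (Subgroup.center (P : Subgroup G))) (by rw [QuotientGroup.ker_mk'])
    rw [hk]
    exact Nat.pow_le_pow_right hp.out.pos h5
  have h4 : 0 < Nat.card Z := Nat.card_pos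
  have h5 : p ^ 2 * Nat.card Z * Nat.card C ≤ Nat.card N * Nat.card Z :=
    (Nat.mul_le_mul_right _ h3).trans h1
  have h6 : (p ^ 2 * Nat.card C) * Nat.card Z ≤ Nat.card N * Nat.card Z := by
    calc (p ^ 2 * Nat.card C) * Nat.card Z = p ^ 2 * Nat.card Z * Nat.card C := by ring
      _ ≤ _ := h5
  exact Nat.le_of_mul_le_mul_right h6 h4

/-- `3 |C(T)| ≤ |N(T)|` for a Sylow `2`-subgroup of a nonabelian simple group. -/
theorem three_mul_le [Finite G] [IsSimpleGroup G] (hns : ¬ Group.IsSolvable G)
    (hd : 2 ∣ Nat.card G) (P : Sylow 2 G) :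
    3 * Nat.card (Subgroup.centralizer ((P : Subgroup G) : Set G)) ≤
      Nat.card (Subgroup.normalizer ((P : Subgroup G) : Set G)) := by
  by_cases hnc : ∃ a ∈ P, ∃ b ∈ P, a * b ≠ b * a
  · have := sq_mul_le P hnc
    omega
  · push Not at hnc
    set C := Subgroup.centralizer ((P : Subgroup G) : Set G) with hC
    set N := Subgroup.normalizer ((P : Subgroup G) : Set G) with hN
    have h0 := two_mul_le hns hd P
    have hPC : (P : Subgroup G) ≤ C := fun a ha => by
      rw [hC, Subgroup.mem_centralizer_iff]
      intro b hb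
      exact hnc b hb a ha
    have hCN : C ≤ N := centralizer_le_norm (P : Subgroup G)
    obtain ⟨k, hk⟩ := Subgroup.card_dvd_of_le hCN
    have hk2 : ¬ 2 ∣ k := by
      intro h2
      have h3 : C.relIndex N ∣ C.index := Subgroup.relIndex_dvd_index_of_le hCN
      have h4 : Nat.card N = Nat.card C * C.relIndex N := by
        rw [Subgroup.relIndex, ← Subgroup.card_mul_index (C.subgroupOf N)]
        congr 1
        exact Nat.card_congr (Subgroup.subgroupOfEquivOfLe hCN).toEquiv
      have h5 : k = C.relIndex N := by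
        apply Nat.eq_of_mul_eq_mul_left (Nat.card_pos (α := C))
        rw [← hk, h4]
      have h6 : C.index ∣ (P : Subgroup G).index := Subgroup.index_dvd_of_le hPC
      exact P.not_dvd_index (((h5 ▸ h2).trans h3).trans h6)
    have hk0 : 2 ≤ k := by
      rw [hk, mul_comm] at h0
      exact Nat.le_of_mul_le_mul_left h0 Nat.card_pos
    rw [hk, mul_comm]
    exact Nat.mul_le_mul_left _ (by omega)

open scoped Classical in
/-- The double count. -/
theorem sum_card_ge [Finite G] (hH : Hyp G) (π : Finset ℕ) (hπ : ∀ p ∈ π, p.Prime)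
    (h2 : 2 ≤ π.card) :
    (π.card - 2) * Nat.card G + 2 ≤ ∑ p ∈ π, Nat.card {g : G // ¬ p ∣ ci g} := by
  haveI : Fintype G := Fintype.ofFinite G
  have h1 : ∑ p ∈ π, Nat.card {g : G // ¬ p ∣ ci g} =
      ∑ g : G, (π.filter (fun p => ¬ p ∣ ci g)).card := by
    have e : ∀ p, Nat.card {g : G // ¬ p ∣ ci g} = ∑ g : G, if ¬ p ∣ ci g then 1 else 0 := by
      intro p
      rw [Nat.card_eq_fintype_card, Fintype.card_subtype, Finset.card_filter]
    simp only [e]
    rw [Finset.sum_comm]
    simp only [Finset.card_filter]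
  have h3 : ∀ g : G, π.card - 2 ≤ (π.filter (fun p => ¬ p ∣ ci g)).card := by
    intro g
    have e1 := Finset.card_filter_add_card_filter_not (s := π) (fun p => p ∣ ci g)
    have e2 : (π.filter (fun p => p ∣ ci g)).card ≤ 2 := by
      refine le_trans (Finset.card_le_card ?_) (hH g)
      intro p hp
      rw [Finset.mem_filter] at hp
      exact Nat.mem_primeFactors.2 ⟨hπ p hp.1, hp.2, ci_ne_zero g⟩
    omega
  have h4 : (π.filter (fun p => ¬ p ∣ ci (1 : G))).card = π.card := by
    rw [Finset.filter_true_of_mem]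
    intro p hp
    have e1 : ci (1 : G) = 1 := by
      unfold ci
      rw [Subgroup.index_eq_one, Subgroup.eq_top_iff']
      intro x
      rw [mem_cent, mul_one, one_mul]
    rw [e1]
    exact (hπ p hp).not_dvd_one
  rw [h1, ← Finset.add_sum_erase _ _ (Finset.mem_univ (1 : G)), h4]
  have h5 : (Finset.univ.erase (1 : G)).card * (π.card - 2) ≤
      ∑ g ∈ Finset.univ.erase (1 : G), (π.filter (fun p => ¬ p ∣ ci g)).card := by
    rw [← smul_eq_mul]
    exact Finset.card_nsmul_le_sum _ _ _ (fun g _ => h3 g)
  have h6 : (Finset.univ.erase (1 : G)).card + 1 = Nat.card G := by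
    rw [Finset.card_erase_add_one (Finset.mem_univ _), Finset.card_univ, Nat.card_eq_fintype_card]
  rw [← h6, mul_add, mul_one]
  have h7 : (π.card - 2) * (Finset.univ.erase (1 : G)).card =
      (Finset.univ.erase (1 : G)).card * (π.card - 2) := mul_comm _ _
  omega

/-- A nonabelian simple group whose class sizes have at most two prime divisors has order with exactly three. -/
theorem three_primes [Finite G] [IsSimpleGroup G] (hns : ¬ Group.IsSolvable G) (hH : Hyp G) :
    (Nat.card G).primeFactors.card = 3 := by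
  set π := (Nat.card G).primeFactors with hπ
  have hge : 3 ≤ π.card := by
    by_contra hlt
    apply hns
    -- Burnside
    have h1 : π.card ≤ 2 := by omega
    obtain ⟨p, q, hp, hq, hpq⟩ : ∃ p q : ℕ, p.Prime ∧ q.Prime ∧ π ⊆ {p, q} := by
      rcases Nat.lt_or_ge π.card 1 with h | h
      · refine ⟨2, 3, Nat.prime_two, Nat.prime_three, ?_⟩
        have : π = ∅ := Finset.card_eq_zero.1 (by omega)
        rw [this]; exact Finset.empty_subset _
      · rcases Nat.lt_or_ge π.card 2 with h' | h'
        · obtain ⟨p, hp⟩ := Finset.card_eq_one.1 (show π.card = 1 by omega)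
          have : p ∈ π := by rw [hp]; exact Finset.mem_singleton_self p
          refine ⟨p, 2, Nat.prime_of_mem_primeFactors this, Nat.prime_two, ?_⟩
          rw [hp]; intro a ha; rw [Finset.mem_singleton] at ha; simp [ha]
        · obtain ⟨p, q, _, hp⟩ := Finset.card_eq_two.1 (show π.card = 2 by omega)
          refine ⟨p, q, Nat.prime_of_mem_primeFactors (n := Nat.card G) ?_,
            Nat.prime_of_mem_primeFactors (n := Nat.card G) ?_, hp.le⟩
          · rw [← hπ, hp]; simp
          · rw [← hπ, hp]; simp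
    by_cases hpq' : p = q
    · subst hpq'
      refine Cfsg.Agent.S0144.result p p ((Nat.card G).factorization p) 0 hp hp ?_
      rw [pow_zero, mul_one]
      conv_lhs => rw [← Nat.prod_factorization_pow_eq_self (Nat.card_pos (α := G)).ne']
      apply Nat.prod_factorization_eq_prod_primeFactors _ |>.trans
      rw [Finset.prod_subset hpq]
      · simp
      · intro x hx1 hx
        rw [Nat.factorization_eq_zero_of_not_dvd, pow_zero]
        intro hd
        have hx2 : x.Prime := by
          simp only [Finset.mem_insert, Finset.mem_singleton, or_self] at hx1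
          rw [hx1]; exact hp
        exact hx (Nat.mem_primeFactors.2 ⟨hx2, hd, Nat.card_pos.ne'⟩)
    · refine Cfsg.Agent.S0144.result p q ((Nat.card G).factorization p)
        ((Nat.card G).factorization q) hp hq ?_
      conv_lhs => rw [← Nat.prod_factorization_pow_eq_self (Nat.card_pos (α := G)).ne']
      apply Nat.prod_factorization_eq_prod_primeFactors _ |>.trans
      rw [Finset.prod_subset hpq]
      · rw [Finset.prod_pair hpq']
      · intro x hx1 hx
        rw [Nat.factorization_eq_zero_of_not_dvd, pow_zero]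
        intro hd
        have hx2 : x.Prime := by
          simp only [Finset.mem_insert, Finset.mem_singleton] at hx1
          rcases hx1 with rfl | rfl
          · exact hp
          · exact hq
        exact hx (Nat.mem_primeFactors.2 ⟨hx2, hd, Nat.card_pos.ne'⟩)
  have h1 := sum_card_ge hH π (fun p hp => Nat.prime_of_mem_primeFactors hp) (by omega)
  have h2 : ∀ p ∈ π, 2 * Nat.card {g : G // ¬ p ∣ ci g} ≤ Nat.card G := by
    intro p hp
    haveI : Fact p.Prime := ⟨Nat.prime_of_mem_primeFactors hp⟩
    exact mul_card_le default (two_mul_le hns (Nat.dvd_of_mem_primeFactors hp) default)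
  have h3 : 2 * ∑ p ∈ π, Nat.card {g : G // ¬ p ∣ ci g} ≤ π.card * Nat.card G := by
    rw [Finset.mul_sum, ← smul_eq_mul (π.card)]
    exact Finset.sum_le_card_nsmul _ _ _ h2
  by_contra hne
  have h4 : 4 ≤ π.card := by omega
  obtain ⟨k, hk⟩ := Nat.exists_eq_add_of_le h4
  rw [hk] at h1 h3
  have e : 4 + k - 2 = 2 + k := by omega
  rw [e] at h1
  nlinarith

/-- A noncommutative `3`-subgroup contradicts the class size condition. -/
theorem no_three [Finite G] [IsSimpleGroup G] (hns : ¬ Group.IsSolvable G) (hH : Hyp G)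
    (hd2 : 2 ∣ Nat.card G) {V : Subgroup G} (hV : IsPGroup 3 V)
    (hnc : ∃ a ∈ V, ∃ b ∈ V, a * b ≠ b * a) : False := by
  have hπ := three_primes hns hH
  haveI : Fact (Nat.Prime 3) := ⟨Nat.prime_three⟩
  obtain ⟨P, hP⟩ := hV.exists_le_sylow
  have hnc' : ∃ a ∈ P, ∃ b ∈ P, a * b ≠ b * a := by
    obtain ⟨a, ha, b, hb, hab⟩ := hnc
    exact ⟨a, hP ha, b, hP hb, hab⟩
  have hd3 : 3 ∣ Nat.card G := by
    obtain ⟨a, ha, b, hb, hab⟩ := hnc
    have h1 : Nat.card V ∣ Nat.card G := Subgroup.card_subgroup_dvd_card V
    obtain ⟨k, hk⟩ := hV.exists_card_eq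
    have hk0 : k ≠ 0 := by
      rintro rfl
      rw [pow_zero, Subgroup.card_eq_one] at hk
      rw [hk, Subgroup.mem_bot] at ha hb
      rw [ha, hb] at hab
      exact hab rfl
    exact ((dvd_pow_self 3 hk0).trans (hk ▸ dvd_rfl)).trans h1
  have h2 : (2 : ℕ) ∈ (Nat.card G).primeFactors :=
    Nat.mem_primeFactors.2 ⟨Nat.prime_two, hd2, Nat.card_pos.ne'⟩
  have h3 : (3 : ℕ) ∈ (Nat.card G).primeFactors :=
    Nat.mem_primeFactors.2 ⟨Nat.prime_three, hd3, Nat.card_pos.ne'⟩
  obtain ⟨r, hr⟩ : ∃ r, ((Nat.card G).primeFactors.erase 2).erase 3 = {r} := by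
    rw [← Finset.card_eq_one, Finset.card_erase_of_mem (Finset.mem_erase.2 ⟨by norm_num, h3⟩),
      Finset.card_erase_of_mem h2, hπ]
  have hr1 : r ∈ ((Nat.card G).primeFactors.erase 2).erase 3 := by
    rw [hr]; exact Finset.mem_singleton_self r
  have hrp : r ∈ (Nat.card G).primeFactors :=
    Finset.mem_of_mem_erase (Finset.mem_of_mem_erase hr1)
  have h1 := sum_card_ge hH (Nat.card G).primeFactors
    (fun p hp => Nat.prime_of_mem_primeFactors hp) (by omega)
  rw [hπ, ← Finset.add_sum_erase _ _ h2, ← Finset.add_sum_erase _ _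
    (Finset.mem_erase.2 ⟨by norm_num, h3⟩), hr, Finset.sum_singleton] at h1
  haveI : Fact r.Prime := ⟨Nat.prime_of_mem_primeFactors hrp⟩
  have b2 := mul_card_le (default : Sylow 2 G) (three_mul_le hns hd2 default)
  have b3 := mul_card_le P (sq_mul_le P hnc')
  have br := mul_card_le (default : Sylow r G)
    (two_mul_le hns (Nat.dvd_of_mem_primeFactors hrp) default)
  omega

end Cfsg.Agent.H528.ClassSize
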