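import Cfsg.Agent.H528.ExclTwo
import Cfsg.Prelude.Def_Classical

/-!
# `PSL(3,3)`, `PSU(3,3)` and `PSU(4,2)` have noncommutative Sylow `3`-subgroups
-/

set_option autoImplicit false
set_option linter.style.haveILetI false
set_option linter.unusedTactic false
set_option linter.unreachableTactic false

namespace Cfsg.Agent.H528.ClassSize

open Subgroup Matrix

theorem exists_nonab_quot {H : Type*} [Group H] (a b c d : H) (ha : a * a * a = 1)
    (hb : b * b * b = 1) (hc : c * c * c = 1) (hab : a * b = c * (b * a)) (hca : c * a = a * c)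
    (hcb : c * b = b * c) (hcd : c * d ≠ d * c) :
    ∃ V : Subgroup (H ⧸ Subgroup.center H), IsPGroup 3 V ∧ ∃ x ∈ V, ∃ y ∈ V, x * y ≠ y * x := by
  haveI : Fact (Nat.Prime 3) := ⟨Nat.prime_three⟩
  let f : H →* H ⧸ Subgroup.center H := QuotientGroup.mk' _
  have h3 : ∀ x : H, x * x * x = 1 → ∃ k, (f x) ^ 3 ^ k = 1 := by
    intro x hx
    refine ⟨1, ?_⟩
    rw [pow_one, pow_succ, pow_two, ← map_mul, ← map_mul, hx, map_one]
  obtain ⟨V, hV, haV, hbV⟩ := isPGroup_of_class_two (p := 3) (a := f a) (b := f b) (c := f c)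
    (h3 a ha) (h3 b hb) (by rw [← map_mul, ← map_mul, ← map_mul, hab])
    (show f c * f a = f a * f c by rw [← map_mul, ← map_mul, hca])
    (show f c * f b = f b * f c by rw [← map_mul, ← map_mul, hcb]) (h3 c hc)
  refine ⟨V, hV, f a, haV, f b, hbV, fun h => ?_⟩
  have h1 : f c = 1 := by
    have h2 : f a * f b = f c * (f b * f a) := by rw [← map_mul, ← map_mul, ← map_mul, hab]
    rw [h] at h2
    have h4 : 1 * (f b * f a) = f c * (f b * f a) := by rw [one_mul]; exact h2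
    exact (mul_right_cancel h4).symm
  have h5 : c ∈ Subgroup.center H := (QuotientGroup.eq_one_iff c).1 h1
  exact hcd (Subgroup.mem_center_iff.1 h5 d).symm

section

variable {F : Type*} [Field F]

theorem exists_psl3 (h3 : (3 : F) = 0) :
    ∃ V : Subgroup (ProjectiveSpecialLinearGroup (Fin 3) F), IsPGroup 3 V ∧
      ∃ x ∈ V, ∃ y ∈ V, x * y ≠ y * x := by
  have key : ∀ {A B : SpecialLinearGroup (Fin 3) F},
    (A : Matrix (Fin 3) (Fin 3) F) = B → A = B := fun h => Subtype.ext h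
  refine exists_nonab_quot (H := SpecialLinearGroup (Fin 3) F)
    ⟨!![1, 1, 0; 0, 1, 0; 0, 0, 1], by simp [Matrix.det_fin_three]⟩
    ⟨!![1, 0, 0; 0, 1, 1; 0, 0, 1], by simp [Matrix.det_fin_three]⟩
    ⟨!![1, 0, 1; 0, 1, 0; 0, 0, 1], by simp [Matrix.det_fin_three]⟩
    ⟨!![1, 0, 0; 0, 1, 0; 1, 0, 1], by simp [Matrix.det_fin_three]⟩ ?_ ?_ ?_ ?_ ?_ ?_ ?_
  · apply key
    change !![1, 1, 0; 0, 1, 0; 0, 0, 1] * !![1, 1, 0; 0, 1, 0; 0, 0, 1] *
      !![1, 1, 0; 0, 1, 0; 0, 0, 1] = (1 : Matrix (Fin 3) (Fin 3) F)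
    ext i j
    fin_cases i <;> fin_cases j <;> simp [Matrix.mul_apply, Fin.sum_univ_three]
    linear_combination h3
  · apply key
    change !![1, 0, 0; 0, 1, 1; 0, 0, 1] * !![1, 0, 0; 0, 1, 1; 0, 0, 1] *
      !![1, 0, 0; 0, 1, 1; 0, 0, 1] = (1 : Matrix (Fin 3) (Fin 3) F)
    ext i j
    fin_cases i <;> fin_cases j <;> simp [Matrix.mul_apply, Fin.sum_univ_three]
    linear_combination h3
  · apply key
    change !![1, 0, 1; 0, 1, 0; 0, 0, 1] * !![1, 0, 1; 0, 1, 0; 0, 0, 1] *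
      !![1, 0, 1; 0, 1, 0; 0, 0, 1] = (1 : Matrix (Fin 3) (Fin 3) F)
    ext i j
    fin_cases i <;> fin_cases j <;> simp [Matrix.mul_apply, Fin.sum_univ_three]
    linear_combination h3
  · apply key
    change !![1, 1, 0; 0, 1, 0; 0, 0, 1] * !![1, 0, 0; 0, 1, 1; 0, 0, 1] =
      !![1, 0, 1; 0, 1, 0; 0, 0, 1] * (!![1, 0, 0; 0, 1, 1; 0, 0, 1] *
      !![1, 1, 0; 0, 1, 0; 0, 0, 1] : Matrix (Fin 3) (Fin 3) F)
    ext i j
    fin_cases i <;> fin_cases j <;> simp [Matrix.mul_apply, Fin.sum_univ_three]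
  · apply key
    change !![1, 0, 1; 0, 1, 0; 0, 0, 1] * !![1, 1, 0; 0, 1, 0; 0, 0, 1] =
      (!![1, 1, 0; 0, 1, 0; 0, 0, 1] * !![1, 0, 1; 0, 1, 0; 0, 0, 1] : Matrix (Fin 3) (Fin 3) F)
    ext i j
    fin_cases i <;> fin_cases j <;> simp [Matrix.mul_apply, Fin.sum_univ_three]
  · apply key
    change !![1, 0, 1; 0, 1, 0; 0, 0, 1] * !![1, 0, 0; 0, 1, 1; 0, 0, 1] =
      (!![1, 0, 0; 0, 1, 1; 0, 0, 1] * !![1, 0, 1; 0, 1, 0; 0, 0, 1] : Matrix (Fin 3) (Fin 3) F)
    ext i j
    fin_cases i <;> fin_cases j <;> simp [Matrix.mul_apply, Fin.sum_univ_three]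
  · intro h
    have h1 := congrArg (fun z : SpecialLinearGroup (Fin 3) F =>
      (z : Matrix (Fin 3) (Fin 3) F) 0 0) h
    change (!![1, 0, 1; 0, 1, 0; 0, 0, 1] * !![1, 0, 0; 0, 1, 0; 1, 0, 1] :
      Matrix (Fin 3) (Fin 3) F) 0 0 =
      (!![1, 0, 0; 0, 1, 0; 1, 0, 1] * !![1, 0, 1; 0, 1, 0; 0, 0, 1] :
      Matrix (Fin 3) (Fin 3) F) 0 0 at h1
    simp [Matrix.mul_apply, Fin.sum_univ_three] at h1

/-- Unitary matrices. -/
theorem mem_SU {n q : ℕ} (σ : F →+* F) (hσ : ∀ x, σ x = x ^ q) (A : Matrix (Fin n) (Fin n) F)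
    (hd : A.det = 1) (h : Aᵀ * A.map σ = 1) :
    (⟨A, hd⟩ : SpecialLinearGroup (Fin n) F) ∈ SU n F q := by
  intro u v
  change hermForm n F q (A *ᵥ u) (A *ᵥ v) = hermForm n F q u v
  have h1 : ∀ u v : Fin n → F, hermForm n F q u v = u ⬝ᵥ (fun i => σ (v i)) := by
    intro u v
    unfold hermForm dotProduct
    simp only [hσ]
  rw [h1, h1]
  have h2 : (fun i => σ ((A *ᵥ v) i)) = A.map σ *ᵥ (fun i => σ (v i)) := by
    ext i
    simp only [Matrix.mulVec, dotProduct, map_sum, map_mul, Matrix.map_apply]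
  rw [h2, ← Matrix.vecMul_transpose, ← Matrix.dotProduct_mulVec, Matrix.mulVec_mulVec, h,
    Matrix.one_mulVec]

set_option maxHeartbeats 1000000 in
theorem exists_psu3 [Fintype F] (hF : Fintype.card F = 9) :
    ∃ V : Subgroup (Cfsg.PSU 3 F 3), IsPGroup 3 V ∧ ∃ x ∈ V, ∃ y ∈ V, x * y ≠ y * x := by
  haveI : Fact (Nat.Prime 3) := ⟨by norm_num⟩
  haveI : CharP F 3 := charP_of_card (by norm_num) (k := 2) (by rw [hF]; norm_num)
  have h3 : (3 : F) = 0 := by
    have := CharP.cast_eq_zero F 3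
    exact_mod_cast this
  obtain ⟨i, hi⟩ : ∃ i : F, i * i = -1 := by
    have := (FiniteField.isSquare_neg_one_iff (F := F)).2 (by rw [hF]; decide)
    obtain ⟨i, hi⟩ := this
    exact ⟨i, hi.symm⟩
  have hi1 : (1 : F) ≠ i := by
    rintro h
    rw [← h] at hi
    exact one_ne_zero (α := F) (by linear_combination h3 - hi)
  let σ : F →+* F := frobenius F 3
  have hσ : ∀ x, σ x = x ^ 3 := fun x => rfl
  have hσi : σ i = -i := by
    rw [hσ]; linear_combination i * hi
  have key : ∀ {A B : SpecialLinearGroup (Fin 3) F},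
    (A : Matrix (Fin 3) (Fin 3) F) = B → A = B := fun h => Subtype.ext h
  have key' : ∀ {A B : SU 3 F 3},
    (A.1 : Matrix (Fin 3) (Fin 3) F) = B.1 → A = B := fun h => Subtype.ext (key h)
  have dA : (!![0, -1 + i, -1 - i; -1 + i, -i, -1; -1 - i, -1, i] : Matrix (Fin 3) (Fin 3) F).det = 1 := by
    simp [Matrix.det_fin_three]
    linear_combination 6 * hi - 3 * h3
  have dB : (!![0, 0, 1; 1, 0, 0; 0, 1, 0] : Matrix (Fin 3) (Fin 3) F).det = 1 := by
    simp [Matrix.det_fin_three]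
  have dC : (!![1 + i, i, i; i, 1 + i, i; i, i, 1 + i] : Matrix (Fin 3) (Fin 3) F).det = 1 := by
    simp [Matrix.det_fin_three]
    linear_combination i * h3
  have dD : (!![1, 0, 0; 0, i, 0; 0, 0, -i] : Matrix (Fin 3) (Fin 3) F).det = 1 := by
    simp [Matrix.det_fin_three]
    linear_combination -hi
  have uA := mem_SU (q := 3) σ hσ _ dA (by
    ext a b
    fin_cases a <;> fin_cases b <;> simp [Matrix.mul_apply, Fin.sum_univ_three, hσi]
    all_goals first | linear_combination hi | linear_combination -2 * hi + h3)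
  have uB := mem_SU (q := 3) σ hσ _ dB (by
    ext a b
    fin_cases a <;> fin_cases b <;> simp [Matrix.mul_apply, Fin.sum_univ_three])
  have uC := mem_SU (q := 3) σ hσ _ dC (by
    ext a b
    fin_cases a <;> fin_cases b <;> simp [Matrix.mul_apply, Fin.sum_univ_three, hσi]
    all_goals linear_combination -3 * hi + h3)
  have uD := mem_SU (q := 3) σ hσ _ dD (by
    ext a b
    fin_cases a <;> fin_cases b <;> simp [Matrix.mul_apply, Fin.sum_univ_three, hσi]
    all_goals linear_combination -hi)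
  refine exists_nonab_quot (H := SU 3 F 3) ⟨_, uB⟩ ⟨_, uA⟩ ⟨_, uC⟩ ⟨_, uD⟩ ?_ ?_ ?_ ?_ ?_ ?_ ?_
  · apply key'
    change !![0, 0, 1; 1, 0, 0; 0, 1, 0] * !![0, 0, 1; 1, 0, 0; 0, 1, 0] *
      !![0, 0, 1; 1, 0, 0; 0, 1, 0] = (1 : Matrix (Fin 3) (Fin 3) F)
    ext a b
    fin_cases a <;> fin_cases b <;> simp [Matrix.mul_apply, Fin.sum_univ_three]
    all_goals first | linear_combination 0 | linear_combination -3 * hi | linear_combination i * h3 | linear_combination (-3 * i + -3) * hi | linear_combination (3 * i + -3) * hi |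
      linear_combination (-3 * i + 6) * hi - 3 * h3 | linear_combination (3 * i + 6) * hi - 3 * h3 | linear_combination 6 * hi - 3 * h3 | linear_combination (9 * i + 9) * hi + (-2 * i + -3) * h3
  · apply key'
    change !![0, -1 + i, -1 - i; -1 + i, -i, -1; -1 - i, -1, i] * !![0, -1 + i, -1 - i; -1 + i, -i, -1; -1 - i, -1, i] *
      !![0, -1 + i, -1 - i; -1 + i, -i, -1; -1 - i, -1, i] = (1 : Matrix (Fin 3) (Fin 3) F)
    ext a b
    fin_cases a <;> fin_cases b <;> simp [Matrix.mul_apply, Fin.sum_univ_three]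
    all_goals first | linear_combination 0 | linear_combination -3 * hi | linear_combination i * h3 | linear_combination (-3 * i + -3) * hi | linear_combination (3 * i + -3) * hi |
      linear_combination (-3 * i + 6) * hi - 3 * h3 | linear_combination (3 * i + 6) * hi - 3 * h3 | linear_combination 6 * hi - 3 * h3 | linear_combination (9 * i + 9) * hi + (-2 * i + -3) * h3
  · apply key'
    change !![1 + i, i, i; i, 1 + i, i; i, i, 1 + i] * !![1 + i, i, i; i, 1 + i, i; i, i, 1 + i] *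
      !![1 + i, i, i; i, 1 + i, i; i, i, 1 + i] = (1 : Matrix (Fin 3) (Fin 3) F)
    ext a b
    fin_cases a <;> fin_cases b <;> simp [Matrix.mul_apply, Fin.sum_univ_three]
    all_goals first | linear_combination 0 | linear_combination -3 * hi | linear_combination i * h3 | linear_combination (-3 * i + -3) * hi | linear_combination (3 * i + -3) * hi |
      linear_combination (-3 * i + 6) * hi - 3 * h3 | linear_combination (3 * i + 6) * hi - 3 * h3 | linear_combination 6 * hi - 3 * h3 | linear_combination (9 * i + 9) * hi + (-2 * i + -3) * h3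
  · apply key'
    change !![0, 0, 1; 1, 0, 0; 0, 1, 0] * !![0, -1 + i, -1 - i; -1 + i, -i, -1; -1 - i, -1, i] = !![1 + i, i, i; i, 1 + i, i; i, i, 1 + i] * (!![0, -1 + i, -1 - i; -1 + i, -i, -1; -1 - i, -1, i] * !![0, 0, 1; 1, 0, 0; 0, 1, 0] : Matrix (Fin 3) (Fin 3) F)
    ext a b
    fin_cases a <;> fin_cases b <;> simp [Matrix.mul_apply, Fin.sum_univ_three]
    all_goals first | linear_combination 0 | linear_combination -3 * hi | linear_combination i * h3 | linear_combination (-3 * i + -3) * hi | linear_combination (3 * i + -3) * hi |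
      linear_combination (-3 * i + 6) * hi - 3 * h3 | linear_combination (3 * i + 6) * hi - 3 * h3 | linear_combination 6 * hi - 3 * h3 | linear_combination (9 * i + 9) * hi + (-2 * i + -3) * h3
  · apply key'
    change !![1 + i, i, i; i, 1 + i, i; i, i, 1 + i] * !![0, 0, 1; 1, 0, 0; 0, 1, 0] = (!![0, 0, 1; 1, 0, 0; 0, 1, 0] * !![1 + i, i, i; i, 1 + i, i; i, i, 1 + i] : Matrix (Fin 3) (Fin 3) F)
    ext a b
    fin_cases a <;> fin_cases b <;> simp [Matrix.mul_apply, Fin.sum_univ_three]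
    all_goals first | linear_combination 0 | linear_combination -3 * hi | linear_combination i * h3 | linear_combination (-3 * i + -3) * hi | linear_combination (3 * i + -3) * hi |
      linear_combination (-3 * i + 6) * hi - 3 * h3 | linear_combination (3 * i + 6) * hi - 3 * h3 | linear_combination 6 * hi - 3 * h3 | linear_combination (9 * i + 9) * hi + (-2 * i + -3) * h3
  · apply key'
    change !![1 + i, i, i; i, 1 + i, i; i, i, 1 + i] * !![0, -1 + i, -1 - i; -1 + i, -i, -1; -1 - i, -1, i] = (!![0, -1 + i, -1 - i; -1 + i, -i, -1; -1 - i, -1, i] * !![1 + i, i, i; i, 1 + i, i; i, i, 1 + i] : Matrix (Fin 3) (Fin 3) F)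
    ext a b
    fin_cases a <;> fin_cases b <;> simp [Matrix.mul_apply, Fin.sum_univ_three]
    all_goals first | linear_combination 0 | linear_combination -3 * hi | linear_combination i * h3 | linear_combination (-3 * i + -3) * hi | linear_combination (3 * i + -3) * hi |
      linear_combination (-3 * i + 6) * hi - 3 * h3 | linear_combination (3 * i + 6) * hi - 3 * h3 | linear_combination 6 * hi - 3 * h3 | linear_combination (9 * i + 9) * hi + (-2 * i + -3) * h3
  · intro h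
    have h1 := congrArg (fun z : SU 3 F 3 => (z.1 : Matrix (Fin 3) (Fin 3) F) 0 1) h
    change (!![1 + i, i, i; i, 1 + i, i; i, i, 1 + i] * !![1, 0, 0; 0, i, 0; 0, 0, -i] : Matrix (Fin 3) (Fin 3) F) 0 1 = (!![1, 0, 0; 0, i, 0; 0, 0, -i] * !![1 + i, i, i; i, 1 + i, i; i, i, 1 + i] : Matrix (Fin 3) (Fin 3) F) 0 1 at h1
    simp [Matrix.mul_apply, Fin.sum_univ_three] at h1
    exact one_ne_zero (α := F) (by linear_combination h3 - hi + (hi - h1) * (i - 1))

set_option maxHeartbeats 1000000 in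
theorem exists_psu4 [Fintype F] (hF : Fintype.card F = 4) :
    ∃ V : Subgroup (Cfsg.PSU 4 F 2), IsPGroup 3 V ∧ ∃ x ∈ V, ∃ y ∈ V, x * y ≠ y * x := by
  haveI : Fact (Nat.Prime 2) := ⟨by norm_num⟩
  haveI : CharP F 2 := charP_of_card (by norm_num) (k := 2) (by rw [hF]; norm_num)
  have h2 : (2 : F) = 0 := by
    have := CharP.cast_eq_zero F 2
    exact_mod_cast this
  obtain ⟨w, hw1, hw0⟩ : ∃ w : F, w ≠ 1 ∧ w ≠ 0 := by
    by_contra hcon
    push Not at hcon
    have h4 : Fintype.card F ≤ 2 := by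
      classical
      rw [← Finset.card_univ]
      refine le_trans (Finset.card_le_card (t := {0, 1}) ?_) (Finset.card_le_two)
      intro x _
      by_cases hx : x = 1
      · simp [hx]
      · simp [hcon x hx]
    omega
  have hw3 : w ^ 3 = 1 := by
    have := FiniteField.pow_card_sub_one_eq_one w hw0
    rwa [hF] at this
  have hw : w * w = -w - 1 := by
    have h4 : (w - 1) * (w * w + w + 1) = 0 := by linear_combination hw3
    have h5 := (mul_eq_zero.1 h4).resolve_left (sub_ne_zero.2 hw1)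
    linear_combination h5
  let σ : F →+* F := frobenius F 2
  have hσ : ∀ x, σ x = x ^ 2 := fun x => rfl
  have hσw : σ w = w * w := by
    rw [hσ, pow_two]
  have key' : ∀ {A B : SU 4 F 2},
    (A.1 : Matrix (Fin 4) (Fin 4) F) = B.1 → A = B := fun h => Subtype.ext (Subtype.ext h)
  have dA : (!![w, 0, 0, 0; 0, w * w, 0, 0; 0, 0, 1, 0; 0, 0, 0, 1] : Matrix (Fin 4) (Fin 4) F).det = 1 := by
    simp [Matrix.det_succ_row_zero, Fin.sum_univ_succ, Fin.succAbove]
    first | linear_combination 0 | linear_combination (w - 1) * hw | linear_combination (-w + 1) * hw | linear_combination (-w ^ 2 + w) * hw | linear_combination (w ^ 4 - w ^ 3 + w - 1) * hw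
  have dB : (!![0, 0, 1, 0; 1, 0, 0, 0; 0, 1, 0, 0; 0, 0, 0, 1] : Matrix (Fin 4) (Fin 4) F).det = 1 := by
    simp [Matrix.det_succ_row_zero, Fin.sum_univ_succ, Fin.succAbove]
    all_goals first | linear_combination 0 | linear_combination (w - 1) * hw | linear_combination (-w + 1) * hw | linear_combination (-w ^ 2 + w) * hw | linear_combination (w ^ 4 - w ^ 3 + w - 1) * hw
  have dC : (!![w * w, 0, 0, 0; 0, w * w, 0, 0; 0, 0, w * w, 0; 0, 0, 0, 1] : Matrix (Fin 4) (Fin 4) F).det = 1 := by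
    simp [Matrix.det_succ_row_zero, Fin.sum_univ_succ, Fin.succAbove]
    first | linear_combination 0 | linear_combination (w - 1) * hw | linear_combination (-w + 1) * hw | linear_combination (-w ^ 2 + w) * hw | linear_combination (w ^ 4 - w ^ 3 + w - 1) * hw
  have dD : (!![1, 0, 0, 0; 0, 0, 0, 1; 0, 1, 0, 0; 0, 0, 1, 0] : Matrix (Fin 4) (Fin 4) F).det = 1 := by
    simp [Matrix.det_succ_row_zero, Fin.sum_univ_succ, Fin.succAbove]
    all_goals first | linear_combination 0 | linear_combination (w - 1) * hw | linear_combination (-w + 1) * hw | linear_combination (-w ^ 2 + w) * hw | linear_combination (w ^ 4 - w ^ 3 + w - 1) * hw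
  have uA := mem_SU (q := 2) σ hσ _ dA (by
    ext a b
    fin_cases a <;> fin_cases b <;> simp [Matrix.mul_apply, Fin.sum_univ_four, hσw]
    all_goals first | linear_combination 0 | linear_combination (w - 1) * hw | linear_combination (-w + 1) * hw | linear_combination (-w ^ 2 + w) * hw | linear_combination (w ^ 4 - w ^ 3 + w - 1) * hw)
  have uB := mem_SU (q := 2) σ hσ _ dB (by
    ext a b
    fin_cases a <;> fin_cases b <;> simp [Matrix.mul_apply, Fin.sum_univ_four])
  have uC := mem_SU (q := 2) σ hσ _ dC (by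
    ext a b
    fin_cases a <;> fin_cases b <;> simp [Matrix.mul_apply, Fin.sum_univ_four, hσw]
    all_goals first | linear_combination 0 | linear_combination (w - 1) * hw | linear_combination (-w + 1) * hw | linear_combination (-w ^ 2 + w) * hw | linear_combination (w ^ 4 - w ^ 3 + w - 1) * hw)
  have uD := mem_SU (q := 2) σ hσ _ dD (by
    ext a b
    fin_cases a <;> fin_cases b <;> simp [Matrix.mul_apply, Fin.sum_univ_four])
  refine exists_nonab_quot (H := SU 4 F 2) ⟨_, uB⟩ ⟨_, uA⟩ ⟨_, uC⟩ ⟨_, uD⟩ ?_ ?_ ?_ ?_ ?_ ?_ ?_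
  · apply key'
    change !![0, 0, 1, 0; 1, 0, 0, 0; 0, 1, 0, 0; 0, 0, 0, 1] * !![0, 0, 1, 0; 1, 0, 0, 0; 0, 1, 0, 0; 0, 0, 0, 1] *
      !![0, 0, 1, 0; 1, 0, 0, 0; 0, 1, 0, 0; 0, 0, 0, 1] = (1 : Matrix (Fin 4) (Fin 4) F)
    ext a b
    fin_cases a <;> fin_cases b <;> simp [Matrix.mul_apply, Fin.sum_univ_four]
    all_goals first | linear_combination 0 | linear_combination (w - 1) * hw | linear_combination (-w + 1) * hw | linear_combination (-w ^ 2 + w) * hw | linear_combination (w ^ 4 - w ^ 3 + w - 1) * hw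
  · apply key'
    change !![w, 0, 0, 0; 0, w * w, 0, 0; 0, 0, 1, 0; 0, 0, 0, 1] * !![w, 0, 0, 0; 0, w * w, 0, 0; 0, 0, 1, 0; 0, 0, 0, 1] *
      !![w, 0, 0, 0; 0, w * w, 0, 0; 0, 0, 1, 0; 0, 0, 0, 1] = (1 : Matrix (Fin 4) (Fin 4) F)
    ext a b
    fin_cases a <;> fin_cases b <;> simp [Matrix.mul_apply, Fin.sum_univ_four]
    all_goals first | linear_combination 0 | linear_combination (w - 1) * hw | linear_combination (-w + 1) * hw | linear_combination (-w ^ 2 + w) * hw | linear_combination (w ^ 4 - w ^ 3 + w - 1) * hw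
  · apply key'
    change !![w * w, 0, 0, 0; 0, w * w, 0, 0; 0, 0, w * w, 0; 0, 0, 0, 1] * !![w * w, 0, 0, 0; 0, w * w, 0, 0; 0, 0, w * w, 0; 0, 0, 0, 1] *
      !![w * w, 0, 0, 0; 0, w * w, 0, 0; 0, 0, w * w, 0; 0, 0, 0, 1] = (1 : Matrix (Fin 4) (Fin 4) F)
    ext a b
    fin_cases a <;> fin_cases b <;> simp [Matrix.mul_apply, Fin.sum_univ_four]
    all_goals first | linear_combination 0 | linear_combination (w - 1) * hw | linear_combination (-w + 1) * hw | linear_combination (-w ^ 2 + w) * hw | linear_combination (w ^ 4 - w ^ 3 + w - 1) * hw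
  · apply key'
    change !![0, 0, 1, 0; 1, 0, 0, 0; 0, 1, 0, 0; 0, 0, 0, 1] * !![w, 0, 0, 0; 0, w * w, 0, 0; 0, 0, 1, 0; 0, 0, 0, 1] = !![w * w, 0, 0, 0; 0, w * w, 0, 0; 0, 0, w * w, 0; 0, 0, 0, 1] * (!![w, 0, 0, 0; 0, w * w, 0, 0; 0, 0, 1, 0; 0, 0, 0, 1] * !![0, 0, 1, 0; 1, 0, 0, 0; 0, 1, 0, 0; 0, 0, 0, 1] : Matrix (Fin 4) (Fin 4) F)
    ext a b
    fin_cases a <;> fin_cases b <;> simp [Matrix.mul_apply, Fin.sum_univ_four]
    all_goals first | linear_combination 0 | linear_combination (w - 1) * hw | linear_combination (-w + 1) * hw | linear_combination (-w ^ 2 + w) * hw | linear_combination (w ^ 4 - w ^ 3 + w - 1) * hw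
  · apply key'
    change !![w * w, 0, 0, 0; 0, w * w, 0, 0; 0, 0, w * w, 0; 0, 0, 0, 1] * !![0, 0, 1, 0; 1, 0, 0, 0; 0, 1, 0, 0; 0, 0, 0, 1] = (!![0, 0, 1, 0; 1, 0, 0, 0; 0, 1, 0, 0; 0, 0, 0, 1] * !![w * w, 0, 0, 0; 0, w * w, 0, 0; 0, 0, w * w, 0; 0, 0, 0, 1] : Matrix (Fin 4) (Fin 4) F)
    ext a b
    fin_cases a <;> fin_cases b <;> simp [Matrix.mul_apply, Fin.sum_univ_four]
    all_goals first | linear_combination 0 | linear_combination (w - 1) * hw | linear_combination (-w + 1) * hw | linear_combination (-w ^ 2 + w) * hw | linear_combination (w ^ 4 - w ^ 3 + w - 1) * hw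
  · apply key'
    change !![w * w, 0, 0, 0; 0, w * w, 0, 0; 0, 0, w * w, 0; 0, 0, 0, 1] * !![w, 0, 0, 0; 0, w * w, 0, 0; 0, 0, 1, 0; 0, 0, 0, 1] = (!![w, 0, 0, 0; 0, w * w, 0, 0; 0, 0, 1, 0; 0, 0, 0, 1] * !![w * w, 0, 0, 0; 0, w * w, 0, 0; 0, 0, w * w, 0; 0, 0, 0, 1] : Matrix (Fin 4) (Fin 4) F)
    ext a b
    fin_cases a <;> fin_cases b <;> simp [Matrix.mul_apply, Fin.sum_univ_four]
    all_goals first | linear_combination 0 | linear_combination (w - 1) * hw | linear_combination (-w + 1) * hw | linear_combination (-w ^ 2 + w) * hw | linear_combination (w ^ 4 - w ^ 3 + w - 1) * hw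
  · intro h
    have h1 := congrArg (fun z : SU 4 F 2 => (z.1 : Matrix (Fin 4) (Fin 4) F) 1 3) h
    change (!![w * w, 0, 0, 0; 0, w * w, 0, 0; 0, 0, w * w, 0; 0, 0, 0, 1] * !![1, 0, 0, 0; 0, 0, 0, 1; 0, 1, 0, 0; 0, 0, 1, 0] : Matrix (Fin 4) (Fin 4) F) 1 3 = (!![1, 0, 0, 0; 0, 0, 0, 1; 0, 1, 0, 0; 0, 0, 1, 0] * !![w * w, 0, 0, 0; 0, w * w, 0, 0; 0, 0, w * w, 0; 0, 0, 0, 1] : Matrix (Fin 4) (Fin 4) F) 1 3 at h1
    simp [Matrix.mul_apply, Fin.sum_univ_four] at h1
    exact hw0 (by linear_combination hw - h1 - h2)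

end

end Cfsg.Agent.H528.ClassSize
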