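import Cfsg.Agent.H528.PP
import Cfsg.Agent.ClassicalGeometry.SL2Order
import Cfsg.Agent.S0254

/-!
# `PSL(2,7)`, `PSL(2,9)` and `PSL(2,17)` have a class whose size has three prime divisors
-/

set_option autoImplicit false
set_option linter.style.haveILetI false

namespace Cfsg.Agent.H528.ClassSize

open Subgroup Matrix

/-- An element inverting a `2`-element, with square one. -/
theorem isPGroup_of_inverts {G : Type*} [Group G] {x w : G} (hx : ∃ k, x ^ 2 ^ k = 1)
    (hw : w ^ 2 = 1) (hwx : w * x * w⁻¹ = x⁻¹) :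
    ∃ V : Subgroup G, IsPGroup 2 V ∧ x ∈ V ∧ w ∈ V := by
  haveI : Fact (Nat.Prime 2) := ⟨Nat.prime_two⟩
  have hz : ∀ x : G, (∃ k, x ^ 2 ^ k = 1) → IsPGroup 2 (Subgroup.zpowers x) := by
    rintro x ⟨k, hk⟩
    rintro ⟨y, n, rfl⟩
    refine ⟨k, Subtype.ext ?_⟩
    change (x ^ n) ^ 2 ^ k = 1
    rw [← zpow_natCast, ← _root_.zpow_mul, mul_comm, _root_.zpow_mul, zpow_natCast, hk, _root_.one_zpow]
  refine ⟨Subgroup.zpowers x ⊔ Subgroup.zpowers w,
    IsPGroup.to_sup_of_normal_left' (hz x hx) (hz w ⟨1, by simpa using hw⟩) ?_,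
    Subgroup.mem_sup_left (Subgroup.mem_zpowers x),
    Subgroup.mem_sup_right (Subgroup.mem_zpowers w)⟩
  rw [Subgroup.zpowers_le, Subgroup.mem_normalizer_iff]
  have h1 : ∀ n : ℤ, w * x ^ n * w⁻¹ = x ^ (-n) := by
    intro n
    rw [← conj_zpow, hwx, _root_.inv_zpow, _root_.zpow_neg]
  have hw' : w⁻¹ = w := by rw [inv_eq_iff_mul_eq_one, ← pow_two, hw]
  intro h
  constructor
  · rintro ⟨n, rfl⟩
    exact ⟨-n, (h1 n).symm⟩
  · rintro ⟨n, hn⟩
    refine ⟨-n, ?_⟩
    change x ^ (-n) = h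
    rw [← h1 n]
    change x ^ n = w * h * w⁻¹ at hn
    rw [hn, hw']
    have h2 : w * w = 1 := by rw [← pow_two, hw]
    calc w * (w * h * w) * w = (w * w) * h * (w * w) := by group
      _ = h := by rw [h2, one_mul, mul_one]

section

variable {F : Type*} [Field F]

/-- In odd characteristic `-1` is the only involution of `SL(2,F)`. -/
theorem sl_sq_eq_one (h2 : (2 : F) ≠ 0) {g : SpecialLinearGroup (Fin 2) F} (hg : g ^ 2 = 1) :
    g ∈ Subgroup.center (SpecialLinearGroup (Fin 2) F) := by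
  have hd := g.2
  rw [Matrix.det_fin_two] at hd
  have h1 : (g : Matrix (Fin 2) (Fin 2) F) * g = 1 := by
    have := congrArg (fun z : SpecialLinearGroup (Fin 2) F => (z : Matrix (Fin 2) (Fin 2) F)) hg
    simpa [pow_two] using this
  have e00 := congrFun (congrFun h1 0) 0
  have e01 := congrFun (congrFun h1 0) 1
  have e10 := congrFun (congrFun h1 1) 0
  have e11 := congrFun (congrFun h1 1) 1
  simp only [Matrix.mul_apply, Fin.sum_univ_two, Matrix.one_apply] at e00 e01 e10 e11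
  simp only [reduceIte, zero_ne_one, one_ne_zero] at e00 e01 e10 e11
  set a := (g : Matrix (Fin 2) (Fin 2) F) 0 0 with ha
  set b := (g : Matrix (Fin 2) (Fin 2) F) 0 1 with hb
  set c := (g : Matrix (Fin 2) (Fin 2) F) 1 0 with hc
  set d := (g : Matrix (Fin 2) (Fin 2) F) 1 1 with hdd
  have htr : a + d ≠ 0 := by
    intro h
    apply h2
    have h3 : d = -a := by linear_combination h
    rw [h3] at hd
    linear_combination -hd - e00
  have hb0 : b = 0 := by
    have : b * (a + d) = 0 := by linear_combination e01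
    exact (mul_eq_zero.1 this).resolve_right htr
  have hc0 : c = 0 := by
    have : c * (a + d) = 0 := by linear_combination e10
    exact (mul_eq_zero.1 this).resolve_right htr
  have had : a = d := by
    rw [hb0, hc0] at hd
    rw [hb0] at e00
    have h3 : a * (a - d) = 0 := by linear_combination e00 - hd
    have h4 : a ≠ 0 := by
      rintro h
      rw [h] at hd
      simp at hd
    exact sub_eq_zero.1 ((mul_eq_zero.1 h3).resolve_left h4)
  rw [Matrix.SpecialLinearGroup.mem_center_iff]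
  refine ⟨a, ?_, ?_⟩
  · rw [Fintype.card_fin, pow_two]
    rw [hb0] at e00
    linear_combination e00
  · ext i j
    fin_cases i <;> fin_cases j
    · simp [ha]
    · simp [hb0, ← hb]
    · simp [hc0, ← hc]
    · simp [had, hdd]

theorem psl_pow_of_sl {g : SpecialLinearGroup (Fin 2) F} {n : ℕ}
    (h : g ^ n ∈ Subgroup.center (SpecialLinearGroup (Fin 2) F)) :
    (QuotientGroup.mk g : ProjectiveSpecialLinearGroup (Fin 2) F) ^ n = 1 := by
  rw [← QuotientGroup.mk_pow]
  exact (QuotientGroup.eq_one_iff _).2 h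

theorem psl_pow_cases [Fintype F] {p : ℕ} [Fact p.Prime] [CharP F p] (h2 : (2 : F) ≠ 0)
    (hodd : Odd (Fintype.card F)) (g : ProjectiveSpecialLinearGroup (Fin 2) F) :
    g ^ ((Fintype.card F - 1) / 2) = 1 ∨ g ^ ((Fintype.card F + 1) / 2) = 1 ∨ g ^ p = 1 := by
  obtain ⟨g, rfl⟩ := QuotientGroup.mk_surjective g
  obtain ⟨k, hk⟩ := hodd
  have e1 : (Fintype.card F - 1) / 2 * 2 = Fintype.card F - 1 := by omega
  have e2 : (Fintype.card F + 1) / 2 * 2 = Fintype.card F + 1 := by omega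
  rcases Cfsg.Agent.ClassicalGeometry.SL2Order.pow_cases (q := Fintype.card F) rfl p g with
    h | h | h
  · left
    apply psl_pow_of_sl
    apply sl_sq_eq_one h2
    rw [← pow_mul, e1, h]
  · right; left
    apply psl_pow_of_sl
    apply sl_sq_eq_one h2
    rw [← pow_mul, e2, h]
  · right; right
    apply psl_pow_of_sl
    apply sl_sq_eq_one h2
    rw [← pow_mul, mul_comm, h]

/-- The matrices `X`, `W` give a noncommutative `2`-subgroup of `PSL(2,F)`. -/
theorem exists_nonab (h2 : (2 : F) ≠ 0) (X W : SpecialLinearGroup (Fin 2) F)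
    (hX : (X : Matrix (Fin 2) (Fin 2) F) ^ 4 = -1) (hW : (W : Matrix (Fin 2) (Fin 2) F) ^ 2 = -1)
    (hWX : (X : Matrix (Fin 2) (Fin 2) F) * W * X = W) :
    ∃ V : Subgroup (ProjectiveSpecialLinearGroup (Fin 2) F), IsPGroup 2 V ∧
      ∃ a ∈ V, ∃ b ∈ V, a * b ≠ b * a := by
  have hneg : (-1 : SpecialLinearGroup (Fin 2) F) ∈
      Subgroup.center (SpecialLinearGroup (Fin 2) F) := by
    apply sl_sq_eq_one h2
    ext i j; simp
  have hX' : X ^ 4 = -1 := by
    ext i j
    have := congrFun (congrFun hX i) j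
    simpa using this
  have hW' : W ^ 2 = -1 := by
    ext i j
    have := congrFun (congrFun hW i) j
    simpa using this
  have hWX' : X * W * X = W := by
    ext i j
    have := congrFun (congrFun hWX i) j
    simpa using this
  set x : ProjectiveSpecialLinearGroup (Fin 2) F := QuotientGroup.mk X with hx
  set w : ProjectiveSpecialLinearGroup (Fin 2) F := QuotientGroup.mk W with hw
  have hx4 : x ^ 2 ^ 2 = 1 := by
    apply psl_pow_of_sl
    change X ^ 4 ∈ _
    rw [hX']; exact hneg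
  have hw2 : w ^ 2 = 1 := by
    apply psl_pow_of_sl
    rw [hW']; exact hneg
  have hwx : x * w * x = w := by
    rw [hx, hw, ← QuotientGroup.mk_mul, ← QuotientGroup.mk_mul, hWX']
  have hwx' : w * x * w⁻¹ = x⁻¹ := by
    rw [eq_inv_iff_mul_eq_one]
    have h3 : w * w = 1 := by rw [← pow_two, hw2]
    have hw' : w⁻¹ = w := by rw [inv_eq_iff_mul_eq_one, h3]
    rw [hw']
    calc w * x * w * x = w * (x * w * x) := by group
      _ = 1 := by rw [hwx, h3]
  obtain ⟨V, hV, hxV, hwV⟩ := isPGroup_of_inverts ⟨2, hx4⟩ hw2 hwx'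
  refine ⟨V, hV, x, hxV, w, hwV, fun h => ?_⟩
  -- then `x ^ 2 = 1`
  have h3 : x ^ 2 = 1 := by
    have h4 : x * w * x = x * x * w := by rw [mul_assoc, ← h]; group
    rw [hwx] at h4
    have h5 : 1 * w = x * x * w := by rw [one_mul]; exact h4
    rw [pow_two]
    exact (mul_right_cancel h5).symm
  have h4 : X ^ 2 ∈ Subgroup.center (SpecialLinearGroup (Fin 2) F) := by
    rw [hx, ← QuotientGroup.mk_pow] at h3
    exact (QuotientGroup.eq_one_iff _).1 h3
  obtain ⟨r, hr, hr'⟩ := Matrix.SpecialLinearGroup.mem_center_iff.1 h4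
  rw [Fintype.card_fin] at hr
  have h5 : (X : Matrix (Fin 2) (Fin 2) F) ^ 4 = 1 := by
    have h6 : (X : Matrix (Fin 2) (Fin 2) F) ^ 2 = scalar (Fin 2) r := by
      rw [hr']; simp
    have h7 : (X : Matrix (Fin 2) (Fin 2) F) ^ 4 = ((X : Matrix (Fin 2) (Fin 2) F) ^ 2) ^ 2 := by
      rw [← pow_mul]
    rw [h7, h6, ← map_pow, hr, map_one]
  rw [hX] at h5
  have h6 := congrFun (congrFun h5 0) 0
  simp at h6
  apply h2
  linear_combination -h6

theorem two_dvd_of_nonab {G : Type*} [Group G] [Finite G] {V : Subgroup G} {p : ℕ}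
    [hp : Fact p.Prime] (hV : IsPGroup p V) (hnc : ∃ a ∈ V, ∃ b ∈ V, a * b ≠ b * a) :
    p ∣ Nat.card G := by
  obtain ⟨a, ha, b, hb, hab⟩ := hnc
  have h1 : Nat.card V ∣ Nat.card G := Subgroup.card_subgroup_dvd_card V
  obtain ⟨k, hk⟩ := hV.exists_card_eq
  have hk0 : k ≠ 0 := by
    rintro rfl
    rw [pow_zero, Subgroup.card_eq_one] at hk
    rw [hk, Subgroup.mem_bot] at ha hb
    rw [ha, hb] at hab
    exact hab rfl
  exact ((dvd_pow_self p hk0).trans (hk ▸ dvd_rfl)).trans h1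

theorem excl_of_matrices [Fintype F] {p : ℕ} [Fact p.Prime] [CharP F p] (h2 : (2 : F) ≠ 0)
    (hodd : Odd (Fintype.card F))
    (h3 : ∃ v m, v.Prime ∧ v ^ m = (Fintype.card F - 1) / 2)
    (h4 : ∃ v m, v.Prime ∧ v ^ m = (Fintype.card F + 1) / 2)
    (X W : SpecialLinearGroup (Fin 2) F)
    (hX : (X : Matrix (Fin 2) (Fin 2) F) ^ 4 = -1) (hW : (W : Matrix (Fin 2) (Fin 2) F) ^ 2 = -1)
    (hWX : (X : Matrix (Fin 2) (Fin 2) F) * W * X = W)
    [IsSimpleGroup (ProjectiveSpecialLinearGroup (Fin 2) F)]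
    (hns : ¬ Group.IsSolvable (ProjectiveSpecialLinearGroup (Fin 2) F))
    (hH : Hyp (ProjectiveSpecialLinearGroup (Fin 2) F)) : False := by
  have hPP : PP (ProjectiveSpecialLinearGroup (Fin 2) F) := by
    intro x
    rcases psl_pow_cases (p := p) h2 hodd x with h | h | h
    · obtain ⟨v, m, hv, hvm⟩ := h3
      exact ⟨v, m, hv, by rw [hvm, h]⟩
    · obtain ⟨v, m, hv, hvm⟩ := h4
      exact ⟨v, m, hv, by rw [hvm, h]⟩
    · exact ⟨p, 1, Fact.out, by rw [pow_one, h]⟩
  obtain ⟨V, hV, hnc⟩ := exists_nonab h2 X W hX hW hWX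
  haveI : Fact (Nat.Prime 2) := ⟨Nat.prime_two⟩
  have hd2 := two_dvd_of_nonab hV hnc
  obtain ⟨a, ha, b, hb, hab⟩ := hnc
  exact hab (comm_two_of_pp hns hH hPP hd2 hV a ha b hb)

theorem charP_of_card [Fintype F] {p : ℕ} (hp : p.Prime) {k : ℕ} (h : Fintype.card F = p ^ k) :
    CharP F p := by
  have h2 : ((Fintype.card F : ℕ) : F) = 0 := FiniteField.cast_card_eq_zero F
  rw [h, Nat.cast_pow] at h2
  have h3 : (p : F) = 0 := eq_zero_of_pow_eq_zero h2
  obtain ⟨q, hq⟩ := CharP.exists F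
  haveI := hq
  have h4 : q ∣ p := (CharP.cast_eq_zero_iff F q p).1 h3
  rcases (Nat.dvd_prime hp).1 h4 with h5 | h5
  · subst h5
    exact absurd (CharP.false_of_nontrivial_of_char_one (R := F)) id
  · exact h5 ▸ hq

theorem excl_psl [Fintype F]
    (hF : Fintype.card F = 7 ∨ Fintype.card F = 9 ∨ Fintype.card F = 17)
    [IsSimpleGroup (ProjectiveSpecialLinearGroup (Fin 2) F)]
    (hns : ¬ Group.IsSolvable (ProjectiveSpecialLinearGroup (Fin 2) F))
    (hH : Hyp (ProjectiveSpecialLinearGroup (Fin 2) F)) : False := by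
  -- diagonal matrices with an eigenvalue of order eight
  have diag : ∀ (p : ℕ) [Fact p.Prime] [CharP F p] (_ : (2 : F) ≠ 0)
    (_ : Odd (Fintype.card F))
    (_ : ∃ v m, v.Prime ∧ v ^ m = (Fintype.card F - 1) / 2)
    (_ : ∃ v m, v.Prime ∧ v ^ m = (Fintype.card F + 1) / 2) (a : F), a ^ 4 = -1 → False := by
    intro p _ _ h2 hodd h3 h4 a ha
    have ha0 : a ≠ 0 := by
      rintro rfl
      rw [zero_pow (by norm_num)] at ha
      exact one_ne_zero (neg_eq_zero.1 ha.symm)
    have hai : a * a⁻¹ = 1 := mul_inv_cancel₀ ha0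
    have hai4 : a⁻¹ ^ 4 = -1 := by rw [_root_.inv_pow, ha, inv_neg, inv_one]
    refine excl_of_matrices (p := p) h2 hodd h3 h4
      ⟨!![a, 0; 0, a⁻¹], by rw [Matrix.det_fin_two_of, hai]; ring⟩
      ⟨!![0, 1; -1, 0], by rw [Matrix.det_fin_two_of]; ring⟩ ?_ ?_ ?_ hns hH
    · change (!![a, 0; 0, a⁻¹] : Matrix (Fin 2) (Fin 2) F) ^ 4 = -1
      have e2 : (!![a, 0; 0, a⁻¹] : Matrix (Fin 2) (Fin 2) F) ^ 2 = !![a ^ 2, 0; 0, a⁻¹ ^ 2] := by
        rw [pow_two]
        ext i j
        fin_cases i <;> fin_cases j <;> simp [Matrix.mul_apply, Fin.sum_univ_two, pow_two]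
      have e4 : (!![a, 0; 0, a⁻¹] : Matrix (Fin 2) (Fin 2) F) ^ 4 = !![a ^ 4, 0; 0, a⁻¹ ^ 4] := by
        have : (!![a, 0; 0, a⁻¹] : Matrix (Fin 2) (Fin 2) F) ^ 4 =
            (!![a, 0; 0, a⁻¹] : Matrix (Fin 2) (Fin 2) F) ^ 2 *
            (!![a, 0; 0, a⁻¹] : Matrix (Fin 2) (Fin 2) F) ^ 2 := by rw [← pow_add]
        rw [this, e2]
        ext i j
        fin_cases i <;> fin_cases j <;> simp [Matrix.mul_apply, Fin.sum_univ_two] <;> ring
      rw [e4, ha, hai4]
      ext i j
      fin_cases i <;> fin_cases j <;> simp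
    · change (!![0, 1; -1, 0] : Matrix (Fin 2) (Fin 2) F) ^ 2 = -1
      rw [pow_two]
      ext i j
      fin_cases i <;> fin_cases j <;> simp [Matrix.mul_apply, Fin.sum_univ_two]
    · change (!![a, 0; 0, a⁻¹] : Matrix (Fin 2) (Fin 2) F) * !![0, 1; -1, 0] * !![a, 0; 0, a⁻¹] =
        !![0, 1; -1, 0]
      ext i j
      fin_cases i <;> fin_cases j <;> simp [Matrix.mul_apply, Fin.sum_univ_two, ha0]
  rcases hF with h | h | h
  · -- seven
    haveI : Fact (Nat.Prime 7) := ⟨by norm_num⟩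
    haveI : CharP F 7 := charP_of_card (by norm_num) (k := 1) (by rw [h, pow_one])
    have h7 : (7 : F) = 0 := by
      have := CharP.cast_eq_zero F 7
      exact_mod_cast this
    have h2 : (2 : F) ≠ 0 := by
      intro h2
      exact one_ne_zero (α := F) (by linear_combination h7 - 3 * h2)
    have hX : (!![0, -1; 1, 3] : Matrix (Fin 2) (Fin 2) F) ^ 4 = -1 := by
      have e2 : (!![0, -1; 1, 3] : Matrix (Fin 2) (Fin 2) F) ^ 2 = !![-1, -3; 3, 1] := by
        rw [pow_two]
        ext i j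
        fin_cases i <;> fin_cases j <;> simp [Matrix.mul_apply, Fin.sum_univ_two]
        linear_combination h7
      have : (!![0, -1; 1, 3] : Matrix (Fin 2) (Fin 2) F) ^ 4 =
          (!![0, -1; 1, 3] : Matrix (Fin 2) (Fin 2) F) ^ 2 *
          (!![0, -1; 1, 3] : Matrix (Fin 2) (Fin 2) F) ^ 2 := by rw [← pow_add]
      rw [this, e2]
      ext i j
      fin_cases i <;> fin_cases j <;> simp [Matrix.mul_apply, Fin.sum_univ_two] <;>
        linear_combination -h7
    refine excl_of_matrices (p := 7) h2 (by rw [h]; decide) ⟨3, 1, by norm_num, by rw [h]; norm_num⟩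
      ⟨2, 2, by norm_num, by rw [h]; norm_num⟩
      ⟨!![0, -1; 1, 3], by rw [Matrix.det_fin_two_of]; ring⟩
      ⟨!![1, 2; -1, -1], by rw [Matrix.det_fin_two_of]; ring⟩ hX ?_ ?_ hns hH
    · change (!![1, 2; -1, -1] : Matrix (Fin 2) (Fin 2) F) ^ 2 = -1
      rw [pow_two]
      ext i j
      fin_cases i <;> fin_cases j <;> simp [Matrix.mul_apply, Fin.sum_univ_two] <;> ring
    · change (!![0, -1; 1, 3] : Matrix (Fin 2) (Fin 2) F) * !![1, 2; -1, -1] * !![0, -1; 1, 3] =
        !![1, 2; -1, -1]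
      ext i j
      fin_cases i <;> fin_cases j <;> simp [Matrix.mul_apply, Fin.sum_univ_two] <;> ring
  · haveI : Fact (Nat.Prime 3) := ⟨by norm_num⟩
    haveI : CharP F 3 := charP_of_card (by norm_num) (k := 2) (by rw [h]; norm_num)
    have h3 : (3 : F) = 0 := by
      have := CharP.cast_eq_zero F 3
      exact_mod_cast this
    have h2 : (2 : F) ≠ 0 := by
      intro h2
      exact one_ne_zero (α := F) (by linear_combination h3 - h2)
    obtain ⟨i, hi⟩ : ∃ i : F, i * i = -1 := by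
      have := (FiniteField.isSquare_neg_one_iff (F := F)).2 (by rw [h]; decide)
      obtain ⟨i, hi⟩ := this
      exact ⟨i, hi.symm⟩
    refine diag 3 h2 (by rw [h]; decide) ⟨2, 2, by norm_num, by rw [h]; norm_num⟩
      ⟨5, 1, by norm_num, by rw [h]; norm_num⟩ (1 + i) ?_
    linear_combination (i ^ 2 + 4 * i + 5) * hi - h3
  · haveI : Fact (Nat.Prime 17) := ⟨by norm_num⟩
    haveI : CharP F 17 := charP_of_card (by norm_num) (k := 1) (by rw [h, pow_one])
    have h17 : (17 : F) = 0 := by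
      have := CharP.cast_eq_zero F 17
      exact_mod_cast this
    have h2 : (2 : F) ≠ 0 := by
      intro h2
      exact one_ne_zero (α := F) (by linear_combination h17 - 8 * h2)
    refine diag 17 h2 (by rw [h]; decide) ⟨2, 3, by norm_num, by rw [h]; norm_num⟩
      ⟨3, 2, by norm_num, by rw [h]; norm_num⟩ 2 ?_
    linear_combination h17

end

end Cfsg.Agent.H528.ClassSize
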